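import Cfsg.Agent.H79.FixTr
import Cfsg.Agent.Blk.Dict

/-!
# Ranks and sizes of blocks of subgroups, transport
(owner: helper79)
-/

set_option autoImplicit false
set_option linter.unusedSectionVars false
set_option linter.style.haveILetI false

universe u v

namespace Cfsg.Agent.H79

open scoped ComplexConjugate
open MonoidAlgebra Cfsg Cfsg.Agent.Blk Cfsg.Agent.CharBase Cfsg.Agent.BlkC Cfsg.Agent.BlkF
  Cfsg.Agent.Star Cfsg.Agent.H4 Cfsg.Agent.BlkInd

theorem blockRank_image {H : Type u} [Group H] {K : Type v} [Group K] (p : ℕ) (φ : H ≃* K)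
    (b : Set (IrrCharacter H)) : blockRank p (irrMap φ '' b) = blockRank p b := by
  classical
  let L : (H → ℂ) ≃ₗ[ℂ] (K → ℂ) := LinearEquiv.funCongrLeft ℂ ℂ φ.symm.toEquiv
  have h1 : ∀ χ : IrrCharacter H, pRegularPart p ((irrMap φ χ : IrrCharacter K) : K → ℂ) =
      L (pRegularPart p (χ : H → ℂ)) := by
    intro χ
    funext y
    change pRegularPart p ((irrMap φ χ : IrrCharacter K) : K → ℂ) y =
      pRegularPart p (χ : H → ℂ) (φ.symm y)
    unfold pRegularPart
    have h2 : IsPRegular p y ↔ IsPRegular p (φ.symm y) := by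
      unfold IsPRegular
      rw [MulEquiv.orderOf_eq φ.symm y]
    by_cases h : IsPRegular p y
    · rw [if_pos h, if_pos (h2.1 h), irrMap_apply]
    · rw [if_neg h, if_neg (fun h' => h (h2.2 h'))]
  unfold blockRank
  rw [Set.image_image, Set.image_congr (fun χ _ => h1 χ),
    ← Set.image_image (fun f => L f) (fun χ : IrrCharacter H => pRegularPart p (χ : H → ℂ))]
  have h3 : (fun f => L f) '' ((fun χ : IrrCharacter H => pRegularPart p (χ : H → ℂ)) '' b) =
      (L : (H → ℂ) →ₗ[ℂ] (K → ℂ)) '' ((fun χ : IrrCharacter H => pRegularPart p (χ : H → ℂ)) '' b) :=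
    rfl
  rw [h3, Submodule.span_image]
  exact LinearEquiv.finrank_map_eq L _

theorem card_image {H : Type u} [Group H] {K : Type v} [Group K] (φ : H ≃* K)
    (b : Set (IrrCharacter H)) : Nat.card ↥(irrMap φ '' b) = Nat.card b :=
  (Nat.card_congr (Equiv.Set.image _ b (irrMap φ).injective)).symm

section

variable {p : ℕ} [hp : Fact p.Prime] {M : Ideal AlgInt} [hMp : M.IsPrime]
  {G : Type u} [Group G] [Fintype G]

/-- the block of characters of `K` with a given block element -/
noncomputable def chB (M : Ideal AlgInt) [M.IsPrime] (K : Subgroup G)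
    (b : MonoidAlgebra (kM M) G) : Set (IrrCharacter K) := by
  classical exact if h : ∃ c : Set (IrrCharacter K), IsPBlock M c ∧ EB M K c = b then
    Classical.choose h else ∅

theorem chB_EB {K : Subgroup G} {c : Set (IrrCharacter K)} (hc : IsPBlock M c) :
    chB M K (EB M K c) = c := by
  have h : ∃ c' : Set (IrrCharacter K), IsPBlock M c' ∧ EB M K c' = EB M K c := ⟨c, hc, rfl⟩
  rw [chB, dif_pos h]
  exact EB_injective (Classical.choose_spec h).1 hc (Classical.choose_spec h).2

theorem chB_spec {K : Subgroup G} {b : MonoidAlgebra (kM M) G} (hb : IsBlk K b) :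
    IsPBlock M (chB M K b) ∧ EB M K (chB M K b) = b := by
  obtain ⟨c, hc, rfl⟩ := exists_EB hb
  rw [chB_EB hc]
  exact ⟨hc, rfl⟩

/-- transport between a subgroup of `H` and a subgroup of `G` -/
theorem image_chB {H : Subgroup G} [Fintype H] {K : Subgroup H} {L : Subgroup G} (φ : K ≃* L)
    (hφ : ∀ x : K, ((φ x : L) : G) = ((x : H) : G)) {b : MonoidAlgebra (kM M) H} (hb : IsBlk K b) :
    chB M L (incl H b) = irrMap φ '' chB M K b := by
  obtain ⟨c, hc, rfl⟩ := exists_EB hb
  rw [chB_EB hc]
  have h1 : incl H (EB M K c) = EB M L (irrMap φ '' c) := by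
    apply Blk.ga_ext
    intro g
    rw [EB_coeff]
    by_cases hg : g ∈ H
    · rw [incl_coeff_of_mem _ hg, EB_coeff]
      congr 1
      unfold subgroupBlockCoeff
      by_cases hgK : (⟨g, hg⟩ : H) ∈ K
      · have hgL : g ∈ L := by
          have := (φ ⟨⟨g, hg⟩, hgK⟩).2
          rwa [hφ] at this
        rw [dif_pos hgK, dif_pos hgL, blockCoeff_image]
        congr 1
        rw [MulEquiv.eq_symm_apply]
        exact Subtype.ext (hφ _)
      · have hgL : ¬ g ∈ L := by
          intro hgL
          apply hgK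
          have h2 := hφ (φ.symm ⟨g, hgL⟩)
          rw [MulEquiv.apply_symm_apply] at h2
          have h3 : (⟨g, hg⟩ : H) = ((φ.symm ⟨g, hgL⟩ : K) : H) := Subtype.ext h2
          rw [h3]
          exact (φ.symm ⟨g, hgL⟩).2
        rw [dif_neg hgK, dif_neg hgL]
    · rw [incl_coeff_of_notMem _ hg]
      unfold subgroupBlockCoeff
      have hgL : ¬ g ∈ L := by
        intro hgL
        apply hg
        have h2 := hφ (φ.symm ⟨g, hgL⟩)
        rw [MulEquiv.apply_symm_apply] at h2
        have h3 : g = (((φ.symm ⟨g, hgL⟩ : K) : H) : G) := h2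
        rw [h3]
        exact ((φ.symm ⟨g, hgL⟩ : K) : H).2
      rw [dif_neg hgL]
      exact rd_zero.symm
  rw [h1, chB_EB (isPBlock_image φ hc)]

/-- rank of a block element of a subgroup -/
noncomputable def rk (p : ℕ) (M : Ideal AlgInt) [M.IsPrime] (K : Subgroup G)
    (b : MonoidAlgebra (kM M) G) : ℕ := blockRank p (chB M K b)

/-- number of characters in the block of a block element of a subgroup -/
noncomputable def nk (M : Ideal AlgInt) [M.IsPrime] (K : Subgroup G)
    (b : MonoidAlgebra (kM M) G) : ℕ := Nat.card (chB M K b)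

theorem rk_EB {K : Subgroup G} {c : Set (IrrCharacter K)} (hc : IsPBlock M c) :
    rk p M K (EB M K c) = blockRank p c := by rw [rk, chB_EB hc]

theorem nk_EB {K : Subgroup G} {c : Set (IrrCharacter K)} (hc : IsPBlock M c) :
    nk M K (EB M K c) = Nat.card c := by rw [nk, chB_EB hc]

/-- the canonical isomorphism -/
noncomputable def mapIso {H : Subgroup G} (K : Subgroup H) : K ≃* K.map H.subtype :=
  K.equivMapOfInjective H.subtype H.subtype_injective

theorem rk_incl {H : Subgroup G} [Fintype H] {K : Subgroup H} {L : Subgroup G}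
    (hL : K.map H.subtype = L) {b : MonoidAlgebra (kM M) H} (hb : IsBlk K b) :
    rk p M L (incl H b) = rk p M K b := by
  subst hL
  rw [rk, rk, image_chB (mapIso K) (fun x => rfl) hb, blockRank_image]

theorem nk_incl {H : Subgroup G} [Fintype H] {K : Subgroup H} {L : Subgroup G}
    (hL : K.map H.subtype = L) {b : MonoidAlgebra (kM M) H} (hb : IsBlk K b) :
    nk M L (incl H b) = nk M K b := by
  subst hL
  rw [nk, nk, image_chB (mapIso K) (fun x => rfl) hb, card_image]

theorem rk_top {B : Set (IrrCharacter G)} (hB : IsPBlock M B) :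
    rk p M ⊤ (eB M B) = blockRank p B := by
  have h1 : eB M B = EB M ⊤ (irrMap (Subgroup.topEquiv (G := G)).symm '' B) := by
    apply Blk.ga_ext
    intro g
    rw [EB_coeff]
    unfold subgroupBlockCoeff
    rw [dif_pos (Subgroup.mem_top g), blockCoeff_image]
    rfl
  rw [h1, rk_EB (isPBlock_image _ hB), blockRank_image]

theorem nk_top {B : Set (IrrCharacter G)} (hB : IsPBlock M B) :
    nk M ⊤ (eB M B) = Nat.card B := by
  have h1 : eB M B = EB M ⊤ (irrMap (Subgroup.topEquiv (G := G)).symm '' B) := by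
    apply Blk.ga_ext
    intro g
    rw [EB_coeff]
    unfold subgroupBlockCoeff
    rw [dif_pos (Subgroup.mem_top g), blockCoeff_image]
    rfl
  rw [h1, nk_EB (isPBlock_image _ hB), card_image]

/-- rank of a block of `C_G(Q)` seen in `H = C_G(Q)` -/
theorem rk_res {H : Subgroup G} [Fintype H] {b : MonoidAlgebra (kM M) G} (hb : IsBlk H b) :
    rk p M (⊤ : Subgroup H) (res H b) = rk p M H b := by
  have h1 : IsBlk (⊤ : Subgroup H) (res H b) := by rw [← isBlk_incl_iff, incl_res hb.supp]; exact hb
  have h2 := rk_incl (p := p) (K := (⊤ : Subgroup H)) (L := H) (by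
    rw [← MonoidHom.range_eq_map, Subgroup.range_subtype]) h1
  rw [incl_res hb.supp] at h2
  exact h2.symm

theorem nk_res {H : Subgroup G} [Fintype H] {b : MonoidAlgebra (kM M) G} (hb : IsBlk H b) :
    nk M (⊤ : Subgroup H) (res H b) = nk M H b := by
  have h1 : IsBlk (⊤ : Subgroup H) (res H b) := by rw [← isBlk_incl_iff, incl_res hb.supp]; exact hb
  have h2 := nk_incl (K := (⊤ : Subgroup H)) (L := H) (by
    rw [← MonoidHom.range_eq_map, Subgroup.range_subtype]) h1
  rw [incl_res hb.supp] at h2
  exact h2.symm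

end

end Cfsg.Agent.H79
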