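import Cfsg.Agent.H79.ModTr

/-!
# Small modular representations: the Sylow subgroup has one Jordan block
-/

set_option autoImplicit false
set_option linter.style.haveILetI false

open Module

namespace Cfsg.Agent.H79.MR

universe u v w

section fitting

variable {k : Type*} [Field k] {W : Type*} [AddCommGroup W] [Module k W] [FiniteDimensional k W]

theorem pow_finrank_eq_zero {U : Module.End k W} {m : ℕ} (h : U ^ m = 0) :
    U ^ (finrank k W) = 0 := by
  have h1 := Module.End.ker_pow_le_ker_pow_finrank U m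
  rw [h] at h1
  ext w
  have h2 : w ∈ LinearMap.ker (0 : Module.End k W) := rfl
  exact h1 h2

/-- A non nilpotent endomorphism has a nonzero idempotent multiple which is a polynomial
in it. -/
theorem exists_idempotent_mul (f : Module.End k W) (hf : ¬ IsNilpotent f) :
    ∃ q : Polynomial k, (f * Polynomial.aeval f q) * (f * Polynomial.aeval f q) =
      f * Polynomial.aeval f q ∧ f * Polynomial.aeval f q ≠ 0 := by
  have hint : IsIntegral k f := Algebra.IsIntegral.isIntegral f
  set μ := minpoly k f with hμ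
  have hμ0 : μ ≠ 0 := minpoly.ne_zero hint
  obtain ⟨ν, hν, hdvd⟩ := Polynomial.exists_eq_pow_rootMultiplicity_mul_and_not_dvd μ hμ0 0
  rw [Polynomial.C_0, sub_zero] at hν hdvd
  set a := μ.rootMultiplicity 0 with ha
  have hcop : IsCoprime (Polynomial.X ^ (a + 1)) ν := by
    apply IsCoprime.pow_left
    exact (Polynomial.irreducible_X.coprime_iff_not_dvd).mpr hdvd
  obtain ⟨α, β, hαβ⟩ := hcop
  have haev : Polynomial.aeval f (Polynomial.X ^ a * ν) = 0 := by
    rw [← hν, hμ]; exact minpoly.aeval k f
  have h1 : f * Polynomial.aeval f (Polynomial.X ^ a * α) =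
      Polynomial.aeval f (α * Polynomial.X ^ (a + 1)) := by
    have h2 : α * Polynomial.X ^ (a + 1) = Polynomial.X * (Polynomial.X ^ a * α) := by ring
    rw [h2, map_mul (Polynomial.aeval f) Polynomial.X _, Polynomial.aeval_X]
  refine ⟨Polynomial.X ^ a * α, ?_, ?_⟩
  · rw [h1, ← map_mul]
    have h2 : α * Polynomial.X ^ (a + 1) * (α * Polynomial.X ^ (a + 1)) =
        α * Polynomial.X ^ (a + 1) - (α * Polynomial.X * β) * (Polynomial.X ^ a * ν) := by
      have h3 : α * Polynomial.X ^ (a + 1) = 1 - β * ν := by rw [← hαβ]; ring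
      calc α * Polynomial.X ^ (a + 1) * (α * Polynomial.X ^ (a + 1))
          = α * Polynomial.X ^ (a + 1) * (1 - β * ν) := by rw [h3]
        _ = _ := by ring
    rw [h2, map_sub, map_mul _ (α * Polynomial.X * β), haev, mul_zero, sub_zero]
  · intro h0
    apply hf
    rw [h1] at h0
    have h2 : Polynomial.aeval f (β * ν) = 1 := by
      have h3 := congrArg (Polynomial.aeval f) hαβ
      rw [map_add, h0, zero_add, map_one] at h3
      exact h3
    refine ⟨a, ?_⟩
    have h4 : Polynomial.aeval f (Polynomial.X ^ a : Polynomial k) = 0 := by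
      calc Polynomial.aeval f (Polynomial.X ^ a : Polynomial k)
          = Polynomial.aeval f (β * ν) * Polynomial.aeval f (Polynomial.X ^ a : Polynomial k) := by
            rw [h2, one_mul]
        _ = Polynomial.aeval f (β * (Polynomial.X ^ a * ν)) := by
            rw [← map_mul, show β * ν * Polynomial.X ^ a = β * (Polynomial.X ^ a * ν) by ring]
        _ = 0 := by rw [map_mul, haev, mul_zero]
    simpa using h4

omit [FiniteDimensional k W] in
theorem trace_eq_zero_of_nilpotent {f : Module.End k W} (h : IsNilpotent f) :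
    LinearMap.trace k W f = 0 :=
  (LinearMap.isNilpotent_trace_of_isNilpotent h).eq_zero

theorem trace_idempotent {e : Module.End k W} (he : e * e = e) :
    LinearMap.trace k W e = (finrank k (LinearMap.range e) : k) := by
  have h1 : IsIdempotentElem e := he
  exact LinearMap.IsProj.trace (LinearMap.isProj_range_iff_isIdempotentElem e |>.mpr h1)

end fitting

section conj

open Subgroup

variable {G : Type u} [Group G] {k : Type v} [Field k] {V : Type w} [AddCommGroup V] [Module k V]

/-- The conjugation action on the endomorphisms. -/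
def adj (ρ : G →* Module.End k V) : G →* Module.End k (Module.End k V) where
  toFun g := (LinearMap.mulLeft k (ρ g)) * (LinearMap.mulRight k (ρ g⁻¹))
  map_one' := by
    ext a v
    simp
  map_mul' g h := by
    ext a v
    simp [mul_assoc]

theorem adj_apply (ρ : G →* Module.End k V) (g : G) (a : Module.End k V) :
    adj ρ g a = ρ g * a * ρ g⁻¹ := by
  show ρ g * (a * ρ g⁻¹) = _
  rw [mul_assoc]

theorem rho_inv (ρ : G →* Module.End k V) (g : G) : ρ g * ρ g⁻¹ = 1 := by
  rw [← map_mul, mul_inv_cancel, map_one]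

theorem rho_inv' (ρ : G →* Module.End k V) (g : G) : ρ g⁻¹ * ρ g = 1 := by
  rw [← map_mul, inv_mul_cancel, map_one]

theorem adj_eq_iff (ρ : G →* Module.End k V) (g : G) (a : Module.End k V) :
    adj ρ g a = a ↔ ρ g * a = a * ρ g := by
  rw [adj_apply]
  constructor
  · intro h
    calc ρ g * a = (ρ g * a * ρ g⁻¹) * ρ g := by rw [mul_assoc, rho_inv', mul_one]
      _ = a * ρ g := by rw [h]
  · intro h
    rw [h, mul_assoc, rho_inv, mul_one]

theorem adj_mul (ρ : G →* Module.End k V) (g : G) (a b : Module.End k V) :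
    adj ρ g (a * b) = adj ρ g a * adj ρ g b := by
  rw [adj_apply, adj_apply, adj_apply]
  calc ρ g * (a * b) * ρ g⁻¹ = ρ g * a * (1 * b) * ρ g⁻¹ := by
        rw [one_mul]; simp only [mul_assoc]
    _ = _ := by rw [← rho_inv' ρ g]; simp only [mul_assoc]

theorem adj_one (ρ : G →* Module.End k V) (g : G) : adj ρ g (1 : Module.End k V) = 1 := by
  rw [adj_apply, mul_one, rho_inv]

theorem trace_adj (ρ : G →* Module.End k V) (g : G) (a : Module.End k V) :
    LinearMap.trace k V (adj ρ g a) = LinearMap.trace k V a := by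
  rw [adj_apply, LinearMap.trace_mul_comm, ← mul_assoc, rho_inv', one_mul]

/-- The unipotent element acts on the endomorphisms with nilpotency class at most `2n - 1`. -/
theorem adj_sub_one_pow (ρ : G →* Module.End k V) (u : G) {n m : ℕ}
    (hU : (ρ u - 1) ^ n = 0) (hm : n + n ≤ m + 1) : (adj ρ u - 1) ^ m = 0 := by
  let L : Module.End k (Module.End k V) := LinearMap.mulLeft k (ρ u - 1)
  let R : Module.End k (Module.End k V) := LinearMap.mulRight k (-(ρ u - 1))
  let y : Module.End k (Module.End k V) := LinearMap.mulRight k (ρ u⁻¹)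
  have hLR : Commute L R := LinearMap.commute_mulLeft_right _ _
  have h1 : adj ρ u - 1 = y * (L + R) := by
    refine LinearMap.ext (fun a => ?_)
    show adj ρ u a - a = ((ρ u - 1) * a + a * (-(ρ u - 1))) * ρ u⁻¹
    rw [adj_apply]
    have : (a * ρ u) * ρ u⁻¹ = a := by rw [mul_assoc, rho_inv, mul_one]
    have h2 : (ρ u - 1) * a = ρ u * a - a := by rw [sub_mul, one_mul]
    have h3 : a * (-(ρ u - 1)) = a - a * ρ u := by rw [mul_neg, mul_sub, mul_one, neg_sub]
    rw [h2, h3, sub_add_sub_cancel, sub_mul, this]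
  have hcu : Commute (ρ u - 1) (ρ u⁻¹) := by
    apply Commute.sub_left _ (Commute.one_left _)
    rw [Commute, SemiconjBy, rho_inv, rho_inv']
  have hyL : Commute y L := (LinearMap.commute_mulLeft_right _ _).symm
  have hyR : Commute y R := by
    refine LinearMap.ext (fun a => ?_)
    show (a * (-(ρ u - 1))) * ρ u⁻¹ = (a * ρ u⁻¹) * (-(ρ u - 1))
    rw [mul_assoc, mul_assoc, hcu.neg_left.eq]
  rw [h1, (hyL.add_right hyR).mul_pow]
  have hz : ∀ a : Module.End k V, a = 0 → LinearMap.mulLeft k a = 0 ∧ LinearMap.mulRight k a = 0 := by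
    rintro a rfl
    constructor
    · ext b v; simp
    · ext b v; simp
  have hLn : L ^ n = 0 := by
    have h2 : L ^ n = LinearMap.mulLeft k ((ρ u - 1) ^ n) :=
      LinearMap.pow_mulLeft k (Module.End k V) (ρ u - 1) n
    rw [h2]
    exact (hz _ hU).1
  have hRn : R ^ n = 0 := by
    have h2 : R ^ n = LinearMap.mulRight k ((-(ρ u - 1)) ^ n) :=
      LinearMap.pow_mulRight k (Module.End k V) (-(ρ u - 1)) n
    rw [h2]
    apply (hz _ _).2
    rcases Nat.even_or_odd n with he | ho
    · rw [he.neg_pow, hU]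
    · rw [ho.neg_pow, hU, neg_zero]
  have h3 : (L + R) ^ m = 0 :=
    Commute.add_pow_eq_zero_of_add_le_succ_of_pow_eq_zero hLR hLn hRn hm
  rw [h3, mul_zero]

end conj

section ml

open Subgroup

theorem commute_aeval {k A : Type*} [Field k] [Ring A] [Algebra k A] {x y : A}
    (h : Commute x y) (q : Polynomial k) : Commute x (Polynomial.aeval y q) := by
  rw [Polynomial.aeval_eq_sum_range]
  exact Commute.sum_right _ _ _ (fun i _ => (h.pow_right i).smul_right _)

variable {G : Type u} [Group G] [Finite G] {p : ℕ} [hp : Fact p.Prime]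

/-- Every element of order `p` is conjugate into a given subgroup of order `p`. -/
theorem exists_conj_mem {u : G} (hu : orderOf u = p) (hsq : ¬ p ^ 2 ∣ Nat.card G) {y : G}
    (hy : y ^ p = 1) : ∃ g : G, g⁻¹ * y * g ∈ zpowers u := by
  have hcard : Nat.card (zpowers u) = p := by rw [Nat.card_zpowers, hu]
  have hP : IsPGroup p (zpowers u) := IsPGroup.of_card (n := 1) (by rw [hcard, pow_one])
  have hY : IsPGroup p (zpowers y) := by
    rw [IsPGroup.iff_card]
    rcases (Nat.dvd_prime hp.out).mp (orderOf_dvd_of_pow_eq_one hy) with h | h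
    · exact ⟨0, by rw [Nat.card_zpowers, h, pow_zero]⟩
    · exact ⟨1, by rw [Nat.card_zpowers, h, pow_one]⟩
  obtain ⟨P, hPle⟩ := hP.exists_le_sylow
  obtain ⟨Q, hQle⟩ := hY.exists_le_sylow
  have hPeq : zpowers u = (P : Subgroup G) := by
    apply Subgroup.eq_of_le_of_card_ge hPle
    obtain ⟨n, hn⟩ := IsPGroup.iff_card.mp P.2
    have hn1 : n ≤ 1 := by
      by_contra hcon
      push Not at hcon
      apply hsq
      refine (pow_dvd_pow p hcon).trans ?_
      rw [← hn]
      exact Subgroup.card_subgroup_dvd_card _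
    rw [hn, hcard]
    calc p ^ n ≤ p ^ 1 := Nat.pow_le_pow_right hp.out.pos hn1
      _ = p := pow_one p
  obtain ⟨g, hg⟩ := MulAction.exists_smul_eq G P Q
  refine ⟨g, ?_⟩
  rw [hPeq]
  have h1 : y ∈ (Q : Subgroup G) := hQle (mem_zpowers y)
  rw [← hg, Sylow.coe_subgroup_smul, Subgroup.mem_pointwise_smul_iff_inv_smul_mem] at h1
  rw [← map_inv, MulAut.smul_def, MulAut.conj_apply, inv_inv] at h1
  exact h1

variable {k : Type v} [Field k] [CharP k p] {V : Type w} [AddCommGroup V] [Module k V]

omit hp [Finite G] in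
theorem sub_one_pow_p [Fact p.Prime] (ρ : G →* Module.End k V) {u : G} (hu : u ^ p = 1) :
    (ρ u - 1) ^ p = 0 := by
  have h1 : ((Polynomial.X - 1 : Polynomial k)) ^ p = Polynomial.X ^ p - 1 := by
    rw [sub_pow_char, one_pow]
  have h2 := congrArg (Polynomial.aeval (ρ u)) h1
  rw [map_pow, map_sub, Polynomial.aeval_X, map_one, map_sub, map_pow, Polynomial.aeval_X,
    map_one, ← map_pow, hu, map_one, sub_self] at h2
  exact h2

variable [FiniteDimensional k V]

/-- The rank one endomorphism attached to `s` and the trace form. -/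
noncomputable def rk1 (s : Module.End k V) : Module.End k (Module.End k V) :=
  ((LinearMap.trace k V) ∘ₗ (LinearMap.mulLeft k s)).smulRight s

omit [FiniteDimensional k V] in
theorem rk1_apply (s w : Module.End k V) : rk1 s w = LinearMap.trace k V (s * w) • s := rfl

theorem trace_rk1 (s : Module.End k V) :
    LinearMap.trace k (Module.End k V) (rk1 s) = LinearMap.trace k V (s * s) := by
  rw [rk1, LinearMap.trace_smulRight]; rfl

omit [Finite G] [FiniteDimensional k V] in
theorem adj_rk1 (ρ : G →* Module.End k V) (g : G) (s : Module.End k V) :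
    adj ρ g * rk1 s * adj ρ g⁻¹ = rk1 (adj ρ g s) := by
  refine LinearMap.ext (fun w => ?_)
  show adj ρ g (rk1 s (adj ρ g⁻¹ w)) = _
  rw [rk1_apply, rk1_apply, map_smul]
  congr 1
  rw [← trace_adj ρ g, adj_mul]
  have h1 : adj ρ g (adj ρ g⁻¹ w) = w := by
    have h2 := rho_inv (adj ρ) g
    exact congrArg (fun a : Module.End k (Module.End k V) => a w) h2
  rw [h1]

/-- In a small irreducible representation no nontrivial idempotent commutes with an element of
order `p`. -/
theorem no_idempotent (ρ : G →* Module.End k V) (u : G) (hu : orderOf u = p)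
    (hsq : ¬ p ^ 2 ∣ Nat.card G) (hgen : Subgroup.closure {g : G | g ^ p = 1} = ⊤)
    (hn : 2 * finrank k V ≤ p)
    (hSchur : ∀ a : Module.End k V, (∀ g : G, ρ g * a = a * ρ g) → ∃ c : k, a = c • 1)
    (e : Module.End k V) (he : e * e = e) (heu : ρ u * e = e * ρ u) : e = 0 ∨ e = 1 := by
  classical
  by_contra hcon
  push Not at hcon
  obtain ⟨he0, he1⟩ := hcon
  set n := finrank k V with hndef
  set a := finrank k (LinearMap.range e) with hadef
  have han : a < n := by
    apply Submodule.finrank_lt
    intro htop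
    apply he1
    refine LinearMap.ext (fun v => ?_)
    obtain ⟨w, hw⟩ := LinearMap.range_eq_top.mp htop v
    rw [← hw]
    exact congrArg (fun b : Module.End k V => b w) he
  have ha0 : 0 < a := by
    rw [hadef, Module.finrank_pos_iff_exists_ne_zero]
    obtain ⟨v, hv⟩ : ∃ v, e v ≠ 0 := by
      by_contra h
      push Not at h
      exact he0 (LinearMap.ext h)
    exact ⟨⟨e v, ⟨v, rfl⟩⟩, fun h => hv (congrArg Subtype.val h)⟩
  have hnz : ∀ m : ℕ, 0 < m → m < p → (m : k) ≠ 0 := by
    intro m hm0 hmp h
    rw [CharP.cast_eq_zero_iff k p] at h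
    exact absurd (Nat.le_of_dvd hm0 h) (by omega)
  have hnp : n < p := by have := hp.out.two_le; omega
  -- the trace zero element
  set e' : Module.End k V := (n : k) • e - (a : k) • 1 with he'
  have htr : LinearMap.trace k V e = (a : k) := trace_idempotent he
  have htr1 : LinearMap.trace k V (1 : Module.End k V) = (n : k) := LinearMap.trace_one k V
  have htr' : LinearMap.trace k V e' = 0 := by
    rw [he', map_sub, map_smul, map_smul, htr, htr1, smul_eq_mul, smul_eq_mul]; ring
  have htr2 : LinearMap.trace k V (e' * e') ≠ 0 := by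
    have h1 : e' * e' = ((n : k) * n - 2 * n * a) • e + ((a : k) * a) • 1 := by
      rw [he', sub_mul, mul_sub, mul_sub, smul_mul_smul_comm, smul_mul_smul_comm,
        smul_mul_smul_comm, smul_mul_smul_comm, he, mul_one, one_mul, mul_one]
      module
    rw [h1, map_add, map_smul, map_smul, htr, htr1, smul_eq_mul, smul_eq_mul]
    have h2 : ((n : k) * n - 2 * n * a) * a + (a : k) * a * n = n * a * ((n - a : ℕ) : k) := by
      rw [Nat.cast_sub han.le]; ring
    rw [h2]
    exact mul_ne_zero (mul_ne_zero (hnz n (by omega) hnp) (hnz a ha0 (by omega)))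
      (hnz (n - a) (by omega) (by omega))
  have he'u : adj ρ u e' = e' := by
    rw [adj_eq_iff, he', mul_sub, sub_mul, mul_smul_comm, smul_mul_assoc, heu,
      mul_smul_comm, smul_mul_assoc, mul_one, one_mul]
  -- the fixed elements
  have hfixP : ∀ w : Module.End k V, adj ρ u w = w → ∀ x ∈ zpowers u, adj ρ x w = w := by
    intro w hw x hx
    let H : Subgroup G :=
      { carrier := {x | adj ρ x w = w}
        mul_mem' := by
          intro a b ha hb
          show adj ρ (a * b) w = w
          rw [map_mul]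
          show adj ρ a (adj ρ b w) = w
          rw [hb, ha]
        one_mem' := by show adj ρ 1 w = w; rw [map_one]; rfl
        inv_mem' := by
          intro a ha
          show adj ρ a⁻¹ w = w
          have h2 := rho_inv' (adj ρ) a
          have h3 : adj ρ a⁻¹ (adj ρ a w) = w :=
            congrArg (fun b : Module.End k (Module.End k V) => b w) h2
          rwa [ha] at h3 }
    have h1 : zpowers u ≤ H := by rw [zpowers_le]; exact hw
    exact h1 hx
  set N := normalizer ((zpowers u : Subgroup G) : Set G) with hN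
  have hPN : zpowers u ≤ N := Subgroup.le_normalizer
  set P' : Subgroup N := (zpowers u).subgroupOf N with hP'
  haveI := Fintype.ofFinite (N ⧸ P')
  let ψ : N ⧸ P' → Module.End k (Module.End k V) := fun q => rk1 (adj ρ (q.out : N) e')
  have hψmk : ∀ m : N, ψ (QuotientGroup.mk m) = rk1 (adj ρ (m : G) e') := by
    intro m
    obtain ⟨x, hx⟩ := QuotientGroup.mk_out_eq_mul P' m
    show rk1 (adj ρ ((QuotientGroup.mk m : N ⧸ P').out : N) e') = _
    rw [hx]
    congr 1
    show adj ρ ((m : G) * ((x : N) : G)) e' = _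
    rw [map_mul]
    show adj ρ (m : G) (adj ρ ((x : N) : G) e') = _
    rw [hfixP e' he'u _ (Subgroup.mem_subgroupOf.mp x.2)]
  have hψact : ∀ (m : N) (q : N ⧸ P'), ψ (m • q) = adj ρ (m : G) * ψ q * adj ρ (m : G)⁻¹ := by
    intro m q
    obtain ⟨r, rfl⟩ := QuotientGroup.mk_surjective q
    have h1 : m • (QuotientGroup.mk r : N ⧸ P') = QuotientGroup.mk (m * r) := rfl
    rw [h1, hψmk, hψmk, adj_rk1]
    congr 1
    show adj ρ ((m : G) * (r : G)) e' = _
    rw [map_mul]; rfl
  set f1 : Module.End k (Module.End k V) := ∑ q : N ⧸ P', ψ q with hf1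
  have hf1N : ∀ m ∈ N, adj ρ m * f1 = f1 * adj ρ m := by
    intro m hm
    have h1 : adj ρ m * f1 * adj ρ m⁻¹ = f1 := by
      rw [hf1, Finset.mul_sum, Finset.sum_mul]
      have h2 : ∀ q, adj ρ m * ψ q * adj ρ m⁻¹ = ψ ((⟨m, hm⟩ : N) • q) :=
        fun q => (hψact ⟨m, hm⟩ q).symm
      simp only [h2]
      exact Fintype.sum_equiv (MulAction.toPerm (⟨m, hm⟩ : N)) _ _ (fun q => rfl)
    calc adj ρ m * f1 = adj ρ m * f1 * (adj ρ m⁻¹ * adj ρ m) := by
          rw [rho_inv' (adj ρ), mul_one]
      _ = (adj ρ m * f1 * adj ρ m⁻¹) * adj ρ m := by simp only [mul_assoc]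
      _ = f1 * adj ρ m := by rw [h1]
  have hf1u : adj ρ u * f1 = f1 := by
    rw [hf1, Finset.mul_sum]
    refine Finset.sum_congr rfl (fun q _ => ?_)
    obtain ⟨r, rfl⟩ := QuotientGroup.mk_surjective q
    rw [hψmk]
    refine LinearMap.ext (fun w => ?_)
    show adj ρ u (rk1 (adj ρ (r : G) e') w) = _
    rw [rk1_apply, map_smul]
    congr 1
    have h1 : u * (r : G) = (r : G) * ((r : G)⁻¹ * u * (r : G)) := by group
    have h2 : adj ρ u (adj ρ (r : G) e') = adj ρ (u * (r : G)) e' := by rw [map_mul]; rfl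
    rw [h2, h1, map_mul]
    show adj ρ (r : G) (adj ρ ((r : G)⁻¹ * u * (r : G)) e') = _
    rw [hfixP e' he'u]
    have h3 := (Subgroup.mem_normalizer_iff.mp (inv_mem r.2)) u
    rw [inv_inv] at h3
    exact h3.mp (mem_zpowers u)
  have hf1tr : ∀ w : Module.End k V, LinearMap.trace k V (f1 w) = 0 := by
    intro w
    rw [hf1, LinearMap.sum_apply, map_sum]
    refine Finset.sum_eq_zero (fun q _ => ?_)
    obtain ⟨r, rfl⟩ := QuotientGroup.mk_surjective q
    rw [hψmk, rk1_apply, map_smul, trace_adj, htr', smul_zero]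
  have hf1nil : ¬ IsNilpotent f1 := by
    intro h
    have h1 := trace_eq_zero_of_nilpotent h
    rw [hf1, map_sum] at h1
    have h2 : ∀ q, LinearMap.trace k (Module.End k V) (ψ q) = LinearMap.trace k V (e' * e') := by
      intro q
      obtain ⟨r, rfl⟩ := QuotientGroup.mk_surjective q
      rw [hψmk, trace_rk1, ← adj_mul, trace_adj]
    simp only [h2] at h1
    rw [Finset.sum_const, nsmul_eq_mul, mul_eq_zero] at h1
    rcases h1 with h3 | h3
    · rw [Finset.card_univ, CharP.cast_eq_zero_iff k p, ← Nat.card_eq_fintype_card] at h3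
      apply hsq
      have h4 : Nat.card (N ⧸ P') * Nat.card P' = Nat.card N := by
        rw [← Subgroup.index_eq_card]; exact Subgroup.index_mul_card P'
      have h5 : Nat.card P' = p := by
        rw [hP', Nat.card_congr (Subgroup.subgroupOfEquivOfLe hPN).toEquiv, Nat.card_zpowers, hu]
      rw [h5] at h4
      have h6 : p ^ 2 ∣ Nat.card N := by
        rw [← h4, pow_two]; exact Nat.mul_dvd_mul h3 dvd_rfl
      exact h6.trans (Subgroup.card_subgroup_dvd_card N)
    · exact htr2 h3
  obtain ⟨q, hff, hf0⟩ := exists_idempotent_mul f1 hf1nil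
  set f := f1 * Polynomial.aeval f1 q with hf
  have hcomm : ∀ m ∈ N, adj ρ m * f = f * adj ρ m := by
    intro m hm
    have h1 : Commute (adj ρ m) f1 := hf1N m hm
    exact (h1.mul_right (commute_aeval h1 q)).eq
  have hfu : adj ρ u * f = f := by rw [hf, ← mul_assoc, hf1u]
  have hUn : (ρ u - 1) ^ n = 0 := by
    apply pow_finrank_eq_zero (m := p)
    exact sub_one_pow_p ρ (by rw [← hu]; exact pow_orderOf_eq_one u)
  have hD : (adj ρ u - 1) ^ (p - 1) = 0 := adj_sub_one_pow ρ u hUn (by omega)
  have hinv := range_invariant (adj ρ) u hu hsq f hff hcomm hD hfu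
  have hfw : ∀ w, f w = w → adj ρ u w = w := by
    intro w hw
    rw [← hw]
    exact congrArg (fun b : Module.End k (Module.End k V) => b w) hfu
  -- the range of `f` is fixed by the group
  have hfix : ∀ w, f w = w → ∀ g : G, adj ρ g w = w := by
    intro w hw g
    let H : Subgroup G :=
      { carrier := {x | adj ρ x w = w}
        mul_mem' := by
          intro a b ha hb
          show adj ρ (a * b) w = w
          rw [map_mul]
          show adj ρ a (adj ρ b w) = w
          rw [hb, ha]
        one_mem' := by show adj ρ 1 w = w; rw [map_one]; rfl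
        inv_mem' := by
          intro a ha
          show adj ρ a⁻¹ w = w
          have h2 := rho_inv' (adj ρ) a
          have h3 : adj ρ a⁻¹ (adj ρ a w) = w :=
            congrArg (fun b : Module.End k (Module.End k V) => b w) h2
          rwa [ha] at h3 }
    have h1 : Subgroup.closure {g : G | g ^ p = 1} ≤ H := by
      rw [Subgroup.closure_le]
      intro y hy
      obtain ⟨g, hg⟩ := exists_conj_mem hu hsq (show y ^ p = 1 from hy)
      show adj ρ y w = w
      have h2 : y = g * (g⁻¹ * y * g) * g⁻¹ := by group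
      rw [h2, map_mul, map_mul]
      show adj ρ g (adj ρ (g⁻¹ * y * g) (adj ρ g⁻¹ w)) = w
      have h3 := hinv g⁻¹ w hw
      rw [hfixP _ (hfw _ h3) _ hg]
      exact congrArg (fun b : Module.End k (Module.End k V) => b w) (rho_inv (adj ρ) g)
    rw [hgen] at h1
    exact h1 (Subgroup.mem_top g)
  apply hf0
  refine LinearMap.ext (fun z => ?_)
  have hz : f (f z) = f z := congrArg (fun b : Module.End k (Module.End k V) => b z) hff
  obtain ⟨c, hc⟩ := hSchur (f z) (fun g => (adj_eq_iff ρ g (f z)).mp (hfix (f z) hz g))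
  have h1 : LinearMap.trace k V (f z) = 0 := hf1tr _
  rw [hc, map_smul, htr1, smul_eq_mul, mul_eq_zero] at h1
  rcases h1 with h2 | h2
  · rw [hc, h2, zero_smul]; rfl
  · exact absurd h2 (hnz n (by omega) hnp)

/-- In a small irreducible representation an element of order `p` has one Jordan block. -/
theorem jordan (ρ : G →* Module.End k V) (u : G) (hu : orderOf u = p)
    (hsq : ¬ p ^ 2 ∣ Nat.card G) (hgen : Subgroup.closure {g : G | g ^ p = 1} = ⊤)
    (hn : 2 * finrank k V ≤ p) (hn0 : 0 < finrank k V)
    (hSchur : ∀ a : Module.End k V, (∀ g : G, ρ g * a = a * ρ g) → ∃ c : k, a = c • 1) :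
    (ρ u - 1) ^ (finrank k V - 1) ≠ 0 := by
  classical
  set n := finrank k V with hndef
  set U := ρ u - 1 with hU
  have hUn : U ^ n = 0 := by
    apply pow_finrank_eq_zero (m := p)
    exact sub_one_pow_p ρ (by rw [← hu]; exact pow_orderOf_eq_one u)
  intro hcon
  -- the nilpotency class
  have hex : ∃ a, U ^ a = 0 := ⟨n, hUn⟩
  set a := Nat.find hex with ha
  have haz : U ^ a = 0 := Nat.find_spec hex
  have ha0 : a ≠ 0 := by
    intro h0
    rw [h0, pow_zero] at haz
    have : Nontrivial V := Module.nontrivial_of_finrank_pos hn0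
    exact one_ne_zero haz
  have han : a < n := lt_of_le_of_lt (Nat.find_min' hex hcon) (by omega)
  have ha1 : U ^ (a - 1) ≠ 0 := Nat.find_min hex (by omega)
  obtain ⟨v, hv⟩ : ∃ v, (U ^ (a - 1)) v ≠ 0 := by
    by_contra h
    push Not at h
    exact ha1 (LinearMap.ext h)
  obtain ⟨ψ, hψ⟩ : ∃ ψ : Module.Dual k V, ψ ((U ^ (a - 1)) v) = 1 :=
    Module.Projective.exists_dual_eq_one k hv
  obtain ⟨b, hb⟩ : ∃ b, a = b + 1 := ⟨a - 1, by omega⟩
  rw [hb] at haz ha1 hv hψ han
  rw [Nat.add_sub_cancel] at ha1 hv hψ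
  let m : Module.End k V := ∑ j ∈ Finset.range (b + 1),
    (ψ ∘ₗ (U ^ (b - j))).smulRight ((U ^ j) v)
  have hm : ∀ w, m w = ∑ j ∈ Finset.range (b + 1), ψ ((U ^ (b - j)) w) • (U ^ j) v := by
    intro w
    show (∑ j ∈ Finset.range (b + 1), (ψ ∘ₗ (U ^ (b - j))).smulRight ((U ^ j) v)) w = _
    rw [LinearMap.sum_apply]
    rfl
  have hmU : Commute U m := by
    refine LinearMap.ext (fun w => ?_)
    show U (m w) = m (U w)
    rw [hm, hm, map_sum, Finset.sum_range_succ, Finset.sum_range_succ']
    have h1 : U (ψ ((U ^ (b - b)) w) • (U ^ b) v) = 0 := by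
      rw [map_smul]
      have h2 : U ((U ^ b) v) = (U ^ (b + 1)) v := by rw [pow_succ']; rfl
      rw [h2, haz]; simp
    have h3 : ψ ((U ^ (b - 0)) (U w)) • (U ^ 0) v = 0 := by
      have h2 : (U ^ (b - 0)) (U w) = (U ^ (b + 1)) w := by rw [Nat.sub_zero, pow_succ]; rfl
      rw [h2, haz]; simp
    rw [h1, h3, add_zero, add_zero]
    refine Finset.sum_congr rfl (fun j hj => ?_)
    have hjb := Finset.mem_range.mp hj
    rw [map_smul]
    have h4 : U ((U ^ j) v) = (U ^ (j + 1)) v := by rw [pow_succ']; rfl
    have h5 : (U ^ (b - (j + 1))) (U w) = (U ^ (b - j)) w := by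
      have h6 : b - j = (b - (j + 1)) + 1 := by omega
      rw [h6, pow_succ]; rfl
    rw [h4, h5]
  have hmfix : m ((U ^ b) v) = (U ^ b) v := by
    rw [hm, Finset.sum_range_succ, Finset.sum_eq_zero, zero_add, Nat.sub_self, pow_zero]
    · show ψ ((U ^ b) v) • (U ^ b) v = _
      rw [hψ, one_smul]
    · intro j hj
      have hjb := Finset.mem_range.mp hj
      have h1 : (U ^ (b - j)) ((U ^ b) v) = 0 := by
        have h2 : (U ^ (b - j)) ((U ^ b) v) = (U ^ (b - j + b)) v := by rw [pow_add]; rfl
        obtain ⟨r, hr⟩ : ∃ r, b - j + b = r + (b + 1) := ⟨b - j - 1, by omega⟩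
        rw [h2, hr, pow_add, haz, mul_zero]; rfl
      rw [h1, map_zero, zero_smul]
  have hmnil : ¬ IsNilpotent m := by
    rintro ⟨r, hr⟩
    have h1 : ∀ r : ℕ, (m ^ r) ((U ^ b) v) = (U ^ b) v := by
      intro r
      induction r with
      | zero => rfl
      | succ r ih =>
        rw [pow_succ']
        show m ((m ^ r) ((U ^ b) v)) = _
        rw [ih, hmfix]
    have h2 := h1 r
    rw [hr] at h2
    exact hv h2.symm
  obtain ⟨q, he, he0⟩ := exists_idempotent_mul m hmnil
  set e := m * Polynomial.aeval m q with hedef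
  have heU : Commute U e := hmU.mul_right (commute_aeval hmU q)
  have heu : ρ u * e = e * ρ u := by
    have h1 : ρ u = U + 1 := by rw [hU, sub_add_cancel]
    rw [h1, add_mul, mul_add, heU.eq, one_mul, mul_one]
  rcases no_idempotent ρ u hu hsq hgen hn hSchur e he heu with h | h
  · exact he0 h
  · -- the range is too small
    have h1 : (⊤ : Submodule k V) ≤
        Submodule.span k ((Finset.range (b + 1)).image (fun j => (U ^ j) v) : Set V) := by
      intro w _
      have h2 : w = m (Polynomial.aeval m q w) := by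
        have h3 : e w = w := by rw [h]; rfl
        exact h3.symm
      rw [h2, hm]
      refine Submodule.sum_mem _ (fun j hj => Submodule.smul_mem _ _ (Submodule.subset_span ?_))
      exact Finset.mem_coe.mpr (Finset.mem_image_of_mem _ hj)
    have h2 := Submodule.finrank_mono h1
    rw [finrank_top] at h2
    have h3 := finrank_span_finset_le_card (R := k) ((Finset.range (b + 1)).image
      (fun j => (U ^ j) v))
    have h4 : ((Finset.range (b + 1)).image (fun j => (U ^ j) v)).card ≤ b + 1 := by
      refine Finset.card_image_le.trans ?_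
      rw [Finset.card_range]
    have h5 : finrank k (Submodule.span k
      ((Finset.range (b + 1)).image (fun j => (U ^ j) v) : Set V)) ≤ b + 1 := h3.trans h4
    omega

end ml

end Cfsg.Agent.H79.MR
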