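import Mathlib
import Cfsg.Agent.Dk.PSL
import Cfsg.Agent.H79.ModJ

/-! Elementary facts on `PSL(2,p)`: squares in the normalizer of a Sylow `p`-subgroup,
endomorphisms fixing an element of order `p`, trivial centre. -/

set_option autoImplicit false

namespace Cfsg.Agent.H79.MR

open Subgroup Matrix
open scoped MatrixGroups
open Cfsg.Agent
open Cfsg.Agent.H81 (xx yy xx_val yy_val xx_pow yy_pow)

section

variable {k : Type*} [Field k]

/-- The class of a matrix. -/
noncomputable def cl : SL(2, k) →* PSL(2, k) := QuotientGroup.mk' _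

theorem cl_surj (q : PSL(2, k)) : ∃ s : SL(2, k), cl s = q := QuotientGroup.mk'_surjective _ q

theorem cl_eq_one {s : SL(2, k)} : cl s = 1 ↔ s = 1 ∨ s = -1 := by
  have h0 : cl s = 1 ↔ s ∈ Subgroup.center SL(2, k) := QuotientGroup.eq_one_iff s
  rw [h0, Matrix.SpecialLinearGroup.mem_center_iff]
  constructor
  · rintro ⟨r, hr, hs⟩
    have h2 : r ^ 2 = 1 := hr
    have h1 : (r - 1) * (r + 1) = 0 := by linear_combination h2
    rcases mul_eq_zero.mp h1 with h3 | h3
    · left
      apply Subtype.ext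
      rw [← hs, sub_eq_zero.mp h3, map_one]; rfl
    · right
      apply Subtype.ext
      rw [← hs, eq_neg_of_add_eq_zero_left h3, map_neg, map_one]; rfl
  · rintro (rfl | rfl)
    · exact ⟨1, one_pow _, by rw [map_one]; rfl⟩
    · refine ⟨-1, ?_, by rw [map_neg, map_one]; rfl⟩
      rw [Fintype.card_fin]; norm_num

theorem cl_eq_cl {s t : SL(2, k)} : cl s = cl t ↔ s = t ∨ s = -t := by
  have h1 : cl s = cl t ↔ cl (s * t⁻¹) = 1 := by
    rw [map_mul, map_inv, mul_inv_eq_one]
  rw [h1, cl_eq_one, mul_inv_eq_one, mul_inv_eq_iff_eq_mul, neg_mul, one_mul]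

variable (k) in
/-- The standard element of order `p`. -/
noncomputable def w0 : PSL(2, k) := cl (xx 1)

variable (k) in
/-- The opposite element. -/
noncomputable def y0 : PSL(2, k) := cl (yy (-1))

theorem w0_pow (n : ℕ) : w0 k ^ n = cl (xx (n : k)) := by
  have h := xx_pow (1 : k) n
  rw [mul_one] at h
  rw [← h, map_pow]
  rfl

theorem y0_pow (n : ℕ) : y0 k ^ n = cl (yy (-(n : k))) := by
  have h := yy_pow (-1 : k) n
  rw [mul_neg, mul_one] at h
  rw [← h, map_pow]
  rfl

theorem w0_ne_one : w0 k ≠ 1 := by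
  intro h
  unfold w0 at h
  rw [cl_eq_one] at h
  rcases h with h | h
  · have h1 : (xx (1 : k)).1 0 1 = 0 := by rw [h]; rfl
    rw [xx_val] at h1
    exact one_ne_zero h1
  · have h1 : (xx (1 : k)).1 0 1 = 0 := by
      rw [h]
      show (-(1 : Matrix (Fin 2) (Fin 2) (k))) 0 1 = 0
      rw [Matrix.neg_apply, Matrix.one_apply_ne (by decide), neg_zero]
    rw [xx_val] at h1
    exact one_ne_zero h1

/-- The centre of `PSL(2,p)` is trivial. -/
theorem center_Q (h20 : (2 : k) ≠ 0) {z : PSL(2, k)} (h1 : z * w0 k = w0 k * z)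
    (h2 : z * y0 k = y0 k * z) : z = 1 := by
  obtain ⟨s, rfl⟩ := cl_surj z
  have hdet : s.1 0 0 * s.1 1 1 - s.1 0 1 * s.1 1 0 = 1 := by
    have h3 := s.2
    rw [Matrix.det_fin_two] at h3
    exact h3
  obtain ⟨a, ha⟩ : ∃ a, a = s.1 0 0 := ⟨_, rfl⟩
  obtain ⟨b, hb⟩ : ∃ a, a = s.1 0 1 := ⟨_, rfl⟩
  obtain ⟨c, hc⟩ : ∃ a, a = s.1 1 0 := ⟨_, rfl⟩
  obtain ⟨d, hd⟩ : ∃ a, a = s.1 1 1 := ⟨_, rfl⟩
  rw [← ha, ← hb, ← hc, ← hd] at hdet
  have hsv : s.1 = !![a, b; c, d] := by
    rw [ha, hb, hc, hd]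
    ext i j
    fin_cases i <;> fin_cases j <;> rfl
  unfold w0 at h1
  unfold y0 at h2
  rw [← map_mul, ← map_mul] at h1 h2
  have hcd : c = 0 ∧ a = d := by
    rcases cl_eq_cl.mp h1 with h3 | h3
    · have h4 : (!![a, b; c, d] * !![1, 1; 0, 1] : Matrix (Fin 2) (Fin 2) k) =
          !![1, 1; 0, 1] * !![a, b; c, d] := by
        have := congrArg Subtype.val h3
        rw [← hsv]; exact this
      have e1 := congrFun (congrFun h4 0) 0
      have e2 := congrFun (congrFun h4 0) 1
      simp [Matrix.mul_apply, Fin.sum_univ_two] at e1 e2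
      exact ⟨e1, by linear_combination e2⟩
    · exfalso
      have h4 : (!![a, b; c, d] * !![1, 1; 0, 1] : Matrix (Fin 2) (Fin 2) k) =
          -(!![1, 1; 0, 1] * !![a, b; c, d]) := by
        have := congrArg Subtype.val h3
        rw [← hsv]; exact this
      have e1 : a = -(a + c) := by
        have := congrFun (congrFun h4 0) 0
        simpa [Matrix.mul_apply, Fin.sum_univ_two] using this
      have e3 : c = - c := by
        have := congrFun (congrFun h4 1) 0
        simpa [Matrix.mul_apply, Fin.sum_univ_two] using this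
      have hc0 : c = 0 := by
        have : 2 * c = 0 := by linear_combination e3
        exact (mul_eq_zero.mp this).resolve_left h20
      have ha0 : a = 0 := by
        have : 2 * a = 0 := by linear_combination e1 - hc0
        exact (mul_eq_zero.mp this).resolve_left h20
      rw [hc0, ha0] at hdet
      simp at hdet
  have hb0 : b = 0 := by
    rcases cl_eq_cl.mp h2 with h3 | h3
    · have h4 : (!![a, b; c, d] * !![1, 0; -1, 1] : Matrix (Fin 2) (Fin 2) k) =
          !![1, 0; -1, 1] * !![a, b; c, d] := by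
        have := congrArg Subtype.val h3
        rw [← hsv]; exact this
      have e1 : a - b = a := by
        have := congrFun (congrFun h4 0) 0
        simp [Matrix.mul_apply, Fin.sum_univ_two] at this
        linear_combination -this
      linear_combination -e1
    · exfalso
      have h4 : (!![a, b; c, d] * !![1, 0; -1, 1] : Matrix (Fin 2) (Fin 2) k) =
          -(!![1, 0; -1, 1] * !![a, b; c, d]) := by
        have := congrArg Subtype.val h3
        rw [← hsv]; exact this
      have e1 : a - b = -a := by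
        have := congrFun (congrFun h4 0) 0
        simp [Matrix.mul_apply, Fin.sum_univ_two] at this
        linear_combination this
      have e3 : b = - b := by
        have := congrFun (congrFun h4 0) 1
        simpa [Matrix.mul_apply, Fin.sum_univ_two] using this
      have hb0 : b = 0 := by
        have : 2 * b = 0 := by linear_combination e3
        exact (mul_eq_zero.mp this).resolve_left h20
      have ha0 : a = 0 := by
        have : 2 * a = 0 := by linear_combination e1 + hb0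
        exact (mul_eq_zero.mp this).resolve_left h20
      rw [hb0, ha0] at hdet
      simp at hdet
  rw [cl_eq_one]
  have h3 : (a - 1) * (a + 1) = 0 := by
    rw [← hcd.2, hcd.1] at hdet
    linear_combination hdet
  rcases mul_eq_zero.mp h3 with h4 | h4
  · left
    have h5 : a = 1 := sub_eq_zero.mp h4
    apply Subtype.ext
    rw [hsv, ← hcd.2, hcd.1, hb0, h5]
    ext i j
    fin_cases i <;> fin_cases j <;> rfl
  · right
    have h5 : a = -1 := eq_neg_of_add_eq_zero_left h4
    apply Subtype.ext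
    rw [hsv, ← hcd.2, hcd.1, hb0, h5]
    show !![(-1 : k), 0; 0, -1] = -(1 : Matrix (Fin 2) (Fin 2) k)
    ext i j
    fin_cases i <;> fin_cases j <;> simp

/-- the diagonal element acts by a square -/
theorem conj_w0 {a : ℕ} (ha0 : (a : k) ≠ 0) : ∃ d : PSL(2, k), d * w0 k * d⁻¹ = w0 k ^ (a ^ 2) := by
  let d : SL(2, k) := ⟨!![(a : k), 0; 0, (a : k)⁻¹], by
    rw [Matrix.det_fin_two]
    simp [mul_inv_cancel₀ ha0]⟩
  refine ⟨cl d, ?_⟩
  rw [w0_pow, mul_inv_eq_iff_eq_mul]
  unfold w0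
  rw [← map_mul, ← map_mul]
  congr 1
  apply Subtype.ext
  show !![(a : k), 0; 0, (a : k)⁻¹] * (xx (1 : k)).1 =
    (xx ((a ^ 2 : ℕ) : k)).1 * !![(a : k), 0; 0, (a : k)⁻¹]
  rw [xx_val, xx_val]
  ext i j
  fin_cases i <;> fin_cases j <;> simp [Matrix.mul_apply, Fin.sum_univ_two]
  field_simp

variable {p : ℕ} [hp : Fact p.Prime] [CharP k p]

theorem orderOf_w0 : orderOf (w0 k) = p := by
  apply orderOf_eq_prime
  · rw [w0_pow, CharP.cast_eq_zero, cl_eq_one]
    left
    exact Dk.xx_zero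
  · exact w0_ne_one

omit hp in
theorem y0_pow_p : y0 k ^ p = 1 := by
  rw [y0_pow, CharP.cast_eq_zero, neg_zero, cl_eq_one]
  left
  apply Subtype.ext
  rw [yy_val]
  ext i j
  fin_cases i <;> fin_cases j <;> rfl

theorem card_Q [Finite k] (hk : Nat.card k = p) :
    p ∣ Nat.card PSL(2, k) ∧ ¬ p ^ 2 ∣ Nat.card PSL(2, k) := by
  constructor
  · have := orderOf_dvd_natCard (w0 k)
    rwa [orderOf_w0 (p := p)] at this
  · intro h
    have h1 := Dk.card_psl (F := k)
    rw [hk] at h1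
    have h2 : p ^ 2 ∣ p * ((p - 1) * (p + 1)) := by
      rw [← h1]; exact h.mul_left _
    rw [pow_two] at h2
    have h3 : p ∣ (p - 1) * (p + 1) := Nat.dvd_of_mul_dvd_mul_left hp.out.pos h2
    have hp2 := hp.out.two_le
    rcases hp.out.dvd_mul.mp h3 with h4 | h4
    · have := Nat.le_of_dvd (by omega) h4
      omega
    · have h5 : p ∣ 1 := (Nat.dvd_add_right (dvd_refl p)).mp h4
      exact hp.out.one_lt.ne' (Nat.dvd_one.mp h5)

theorem exists_conj_w0 [Finite k] (hk : Nat.card k = p) {v : PSL(2, k)} (hv : orderOf v = p) :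
    ∃ (q : PSL(2, k)) (j : ℕ), ¬ p ∣ j ∧ v = q * w0 k ^ j * q⁻¹ := by
  have hvp : v ^ p = 1 := by
    have := pow_orderOf_eq_one v
    rwa [hv] at this
  obtain ⟨q, hq⟩ := exists_conj_mem (orderOf_w0 (k := k) (p := p)) (card_Q hk).2 hvp
  rw [← mem_powers_iff_mem_zpowers] at hq
  obtain ⟨j, hj⟩ := hq
  have hj : w0 k ^ j = q⁻¹ * v * q := hj
  refine ⟨q, j, ?_, ?_⟩
  · rintro ⟨m, rfl⟩
    have h0 : w0 k ^ p = 1 := by
      have := pow_orderOf_eq_one (w0 k)
      rwa [orderOf_w0 (p := p)] at this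
    rw [pow_mul, h0, one_pow] at hj
    have h1 : v = 1 := by
      have : v = q * (q⁻¹ * v * q) * q⁻¹ := by group
      rw [this, ← hj]; group
    rw [h1, orderOf_one] at hv
    exact hp.out.one_lt.ne hv
  · rw [hj]; group

theorem conj_sq [Finite k] (hk : Nat.card k = p) {v : PSL(2, k)} (hv : orderOf v = p) {a : ℕ}
    (ha : ¬ p ∣ a) : ∃ d : PSL(2, k), d * v * d⁻¹ = v ^ (a ^ 2) := by
  obtain ⟨q, j, -, rfl⟩ := exists_conj_w0 hk hv
  have ha0 : (a : k) ≠ 0 := by
    intro h
    rw [CharP.cast_eq_zero_iff k p] at h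
    exact ha h
  obtain ⟨d, hd⟩ := conj_w0 ha0
  refine ⟨q * d * q⁻¹, ?_⟩
  have h1 : (w0 k ^ j) ^ (a ^ 2) = d * w0 k ^ j * d⁻¹ := by
    rw [← pow_mul, mul_comm j, pow_mul, ← hd, conj_pow]
  rw [conj_pow, h1]
  group

variable (hn : ∀ a : k, ∃ n : ℕ, (n : k) = a)
include hn

omit hp [CharP k p] in
/-- The two elements generate. -/
theorem top_of_mem {T : Subgroup PSL(2, k)} (h1 : w0 k ∈ T) (h2 : y0 k ∈ T) : T = ⊤ := by
  have h3 : T.comap cl = ⊤ := by
    apply Dk.sl2_top
    · intro a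
      obtain ⟨n, rfl⟩ := hn a
      show cl (xx (n : k)) ∈ T
      rw [← w0_pow]
      exact pow_mem h1 _
    · intro a
      obtain ⟨n, h⟩ := hn (-a)
      have h4 : a = -(n : k) := by rw [h, neg_neg]
      show cl (yy a) ∈ T
      rw [h4, ← y0_pow]
      exact pow_mem h2 _
  rw [eq_top_iff]
  intro q _
  obtain ⟨s, rfl⟩ := cl_surj q
  have h4 : s ∈ T.comap cl := by
    rw [h3]; exact Subgroup.mem_top s
  exact h4

/-- An injective endomorphism fixing the standard element is inner. -/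
theorem end_w0 (hp2 : p ≠ 2) (α : PSL(2, k) →* PSL(2, k)) (hα : Function.Injective α)
    (hw : α (w0 k) = w0 k) : ∃ i : ℕ, ∀ q, α q = w0 k ^ i * q * (w0 k ^ i)⁻¹ := by
  have h2 : (2 : k) ≠ 0 := by
    intro h
    have h3 : ((2 : ℕ) : k) = 0 := by exact_mod_cast h
    rw [CharP.cast_eq_zero_iff k p] at h3
    exact hp2 ((Nat.prime_dvd_prime_iff_eq hp.out Nat.prime_two).mp h3)
  -- a unipotent lift
  obtain ⟨s, hs, hsp⟩ : ∃ s : SL(2, k), cl s = α (y0 k) ∧ s ^ p = 1 := by
    obtain ⟨s, hs⟩ := cl_surj (α (y0 k))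
    have h3 : cl (s ^ p) = 1 := by
      rw [map_pow, hs, ← map_pow, y0_pow_p, map_one]
    rcases cl_eq_one.mp h3 with h4 | h4
    · exact ⟨s, hs, h4⟩
    · refine ⟨-s, ?_, ?_⟩
      · rw [← hs, cl_eq_cl]; right; rfl
      · have hodd : Odd p := hp.out.odd_of_ne_two hp2
        rw [hodd.neg_pow, h4, neg_neg]
  have hdet : s.1 0 0 * s.1 1 1 - s.1 0 1 * s.1 1 0 = 1 := by
    have h3 := s.2
    rw [Matrix.det_fin_two] at h3
    exact h3
  have htr : s.1 0 0 + s.1 1 1 = 2 := by
    have h3 : (s.1 - 1) ^ p = 0 := by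
      have h4 : s.1 ^ p = 1 := by
        have := congrArg Subtype.val hsp
        exact this
      have h5 : ((Polynomial.X - 1 : Polynomial (k))) ^ p = Polynomial.X ^ p - 1 := by
        rw [sub_pow_char, one_pow]
      have h6 := congrArg (Polynomial.aeval s.1) h5
      rw [map_pow, map_sub, Polynomial.aeval_X, map_one, map_sub, map_pow, Polynomial.aeval_X,
        map_one, h4, sub_self] at h6
      exact h6
    have h4 : IsNilpotent (s.1 - 1) := ⟨p, h3⟩
    have h5 := (Matrix.isNilpotent_trace_of_isNilpotent h4).eq_zero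
    rw [Matrix.trace_sub, Matrix.trace_one, Matrix.trace_fin_two] at h5
    simp at h5
    linear_combination h5
  -- the relation
  have hrel : (w0 k * y0 k * w0 k) ^ 2 = 1 := by
    unfold w0 y0
    rw [← map_mul, ← map_mul, ← map_pow, cl_eq_one]
    right
    apply Subtype.ext
    rw [pow_two]
    show ((xx (1 : k)).1 * (yy (-1)).1 * (xx 1).1) * ((xx 1).1 * (yy (-1)).1 * (xx 1).1) = -1
    rw [xx_val, yy_val]
    ext i j
    fin_cases i <;> fin_cases j <;> simp [Matrix.mul_apply, Fin.sum_univ_two]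
  have hrel2 : cl ((xx 1 * s * xx 1) ^ 2) = 1 := by
    rw [map_pow, map_mul, map_mul, hs]
    have h3 : cl (xx (1 : k)) = α (w0 k) := hw.symm
    rw [h3, ← map_mul, ← map_mul, ← map_pow, hrel, map_one]
  obtain ⟨a, ha⟩ : ∃ a, a = s.1 0 0 := ⟨_, rfl⟩
  obtain ⟨b, hb⟩ : ∃ a, a = s.1 0 1 := ⟨_, rfl⟩
  obtain ⟨c, hc⟩ : ∃ a, a = s.1 1 0 := ⟨_, rfl⟩
  obtain ⟨d, hd⟩ : ∃ a, a = s.1 1 1 := ⟨_, rfl⟩
  rw [← ha, ← hb, ← hc, ← hd] at hdet
  rw [← ha, ← hd] at htr
  have hsv : s.1 = !![a, b; c, d] := by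
    rw [ha, hb, hc, hd]
    ext i j
    fin_cases i <;> fin_cases j <;> rfl
  have hm : ((xx 1 * s * xx 1) ^ 2 : SL(2, k)).1 =
      ((!![1, 1; 0, 1] * !![a, b; c, d] * !![1, 1; 0, 1]) *
        (!![1, 1; 0, 1] * !![a, b; c, d] * !![1, 1; 0, 1]) : Matrix (Fin 2) (Fin 2) k) := by
    rw [pow_two]
    show ((xx (1 : k)).1 * s.1 * (xx 1).1) * ((xx 1).1 * s.1 * (xx 1).1) = _
    rw [xx_val, hsv]
  have hoff : ((xx 1 * s * xx 1) ^ 2 : SL(2, k)).1 1 0 = 0 ∧
      ((xx 1 * s * xx 1) ^ 2 : SL(2, k)).1 0 1 = 0 := by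
    rcases cl_eq_one.mp hrel2 with h3 | h3
    · rw [h3]; exact ⟨rfl, rfl⟩
    · rw [h3]
      constructor
      · show (-(1 : Matrix (Fin 2) (Fin 2) k)) 1 0 = 0
        rw [Matrix.neg_apply, Matrix.one_apply_ne (by decide), neg_zero]
      · show (-(1 : Matrix (Fin 2) (Fin 2) k)) 0 1 = 0
        rw [Matrix.neg_apply, Matrix.one_apply_ne (by decide), neg_zero]
  rw [hm] at hoff
  have e1 : c * (a + 2 * c + d) = 0 := by
    rw [← hoff.1]
    simp [Matrix.mul_apply, Fin.sum_univ_two]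
    ring
  have e2 : (a + b + c + d) * (a + 2 * c + d) = 0 := by
    rw [← hoff.2]
    simp [Matrix.mul_apply, Fin.sum_univ_two]
    ring
  have hc1 : c = -1 := by
    by_contra hc1
    have h3 : a + 2 * c + d ≠ 0 := by
      intro h4
      apply hc1
      have h5 : 2 * (c + 1) = 0 := by linear_combination h4 - htr
      have h6 := (mul_eq_zero.mp h5).resolve_left h2
      exact eq_neg_of_add_eq_zero_left h6
    have h4 : c = 0 := (mul_eq_zero.mp e1).resolve_right h3
    have h5 : a + b + c + d = 0 := (mul_eq_zero.mp e2).resolve_right h3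
    have h6 : b = -2 := by linear_combination h5 - htr - h4
    have h7 : (a - 1) ^ 2 = 0 := by
      linear_combination (-1 : k) * hdet + a * htr - b * h4
    have h8 : a = 1 := sub_eq_zero.mp ((pow_eq_zero_iff two_ne_zero).mp h7)
    have h9 : d = 1 := by linear_combination htr - h8
    have h10 : s = xx (-2) := by
      apply Subtype.ext
      rw [hsv, xx_val, h8, h6, h4, h9]
    obtain ⟨m, hm⟩ := hn (-2)
    have h11 : α (y0 k) = α (cl (xx (-2))) := by
      rw [← hm, ← w0_pow, map_pow, hw, w0_pow, hm, ← hs, h10]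
    have h12 := hα h11
    unfold y0 at h12
    rcases cl_eq_cl.mp h12 with h13 | h13
    · have h14 : (yy (-1 : k)).1 1 0 = (xx (-2 : k)).1 1 0 := by rw [h13]
      rw [yy_val, xx_val] at h14
      exact one_ne_zero (neg_eq_zero.mp h14)
    · have h14 : (yy (-1 : k)).1 1 0 = (-(xx (-2 : k)).1) 1 0 := by rw [h13]; rfl
      rw [yy_val, xx_val] at h14
      simp at h14
  -- the translation
  have hb1 : b = (a - 1) ^ 2 := by
    have h3 : d = 2 - a := by linear_combination htr
    rw [hc1, h3] at hdet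
    linear_combination hdet
  have hd1 : d = 2 - a := by linear_combination htr
  have hfin : cl s = cl (xx (-(a - 1))) * y0 k * (cl (xx (-(a - 1))))⁻¹ := by
    rw [eq_mul_inv_iff_mul_eq]
    unfold y0
    rw [← map_mul, ← map_mul]
    congr 1
    apply Subtype.ext
    show s.1 * (xx (-(a - 1))).1 = (xx (-(a - 1))).1 * (yy (-1 : k)).1
    rw [hsv, hc1, hb1, hd1, xx_val, yy_val]
    ext i j
    fin_cases i <;> fin_cases j <;> simp [Matrix.mul_apply, Fin.sum_univ_two] <;> ring
  obtain ⟨m, hm2⟩ := hn (-(a - 1))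
  have hi := w0_pow (k := k) m
  rw [hm2] at hi
  refine ⟨m, ?_⟩
  rw [← hi] at hfin
  have hT : (α.eqLocus (MulAut.conj (w0 k ^ m)).toMonoidHom) = ⊤ := by
    apply top_of_mem hn
    · show α (w0 k) = w0 k ^ m * w0 k * (w0 k ^ m)⁻¹
      have : Commute (w0 k ^ m) (w0 k) := Commute.pow_self _ _
      rw [hw, this.eq, mul_inv_cancel_right]
    · show α (y0 k) = w0 k ^ m * y0 k * (w0 k ^ m)⁻¹
      rw [← hs, hfin]
  intro q
  have h3 : q ∈ (α.eqLocus (MulAut.conj (w0 k ^ m)).toMonoidHom) := by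
    rw [hT]; exact Subgroup.mem_top q
  exact h3

/-- An injective endomorphism fixing an element of order `p` is inner. -/
theorem end_inner [Finite k] (hk : Nat.card k = p) (hp2 : p ≠ 2) (α : PSL(2, k) →* PSL(2, k))
    (hα : Function.Injective α) {v : PSL(2, k)} (hv : orderOf v = p) (hαv : α v = v) :
    ∃ i : ℕ, ∀ q, α q = v ^ i * q * (v ^ i)⁻¹ := by
  obtain ⟨q, j, hj, rfl⟩ := exists_conj_w0 hk hv
  -- the conjugated endomorphism
  let β : PSL(2, k) →* PSL(2, k) :=
    ((MulAut.conj q⁻¹).toMonoidHom.comp α).comp (MulAut.conj q).toMonoidHom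
  have hβ : ∀ h, β h = q⁻¹ * α (q * h * q⁻¹) * q := by
    intro h
    show q⁻¹ * α (q * h * q⁻¹) * q⁻¹⁻¹ = _
    rw [inv_inv]
  have hβi : Function.Injective β :=
    ((MulAut.conj q⁻¹).injective.comp hα).comp (MulAut.conj q).injective
  obtain ⟨j', hj'⟩ : ∃ j' : ℕ, (w0 k ^ j) ^ j' = w0 k := by
    have h1 : w0 k ∈ zpowers (w0 k ^ j) := by
      have h2 : zpowers (w0 k ^ j) = zpowers (w0 k) := by
        have hc : Nat.Coprime (orderOf (w0 k)) j := by
          rw [orderOf_w0 (p := p)]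
          exact (Nat.Prime.coprime_iff_not_dvd hp.out).mpr hj
        apply Subgroup.eq_of_le_of_card_ge
        · rw [zpowers_le]; exact pow_mem (mem_zpowers _) j
        · rw [Nat.card_zpowers, Nat.card_zpowers, Nat.Coprime.orderOf_pow hc]
      rw [h2]; exact mem_zpowers _
    rw [← mem_powers_iff_mem_zpowers] at h1
    exact h1
  have hβw : β (w0 k) = w0 k := by
    have h1 : β (w0 k ^ j) = w0 k ^ j := by
      rw [hβ, hαv]; group
    calc β (w0 k) = β ((w0 k ^ j) ^ j') := by rw [hj']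
      _ = w0 k := by rw [map_pow, h1, hj']
  obtain ⟨i, hi⟩ := end_w0 (p := p) hn hp2 β hβi hβw
  refine ⟨j' * i, ?_⟩
  intro h
  have h1 := hi (q⁻¹ * h * q)
  rw [hβ] at h1
  have h2 : q * (q⁻¹ * h * q) * q⁻¹ = h := by group
  rw [h2] at h1
  have h3 : (q * w0 k ^ j * q⁻¹) ^ (j' * i) = q * w0 k ^ i * q⁻¹ := by
    rw [conj_pow, pow_mul, hj']
  rw [h3]
  have h4 : α h = q * (q⁻¹ * α h * q) * q⁻¹ := by group
  rw [h4, h1]
  group

end

end Cfsg.Agent.H79.MR
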