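import Mathlib

/-!
# Integral forms of complex representations over a valuation ring of `ℂ`
-/

set_option autoImplicit false
set_option linter.style.haveILetI false

open Module

namespace Cfsg.Agent.H79

universe u

/-- Every complex representation of a finite group can be written over a given valuation ring
of `ℂ`. -/
theorem exists_integral_form {G : Type u} [Group G] [Finite G] (O : ValuationSubring ℂ) {n : ℕ}
    (ρ : G →* ((Fin n → ℂ) →ₗ[ℂ] (Fin n → ℂ))) :
    ∃ (σ : G →* Matrix (Fin n) (Fin n) O) (B : Basis (Fin n) ℂ (Fin n → ℂ)),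
      ∀ (g : G) (j : Fin n), ρ g (B j) = ∑ i : Fin n, ((σ g i j : O) : ℂ) • B i := by
  classical
  haveI := Fintype.ofFinite G
  -- the lattice
  let L : Submodule O (Fin n → ℂ) :=
    Submodule.span O (Set.range fun q : G × Fin n => ρ q.1 (Pi.single q.2 1))
  have hLfg : L.FG := ⟨(Set.toFinite (Set.range fun q : G × Fin n =>
    ρ q.1 (Pi.single q.2 1))).toFinset, by simp [L]⟩
  haveI hLfin : Module.Finite O L := Module.Finite.iff_fg.mpr hLfg
  haveI hLflat : Module.Flat O L := by
    rw [Module.Flat.flat_iff_torsion_eq_bot_of_isBezout]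
    exact Submodule.isTorsionFree_iff_torsion_eq_bot.mp inferInstance
  haveI hLfree : Module.Free O L := Module.free_of_flat_of_isLocalRing
  let b := Module.Free.chooseBasis O L
  -- it is a complex basis
  have hli : LinearIndependent O (fun i => ((b i : L) : Fin n → ℂ)) :=
    b.linearIndependent.map' L.subtype (Submodule.ker_subtype L)
  have hliC : LinearIndependent ℂ (fun i => ((b i : L) : Fin n → ℂ)) :=
    (LinearIndependent.iff_fractionRing O ℂ).mp hli
  have hspan : ⊤ ≤ Submodule.span ℂ (Set.range fun i => ((b i : L) : Fin n → ℂ)) := by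
    have h1 : ∀ x ∈ L, x ∈ Submodule.span ℂ (Set.range fun i => ((b i : L) : Fin n → ℂ)) := by
      intro x hx
      have h2 : x = ∑ i, ((b.repr ⟨x, hx⟩ i : O) : ℂ) • ((b i : L) : Fin n → ℂ) := by
        have h3 := congrArg (fun y : L => (y : Fin n → ℂ)) (b.sum_repr ⟨x, hx⟩)
        simp only [Submodule.coe_sum, Submodule.coe_smul] at h3
        exact h3.symm
      rw [h2]
      exact Submodule.sum_mem _ (fun i _ => Submodule.smul_mem _ _ (Submodule.subset_span ⟨i, rfl⟩))
    have h2 : ∀ i : Fin n, (Pi.single i 1 : Fin n → ℂ) ∈ L := by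
      intro i
      apply Submodule.subset_span
      refine ⟨(1, i), ?_⟩
      show ρ 1 (Pi.single i 1) = _
      rw [map_one]; rfl
    rw [← (Pi.basisFun ℂ (Fin n)).span_eq, Submodule.span_le]
    rintro _ ⟨i, rfl⟩
    rw [Pi.basisFun_apply]
    exact h1 _ (h2 i)
  let B0 : Basis (Module.Free.ChooseBasisIndex O L) ℂ (Fin n → ℂ) := Basis.mk hliC hspan
  have hcard : Fintype.card (Module.Free.ChooseBasisIndex O L) = n := by
    have h1 := Module.finrank_eq_card_basis B0
    rw [Module.finrank_fin_fun] at h1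
    exact h1.symm
  let e : Module.Free.ChooseBasisIndex O L ≃ Fin n := Fintype.equivFinOfCardEq hcard
  let b' : Basis (Fin n) O L := b.reindex e
  let B : Basis (Fin n) ℂ (Fin n → ℂ) := B0.reindex e
  have hBb : ∀ i : Fin n, B i = ((b' i : L) : Fin n → ℂ) := by
    intro i
    simp [B, b', B0]
  -- the action
  have hstab : ∀ (g : G) (x : Fin n → ℂ), x ∈ L → ρ g x ∈ L := by
    intro g x hx
    have h1 : L ≤ L.comap ((ρ g).restrictScalars O) := by
      rw [Submodule.span_le]
      rintro _ ⟨q, rfl⟩
      show ρ g (ρ q.1 (Pi.single q.2 1)) ∈ L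
      apply Submodule.subset_span
      refine ⟨(g * q.1, q.2), ?_⟩
      show ρ (g * q.1) (Pi.single q.2 1) = _
      rw [map_mul]; rfl
    exact h1 hx
  let τ : G →* (L →ₗ[O] L) :=
    { toFun := fun g => ((ρ g).restrictScalars O).restrict (hstab g)
      map_one' := by
        ext x : 2
        show ρ 1 (x : Fin n → ℂ) = x
        rw [map_one]; rfl
      map_mul' := fun g h => by
        ext x : 2
        show ρ (g * h) (x : Fin n → ℂ) = ρ g (ρ h x)
        rw [map_mul]; rfl }
  have hτ : ∀ (g : G) (x : L), ((τ g x : L) : Fin n → ℂ) = ρ g x := fun g x => rfl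
  let σ : G →* Matrix (Fin n) (Fin n) O :=
    ((LinearMap.toMatrixAlgEquiv b').toMonoidHom).comp τ
  refine ⟨σ, B, fun g j => ?_⟩
  have h1 : τ g (b' j) = ∑ i : Fin n, σ g i j • b' i := by
    have h2 := b'.sum_repr (τ g (b' j))
    rw [← h2]
    refine Finset.sum_congr rfl (fun i _ => ?_)
    congr 1
    exact (LinearMap.toMatrixAlgEquiv_apply b' (τ g) i j).symm
  have h2 := congrArg (fun y : L => (y : Fin n → ℂ)) h1
  simp only [hτ, Submodule.coe_sum, Submodule.coe_smul] at h2
  rw [hBb j, h2]
  refine Finset.sum_congr rfl (fun i _ => ?_)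
  rw [hBb i]
  rfl

end Cfsg.Agent.H79
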