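import Mathlib
import Cfsg.Agent.Dk.SubPSL
import Cfsg.Agent.Dk.Dick

/-! Finite subgroups of `PGL₂` over an algebraically closed field with Sylow `p`-subgroups of
order `p`. -/

set_option autoImplicit false

namespace Cfsg.Agent.H79.MR

open MulAction Matrix LinearAlgebra.Projectivization Projectivization Subgroup
open scoped MatrixGroups
open Cfsg.Agent
open Cfsg.Agent.Dk
open Cfsg.Agent.H81 (pt0 pt1 ptz ptc)

theorem hua_closed_fin {F : Type*} [Field F] (A : AddSubgroup F) [Finite A] (h1 : (1 : F) ∈ A) {μ : F}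
    (hμ : μ ≠ 0) (hi : ∀ a ∈ A, a ≠ 0 → μ / a ∈ A) : ∃ K0 : Subfield F, ∀ a, a ∈ K0 ↔ a ∈ A := by
  have hhua : ∀ a ∈ A, ∀ b ∈ A, a * a * b / μ ∈ A := by
    intro a ha b hb
    by_cases ha0 : a = 0
    · rw [ha0]; simp [A.zero_mem]
    by_cases hb0 : b = 0
    · rw [hb0]; simp [A.zero_mem]
    by_cases hab : a * b = μ
    · have : a * a * b / μ = a := by rw [← hab]; field_simp
      rw [this]; exact ha
    have hne : μ - a * b ≠ 0 := fun h => hab (sub_eq_zero.1 h).symm
    have e1 : μ / b - a ∈ A := A.sub_mem (hi b hb hb0) ha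
    have e1' : μ / b - a = (μ - a * b) / b := by field_simp
    have e1n : μ / b - a ≠ 0 := by rw [e1']; exact div_ne_zero hne hb0
    have e2 : μ / (μ / b - a) ∈ A := hi _ e1 e1n
    have e3 : μ / a + μ / (μ / b - a) ∈ A := A.add_mem (hi a ha ha0) e2
    have e3' : μ / a + μ / (μ / b - a) = μ ^ 2 / (a * (μ - a * b)) := by
      rw [e1']; field_simp; ring
    have e3n : μ / a + μ / (μ / b - a) ≠ 0 := by
      rw [e3']; exact div_ne_zero (pow_ne_zero _ hμ) (mul_ne_zero ha0 hne)
    have e4 := hi _ e3 e3n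
    have e4' : μ / (μ / a + μ / (μ / b - a)) = a - a * a * b / μ := by
      rw [e3']; field_simp
    rw [e4'] at e4
    have e5 := A.sub_mem ha e4
    have : a - (a - a * a * b / μ) = a * a * b / μ := by ring
    rwa [this] at e5
  have hdiv : ∀ b ∈ A, b / μ ∈ A := by
    intro b hb
    have := hhua 1 h1 b hb
    rwa [one_mul, one_mul] at this
  have hmulμ : ∀ a ∈ A, a * μ ∈ A := by
    let f : A → A := fun b => ⟨b / μ, hdiv b b.2⟩
    have hf : Function.Injective f := by
      intro a b hab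
      have : (a : F) / μ = (b : F) / μ := congrArg Subtype.val hab
      exact Subtype.ext ((div_left_inj' hμ).1 this)
    intro a ha
    obtain ⟨b, hb⟩ := (Finite.injective_iff_surjective.1 hf) ⟨a, ha⟩
    have hb' : (b : F) / μ = a := congrArg Subtype.val hb
    have : a * μ = b := by rw [← hb']; field_simp
    rw [this]; exact b.2
  have hsq : ∀ a ∈ A, ∀ b ∈ A, a * a * b ∈ A := by
    intro a ha b hb
    have h := hmulμ _ (hhua a ha b hb)
    have : a * a * b / μ * μ = a * a * b := by field_simp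
    rwa [this] at h
  have hmul : ∀ a ∈ A, ∀ b ∈ A, a * b ∈ A := by
    intro a ha b hb
    by_cases h2 : (2 : F) = 0
    · -- squaring is bijective
      let f : A → A := fun b => ⟨b * b, by
        have := hsq b b.2 1 h1
        rwa [mul_one] at this⟩
      have hf : Function.Injective f := by
        intro x y hxy
        have h3 : (x : F) * x = (y : F) * y := congrArg Subtype.val hxy
        have h4 : ((x : F) - y) ^ 2 = 0 := by
          linear_combination h3 + ((y : F) * y - (x : F) * y) * h2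
        exact Subtype.ext (sub_eq_zero.1 (pow_eq_zero_iff two_ne_zero |>.1 h4))
      obtain ⟨c, hc⟩ := (Finite.injective_iff_surjective.1 hf) ⟨a, ha⟩
      have hc' : (c : F) * c = a := congrArg Subtype.val hc
      rw [← hc']
      exact hsq c c.2 b hb
    · have h3 : 2 * (a * b) ∈ A := by
        have e1 := hsq (a + b) (A.add_mem ha hb) 1 h1
        have e2 := hsq a ha 1 h1
        have e3 := hsq b hb 1 h1
        have e4 := A.sub_mem (A.sub_mem e1 e2) e3
        have : (a + b) * (a + b) * 1 - a * a * 1 - b * b * 1 = 2 * (a * b) := by ring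
        rwa [this] at e4
      let f : A → A := fun b => ⟨2 * b, by rw [two_mul]; exact A.add_mem b.2 b.2⟩
      have hf : Function.Injective f := by
        intro x y hxy
        have h3 : 2 * (x : F) = 2 * (y : F) := congrArg Subtype.val hxy
        exact Subtype.ext (mul_left_cancel₀ h2 h3)
      obtain ⟨c, hc⟩ := (Finite.injective_iff_surjective.1 hf) ⟨_, h3⟩
      have hc' : 2 * (c : F) = 2 * (a * b) := congrArg Subtype.val hc
      rw [← mul_left_cancel₀ h2 hc']
      exact c.2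
  refine ⟨{ carrier := A
            mul_mem' := fun {a b} ha hb => hmul a ha b hb
            one_mem' := h1
            add_mem' := fun {a b} ha hb => A.add_mem ha hb
            zero_mem' := A.zero_mem
            neg_mem' := fun {a} ha => A.neg_mem ha
            inv_mem' := ?_ }, fun a => Iff.rfl⟩
  intro a ha
  by_cases ha0 : a = 0
  · rw [ha0, _root_.inv_zero]; exact A.zero_mem
  · have := hdiv _ (hi a ha ha0)
    have e : μ / a / μ = a⁻¹ := by field_simp
    rwa [e] at this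


section main

variable {F K : Type*} [Field F] [Field K] [Algebra F K]

attribute [local instance 10] pact

local notation "aK" => algebraMap F K

variable {p : ℕ} [CharP K p] [IsAlgClosed K]

theorem field_case_fin (H : Subgroup PGL(2, F)) [Finite H]
    (hF : ((mobF (p := p) (F := F) (K := K)).subgroup H).Full (pt0 K))
    (h0 : ptz K 0 ∈ orbit H (pt0 K)) (h1 : ptz K 1 ∈ orbit H (pt0 K)) :
    ∃ K0 : Subfield F, (∀ a, a ∈ K0 ↔ XX a ∈ H) ∧ (H = PGLs K0 ∨ H = PSLs K0) := by
  let A : AddSubgroup F :=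
    { carrier := {a | XX a ∈ H}
      add_mem' := fun {a b} ha hb => by
        show XX (a + b) ∈ H
        rw [XX_add]; exact mul_mem ha hb
      zero_mem' := by
        show XX 0 ∈ H
        rw [XX_zero]; exact one_mem _
      neg_mem' := fun {a} ha => by
        show XX (-a) ∈ H
        rw [XX_neg]; exact inv_mem ha }
  have hA : ∀ a, a ∈ A ↔ XX a ∈ H := fun _ => Iff.rfl
  -- the orbit
  have horb : ∀ z : ℙ K (Fin 2 → K), z ∈ orbit H (pt0 K) → z ≠ pt0 K →
      ∃ a ∈ A, z = ptz K (aK a) := by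
    intro z hz hne
    obtain ⟨u, hu, hu'⟩ := hF.reg (mem_orbit_self _) h0 hz (H81.pt0_ne_ptz _).symm hne
    rw [(mobF (p := p) (F := F) (K := K)).mem_U_subgroup, mem_U_pt0] at hu
    obtain ⟨a, ha⟩ := hu
    refine ⟨a, ?_, ?_⟩
    · rw [hA, ← ha]; exact u.2
    · rw [← hu']
      change (u : PGL(2, F)) • ptz K 0 = _
      rw [ha, XX_smul_ptz, zero_add]
  have hone : (1 : F) ∈ A := by
    obtain ⟨a, ha, ha'⟩ := horb _ h1 (H81.pt0_ne_ptz _).symm
    rw [ptz_eq_iff, ← map_one (algebraMap F K)] at ha'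
    rw [(algebraMap F K).injective ha']
    exact ha
  -- the Weyl element
  obtain ⟨s, hs1, hs2⟩ := hF.swap (mem_orbit_self _) h0 (H81.pt0_ne_ptz _)
  obtain ⟨s0, hs0⟩ := ProjGenLinGroup.mk_surjective (s : PGL(2, F))
  have hs1' : (ProjGenLinGroup.mk s0 : PGL(2, F)) • pt0 K = ptz K 0 := by rw [hs0]; exact hs1
  have hs2' : (ProjGenLinGroup.mk s0 : PGL(2, F)) • ptz K 0 = pt0 K := by rw [hs0]; exact hs2
  have h00 : s0.1 0 0 = 0 := by
    rw [mk_smul_pt0_ptz_iff, zero_mul] at hs1'
    exact (map_eq_zero_iff _ (algebraMap F K).injective).1 hs1'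
  have h11 : s0.1 1 1 = 0 := by
    by_contra hne
    have h2 : (ProjGenLinGroup.mk s0 : PGL(2, F)) • ptz K 0 = ptz K (aK (s0.1 0 1 / s0.1 1 1)) := by
      rw [mk_smul_ptz_iff, mul_zero, mul_zero, zero_add, zero_add, ← map_mul]
      congr 1
      field_simp
    rw [hs2'] at h2
    exact H81.pt0_ne_ptz _ h2
  have hdet : s0.1 0 1 ≠ 0 ∧ s0.1 1 0 ≠ 0 := by
    have hd := s0.det.ne_zero
    rw [GeneralLinearGroup.val_det_apply, Matrix.det_fin_two] at hd
    change s0.1 0 0 * s0.1 1 1 - s0.1 0 1 * s0.1 1 0 ≠ 0 at hd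
    rw [h00, zero_mul, zero_sub, neg_ne_zero] at hd
    exact ⟨left_ne_zero_of_mul hd, right_ne_zero_of_mul hd⟩
  set μ := s0.1 0 1 / s0.1 1 0 with hμdef
  have hμ : μ ≠ 0 := div_ne_zero hdet.1 hdet.2
  have hsW : (s : PGL(2, F)) = WW μ hμ := by
    rw [← hs0]
    symm
    unfold WW
    rw [ProjGenLinGroup.mk_eq_mk_iff]
    refine ⟨Units.mk0 _ hdet.2, ?_⟩
    apply Units.ext
    show !![0, μ; 1, 0] * Matrix.scalar (Fin 2) (s0.1 1 0) = s0.1
    ext i j
    fin_cases i <;> fin_cases j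
    · simpa [Matrix.mul_apply, Fin.sum_univ_two] using h00.symm
    · simp [Matrix.mul_apply, Fin.sum_univ_two, hμdef]
      field_simp [hdet.2]
    · simp [Matrix.mul_apply, Fin.sum_univ_two]
    · simpa [Matrix.mul_apply, Fin.sum_univ_two] using h11.symm
  have hWH : WW μ hμ ∈ H := by rw [← hsW]; exact s.2
  have hi : ∀ a ∈ A, a ≠ 0 → μ / a ∈ A := by
    intro a ha ha0
    have ha0' : aK a ≠ 0 := fun h => ha0 ((map_eq_zero_iff _ (algebraMap F K).injective).1 h)
    have h2 : WW μ hμ • ptz K (aK a) = ptz K (aK (μ / a)) := by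
      rw [WW_smul_ptz _ _ ha0', ← map_div₀]
    have h3 : ptz K (aK (μ / a)) ∈ orbit H (pt0 K) := by
      rw [← h2]
      have h4 : ptz K (aK a) = XX a • ptz K 0 := by rw [XX_smul_ptz, zero_add]
      obtain ⟨b, hb⟩ := h0
      have hb : (b : PGL(2, F)) • pt0 K = ptz K 0 := hb
      refine ⟨⟨WW μ hμ, hWH⟩ * ⟨XX a, ha⟩ * b, ?_⟩
      change (WW μ hμ * XX a * (b : PGL(2, F))) • pt0 K = _
      rw [mul_smul, mul_smul, hb, ← h4]
    obtain ⟨b, hb, hb'⟩ := horb _ h3 (H81.pt0_ne_ptz _).symm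
    rw [ptz_eq_iff] at hb'
    rw [(algebraMap F K).injective hb']
    exact hb
  have hfA : Finite A := by
    refine Finite.of_injective (f := fun a : A => (⟨XX (a : F), a.2⟩ : H)) ?_
    intro a b hab
    exact Subtype.ext (XX_inj (congrArg (fun z : H => (z : PGL(2, F))) hab))
  obtain ⟨K0, hK0⟩ := hua_closed_fin A hone hμ hi
  have hfK : Finite K0 := by
    refine Finite.of_injective (f := fun a : K0 => (⟨(a : F), (hK0 a).1 a.2⟩ : A)) ?_
    intro a b hab
    exact Subtype.ext (congrArg (fun z : A => (z : F)) hab)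
  have hμK : μ ∈ K0 := by
    rw [hK0]
    have := hi 1 hone one_ne_zero
    rwa [div_one] at this
  refine ⟨K0, fun a => (hK0 a).trans (hA a), ?_⟩
  apply eq_PGLs_or
  · exact PSLs_le (fun a ha => (hK0 a).1 ha) hμ hμK hWH
  · -- H ≤ PGLs
    have hstab : ∀ h ∈ H, h • pt0 K = pt0 K → h ∈ PGLs K0 := by
      intro h hh hfix
      have hne : ∀ z : ℙ K (Fin 2 → K), z ≠ pt0 K → h • z ≠ pt0 K := by
        intro z hz hz'
        apply hz
        apply smul_left_cancel h
        rw [hz', hfix]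
      have horbh : ∀ z : ℙ K (Fin 2 → K), z ∈ orbit H (pt0 K) → h • z ∈ orbit H (pt0 K) := by
        rintro _ ⟨b, rfl⟩
        exact ⟨⟨h, hh⟩ * b, mul_smul _ _ _⟩
      obtain ⟨β, hβ, hβ'⟩ := horb _ (horbh _ h0) (hne _ (H81.pt0_ne_ptz _).symm)
      obtain ⟨γ, hγ, hγ'⟩ := horb _ (horbh _ h1) (hne _ (H81.pt0_ne_ptz _).symm)
      have hne2 : γ - β ≠ 0 := by
        intro h2
        have h3 : γ = β := sub_eq_zero.1 h2
        rw [h3, ← hβ'] at hγ'
        have := smul_left_cancel h hγ'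
        exact zero_ne_one (H81.ptz_injective this).symm
      have h5 : h = XX β * DD (γ - β) hne2 := by
        apply eq_of_three (K := K)
        · rw [mul_smul, DD_smul_pt0, XX_smul_pt0, hfix]
        · rw [mul_smul, DD_smul_ptz, XX_smul_ptz, hβ', mul_zero, zero_add]
        · rw [mul_smul, DD_smul_ptz, XX_smul_ptz, hγ', mul_one, ← map_add]
          congr 2; ring
      rw [h5]
      exact mul_mem (XX_mem_PGLs ((hK0 _).2 hβ)) (DD_mem_PGLs (sub_mem ((hK0 _).2 hγ) ((hK0 _).2 hβ)) hne2)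
    intro h hh
    by_cases hfix : h • pt0 K = pt0 K
    · exact hstab h hh hfix
    · obtain ⟨c, hc, hc'⟩ := horb (h • pt0 K) ⟨⟨h, hh⟩, rfl⟩ hfix
      have hk : WW μ hμ * XX (-c) * h ∈ PGLs K0 := by
        apply hstab
        · exact mul_mem (mul_mem hWH (by rw [XX_neg]; exact inv_mem hc)) hh
        · rw [mul_smul, mul_smul, hc', XX_smul_ptz, map_neg, add_neg_cancel, WW_smul_ptz_zero]
      have h6 : WW μ hμ * XX (-c) ∈ PGLs K0 :=
        mul_mem (WW_mem_PGLs hμK hμ) (XX_mem_PGLs (neg_mem ((hK0 _).2 hc)))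
      exact (Subgroup.mul_mem_cancel_left _ h6).1 hk


theorem card_K0_fin {H : Subgroup PGL(2, F)} {K0 : Subfield F} (h : ∀ a, a ∈ K0 ↔ XX a ∈ H) :
    Nat.card K0 = Nat.card (((mobF (p := p) (F := F) (K := K)).subgroup H).U (pt0 K)) := by
  refine Nat.card_eq_of_bijective (f := fun a : K0 => ⟨⟨XX (a : F), (h _).1 a.2⟩, ?_⟩) ⟨?_, ?_⟩
  · rw [(mobF (p := p) (F := F) (K := K)).mem_U_subgroup, mem_U_pt0]
    exact ⟨_, rfl⟩
  · intro a b hab
    have h1 : XX (a : F) = XX (b : F) := congrArg (fun z : ((mobF (p := p) (F := F)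
      (K := K)).subgroup H).U (pt0 K) => ((z : H) : PGL(2, F))) hab
    exact Subtype.ext (XX_inj h1)
  · rintro ⟨⟨v, hv⟩, hvU⟩
    rw [(mobF (p := p) (F := F) (K := K)).mem_U_subgroup, mem_U_pt0] at hvU
    obtain ⟨a, ha⟩ := hvU
    have ha : v = XX a := ha
    subst ha
    exact ⟨⟨a, (h a).2 hv⟩, rfl⟩


/-- Dickson's theorem, the subfield case. -/
theorem dickson_field_fin (hrat : ∀ x : ℙ K (Fin 2 → K), x ∈ RatPts F K)
    (H : Subgroup PGL(2, F)) [Finite H] {z : ℙ K (Fin 2 → K)}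
    (hF : ((mobF (p := p) (F := F) (K := K)).subgroup H).Full z) :
    ∃ (g : PGL(2, F)) (K0 : Subfield F), (∀ a, a ∈ K0 ↔ XX a ∈ cj g H) ∧
      (cj g H = PGLs K0 ∨ cj g H = PSLs K0) ∧ g • z = pt0 K ∧
      Nat.card K0 = Nat.card (((mobF (p := p) (F := F) (K := K)).subgroup H).U z) := by
  have hc := (Subgroup.one_lt_card_iff_ne_bot _).2 hF.hU
  have h3 : 2 < (orbit H z).ncard := by
    rw [← Nat.card_coe_set_eq, hF.hN]; omega
  -- two further points
  obtain ⟨y, hy, hyz⟩ : ∃ y ∈ orbit H z, y ≠ z := by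
    apply exists_other
    rw [hF.hN]; omega
  obtain ⟨x, hx, hxz, hxy⟩ : ∃ x ∈ orbit H z, x ≠ z ∧ x ≠ y := by
    by_contra hcon
    push Not at hcon
    have h4 : orbit H z ⊆ {z, y} := by
      intro w hw
      by_cases h : w = z
      · left; exact h
      · right; exact hcon w hw h
    have h5 := Set.ncard_le_ncard h4 (Set.toFinite _)
    have h6 := Set.ncard_insert_le z {y}
    rw [Set.ncard_singleton] at h6
    omega
  have hUorb : ∀ w ∈ orbit H z, w ∈ RatPts F K := fun w _ => hrat w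
  obtain ⟨g, hg1, hg2, hg3⟩ := exists_normal (hUorb z (mem_orbit_self _)) (hUorb y hy) (hUorb x hx)
    hyz.symm hxz.symm hxy.symm
  have hF' := full_cj (mobF (p := p) (F := F) (K := K)) (g := g) hF
  rw [hg1] at hF'
  have hfin : Finite (cj g H) := Finite.of_equiv _ (cjEquiv g H).toEquiv
  obtain ⟨K0, hK1, hK2⟩ := field_case_fin (cj g H) hF'
    (by rw [← hg1, ← hg2]; exact mem_orbit_cj.2 hy)
    (by rw [← hg1, ← hg3]; exact mem_orbit_cj.2 hx)
  refine ⟨g, K0, hK1, hK2, hg1, ?_⟩
  rw [card_K0_fin (p := p) (K := K) hK1, ← hg1, card_U_cj mobF]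


/-- an element of odd order is a square, so it fixes the points of an orbit of length two -/
theorem fix_of_orbit_two {Γ X : Type*} [Group Γ] [MulAction Γ X] [Finite Γ] {z : X}
    (h2 : Nat.card (orbit Γ z) = 2) {u : Γ} {q : ℕ} (hq : q % 2 = 1) (hu : u ^ q = 1) : u • z = z := by
  have hidx : (stabilizer Γ z).index = 2 := by
    rw [MulAction.index_stabilizer, ← Nat.card_coe_set_eq, h2]
  have h3 : u = (u ^ ((q + 1) / 2)) ^ 2 := by
    rw [← pow_mul]
    have : (q + 1) / 2 * 2 = q + 1 := by omega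
    rw [this, pow_succ, hu, one_mul]
  have h4 : u ∈ stabilizer Γ z := by
    rw [h3]
    exact Subgroup.sq_mem_of_index_two hidx _
  exact h4

/-- a finite subgroup of `PGL₂`, generated by its elements of order `p`, without a common fixed
point and with Sylow `p`-subgroups of order `p`, is `PSL(2,p)` -/
theorem psl_of_pgl [hpf : Fact p.Prime] (hrat : ∀ x : ℙ K (Fin 2 → K), x ∈ RatPts F K)
    (H : Subgroup PGL(2, F)) [Finite H] (h5 : 5 ≤ p) (hsq : ¬ p ^ 2 ∣ Nat.card H)
    (hgen : Subgroup.closure {h : H | h ^ p = 1} = ⊤) {b : F} (hb : b ≠ 0) (hx : XX b ∈ H)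
    (hne : ∃ g : GL (Fin 2) F, (ProjGenLinGroup.mk g : PGL(2, F)) ∈ H ∧ g.1 1 0 ≠ 0) :
    Nonempty (H ≃* PSL(2, ZMod p)) := by
  classical
  have hp := hpf.out
  have hodd : p % 2 = 1 := by
    rcases hp.eq_two_or_odd with h | h
    · omega
    · exact h
  let M := (mobF (p := p) (F := F) (K := K)).subgroup H
  let u : H := ⟨XX b, hx⟩
  have huU : u ∈ M.U (pt0 K) := by
    rw [(mobF (p := p) (F := F) (K := K)).mem_U_subgroup, mem_U_pt0]
    exact ⟨b, rfl⟩
  have hu1 : u ≠ 1 := by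
    intro h
    have h1 : XX b = (1 : PGL(2, F)) := congrArg Subtype.val h
    rw [← XX_zero] at h1
    exact hb (XX_inj h1)
  have hU0 : M.U (pt0 K) ≠ ⊥ := by
    intro h
    rw [h] at huU
    exact hu1 (Subgroup.mem_bot.1 huU)
  have hdvd : p ∣ Nat.card H := M.dvd_of_U_ne_bot hU0
  have hnt : Nontrivial H := ⟨u, 1, hu1⟩
  have hup : u ^ p = 1 := M.pow_of_mem_U huU
  rcases M.cases with ⟨z, hz⟩ | ⟨z, hz, hz2⟩ | ⟨h1, h2, -⟩ | ⟨h1, h2, -⟩ | ⟨h1, h2, -⟩ | ⟨z, hz3, hzo⟩
  · exfalso
    have h1 : z = pt0 K := M.eq_of_mem_U huU hu1 (hz u)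
    obtain ⟨g, hg, hg0⟩ := hne
    have h2 := hz ⟨_, hg⟩
    rw [h1] at h2
    exact hg0 ((mk_smul_pt0_iff g).1 h2)
  · exfalso
    have h1 : u • z = z := fix_of_orbit_two hz2 hodd hup
    have h2 : z = pt0 K := M.eq_of_mem_U huU hu1 h1
    rw [h2] at hz
    exact hU0 hz
  · exact absurd (h2 ▸ hdvd) h1
  · exact absurd (h2 ▸ hdvd) h1
  · exfalso
    rcases h1 with h1 | h1
    · exact h1 (h2 ▸ hdvd)
    · omega
  · have hF : M.Full z := by
      refine ⟨?_, hzo⟩
      rw [← Subgroup.one_lt_card_iff_ne_bot]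
      omega
    have hcard : Nat.card (M.U z) = p := by
      obtain ⟨m, hm⟩ := IsPGroup.iff_card.1 (M.isPGroup_U z)
      have h1 : Nat.card (M.U z) ∣ Nat.card H := Subgroup.card_subgroup_dvd_card _
      have h2 : m < 2 := by
        by_contra hcon
        apply hsq
        refine dvd_trans ?_ h1
        rw [hm]
        exact pow_dvd_pow _ (by omega)
      have h3 : m ≠ 0 := by
        rintro rfl
        rw [pow_zero] at hm
        omega
      have h4 : m = 1 := by omega
      rw [hm, h4, pow_one]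
    obtain ⟨g, K0, hK1, hK2, hgz, hK3⟩ := dickson_field_fin hrat H hF
    have hK3' : Nat.card K0 = p := by rw [hK3]; exact hcard
    have hfK : Finite K0 := Nat.finite_of_card_ne_zero (by rw [hK3']; exact hp.ne_zero)
    have hPSL : cj g H = PSLs K0 := by
      rcases hK2 with h | h
      · have key : (⊤ : Subgroup H) ≤ (PSLs K0).comap ((MulAut.conj g).toMonoidHom.comp H.subtype) := by
          rw [← hgen, Subgroup.closure_le]
          intro x hxp
          have hxp : x ^ p = 1 := hxp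
          show (MulAut.conj g).toMonoidHom (x : PGL(2, F)) ∈ PSLs K0
          have h1 : (MulAut.conj g).toMonoidHom ((x ^ ((p + 1) / 2) : H) : PGL(2, F)) ∈ PGLs K0 := by
            rw [← h]
            exact Subgroup.mem_map_of_mem _ (x ^ ((p + 1) / 2)).2
          have h3 : x = (x ^ ((p + 1) / 2)) ^ 2 := by
            rw [← pow_mul]
            have : (p + 1) / 2 * 2 = p + 1 := by omega
            rw [this, pow_succ, hxp, one_mul]
          obtain ⟨y, hy⟩ := h1
          rw [h3]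
          refine ⟨y ^ 2, ?_, ?_⟩
          · obtain ⟨y0, rfl⟩ := ProjGenLinGroup.mk_surjective y
            show (ProjGenLinGroup.mk y0) ^ 2 ∈ PSLr K0
            rw [← map_pow, mk_mem_PSLr]
            exact ⟨y0.1.det, by rw [← Matrix.det_mul, pow_two]; rfl⟩
          · rw [map_pow, hy, ← map_pow]
            rfl
        apply le_antisymm
        · rintro _ ⟨x, hxH, rfl⟩
          exact key (Subgroup.mem_top (⟨x, hxH⟩ : H))
        · rw [h]; exact PSLs_le_PGLs K0
      · exact h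
    obtain ⟨e1⟩ := psls_iso K0
    have : Fintype K0 := Fintype.ofFinite K0
    have e : ZMod p ≃+* K0 := ZMod.ringEquivOfPrime K0 hp (by rw [← Nat.card_eq_fintype_card, hK3'])
    obtain ⟨e2⟩ := nonempty_psl_iso e.symm
    exact ⟨(cjEquiv g H).trans ((MulEquiv.subgroupCongr hPSL).trans (e1.trans e2))⟩

end main

end Cfsg.Agent.H79.MR
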