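import Cfsg.Agent.H79.ModX
import Cfsg.Agent.Dk.Act

/-!
# Small modular representations: the symmetric square model
-/

set_option autoImplicit false
set_option linter.style.haveILetI false

open Module
open scoped MatrixGroups

namespace Cfsg.Agent.H79.MR

universe u v w

section sym

variable {k : Type v} [Field k]

/-- The symmetric square of a matrix. -/
def S2 (m : Matrix (Fin 2) (Fin 2) k) : Matrix (Fin 3) (Fin 3) k :=
  !![m 0 0 * m 0 0, 2 * m 0 0 * m 0 1, m 0 1 * m 0 1;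
     m 0 0 * m 1 0, m 0 0 * m 1 1 + m 0 1 * m 1 0, m 0 1 * m 1 1;
     m 1 0 * m 1 0, 2 * m 1 0 * m 1 1, m 1 1 * m 1 1]

/-- The Gram matrix. -/
def JJ (k : Type v) [Field k] : Matrix (Fin 3) (Fin 3) k :=
  !![0, 0, 1; 0, -2, 0; 1, 0, 0]

theorem S2_mul (m m' : Matrix (Fin 2) (Fin 2) k) : S2 (m * m') = S2 m * S2 m' := by
  ext i j
  fin_cases i <;> fin_cases j <;>
    simp [S2, Matrix.mul_apply, Fin.sum_univ_two, Fin.sum_univ_three] <;> ring

theorem S2_one : S2 (1 : Matrix (Fin 2) (Fin 2) k) = 1 := by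
  ext i j
  fin_cases i <;> fin_cases j <;> simp [S2]

theorem S2_gram (m : Matrix (Fin 2) (Fin 2) k) (hm : m 0 0 * m 1 1 - m 0 1 * m 1 0 = 1) :
    (S2 m).transpose * JJ k * S2 m = JJ k := by
  have h2 : (m 0 0 * m 1 1 - m 0 1 * m 1 0) ^ 2 = 1 := by rw [hm, one_pow]
  ext i j
  fin_cases i <;> fin_cases j <;>
    simp [S2, JJ, Matrix.mul_apply, Fin.sum_univ_three]
  · ring
  · ring
  · linear_combination h2
  · ring
  · linear_combination (-2) * h2
  · ring
  · linear_combination h2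
  · ring
  · ring

/-- The isometries fixing the first basis vector. -/
theorem unip_form (h2 : (2 : k) ≠ 0) (M : Matrix (Fin 3) (Fin 3) k)
    (hJ : M.transpose * JJ k * M = JJ k) (h0 : M 0 0 = 1) (h1 : M 1 0 = 0) (h3 : M 2 0 = 0)
    (hn : (M - 1) ^ 3 = 0) : ∃ δ : k, M = S2 !![1, δ; 0, 1] := by
  have e : ∀ i j, M 0 i * M 2 j - 2 * (M 1 i * M 1 j) + M 2 i * M 0 j = JJ k i j := by
    intro i j
    have h4 := congrFun (congrFun hJ i) j
    rw [← h4]
    simp [JJ, Matrix.mul_apply, Fin.sum_univ_three]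
    ring
  have e01 := e 0 1
  have e02 := e 0 2
  have e11 := e 1 1
  have e12 := e 1 2
  have e22 := e 2 2
  simp only [h0, h1, h3] at e01 e02
  have a21 : M 2 1 = 0 := by
    have : JJ k 0 1 = 0 := rfl
    rw [this] at e01
    linear_combination e01
  have a22 : M 2 2 = 1 := by
    have : JJ k 0 2 = 1 := rfl
    rw [this] at e02
    linear_combination e02
  have a11 : M 1 1 = 1 := by
    have h4 := congrFun (congrFun hn 1) 1
    have h5 : ((M - 1) ^ 3 : Matrix (Fin 3) (Fin 3) k) 1 1 = (M 1 1 - 1) ^ 3 := by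
      rw [pow_succ, pow_two]
      simp [Matrix.mul_apply, Fin.sum_univ_three, h1, h3, a21]
      ring
    rw [h5] at h4
    have h6 : (M 1 1 - 1) ^ 3 = 0 := h4
    exact sub_eq_zero.mp (pow_eq_zero_iff (by norm_num) |>.mp h6)
  have a01 : M 0 1 = 2 * M 1 2 := by
    have : JJ k 1 2 = 0 := rfl
    rw [this, a22, a11, a21] at e12
    linear_combination e12
  have a02 : M 0 2 = M 1 2 * M 1 2 := by
    have : JJ k 2 2 = 0 := rfl
    rw [this, a22] at e22
    have h4 : 2 * (M 0 2 - M 1 2 * M 1 2) = 0 := by linear_combination e22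
    exact sub_eq_zero.mp ((mul_eq_zero.mp h4).resolve_left h2)
  refine ⟨M 1 2, ?_⟩
  ext i j
  fin_cases i <;> fin_cases j <;> simp [S2, h0, h1, h3, a21, a22, a11, a01, a02]

theorem S2_eq_one {m : Matrix (Fin 2) (Fin 2) k} (hm : m 0 0 * m 1 1 - m 0 1 * m 1 0 = 1)
    (h : S2 m = 1) : m 1 0 = 0 ∧ m 0 1 = 0 ∧ m 1 1 = m 0 0 := by
  have h20 : m 1 0 * m 1 0 = 0 := congrFun (congrFun h 2) 0
  have h02 : m 0 1 * m 0 1 = 0 := congrFun (congrFun h 0) 2
  have h00 : m 0 0 * m 0 0 = 1 := congrFun (congrFun h 0) 0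
  have h10 : m 1 0 = 0 := mul_self_eq_zero.mp h20
  have h01 : m 0 1 = 0 := mul_self_eq_zero.mp h02
  refine ⟨h10, h01, ?_⟩
  rw [h10, h01, mul_zero, sub_zero] at hm
  have hne : m 0 0 ≠ 0 := left_ne_zero_of_mul (by rw [h00]; exact one_ne_zero)
  apply mul_left_cancel₀ hne
  rw [hm, h00]

variable [IsAlgClosed k]

/-- Isometries of order `p` come from `SL₂`. -/
theorem exists_S2 {p : ℕ} [hp : Fact p.Prime] [CharP k p] (h2 : (2 : k) ≠ 0)
    (M : Matrix (Fin 3) (Fin 3) k) (hJ : M.transpose * JJ k * M = JJ k) (hM : M ^ p = 1) :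
    ∃ s : SL(2, k), S2 s.1 = M := by
  classical
  by_cases hM1 : M = 1
  · exact ⟨1, by rw [hM1]; exact S2_one⟩
  have hnil : (M - 1) ^ 3 = 0 := by
    have h1 : ((Polynomial.X - 1 : Polynomial k)) ^ p = Polynomial.X ^ p - 1 := by
      rw [sub_pow_char, one_pow]
    have h3 := congrArg (Polynomial.aeval M) h1
    rw [map_pow, map_sub, Polynomial.aeval_X, map_one, map_sub, map_pow, Polynomial.aeval_X,
      map_one, hM, sub_self] at h3
    have h4 : (Matrix.toLinAlgEquiv' (M - 1)) ^ p = 0 := by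
      rw [← map_pow, h3, map_zero]
    have h5 := pow_finrank_eq_zero h4
    rw [Module.finrank_fin_fun, ← map_pow] at h5
    exact (Matrix.toLinAlgEquiv'.injective (by rw [h5, map_zero]))
  obtain ⟨y, z, hz, hMz, hy⟩ : ∃ y z : Fin 3 → k, z ≠ 0 ∧ M.mulVec z = z ∧
      z = M.mulVec y - y := by
    have hex : ∀ A : Matrix (Fin 3) (Fin 3) k, A ≠ 0 → ∃ y, A.mulVec y ≠ 0 := by
      intro A hA
      by_contra h
      push Not at h
      apply hA
      apply Matrix.toLinAlgEquiv'.injective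
      rw [map_zero]
      exact LinearMap.ext h
    by_cases h3 : (M - 1) ^ 2 = 0
    · obtain ⟨y, hy⟩ := hex (M - 1) (sub_ne_zero.mpr hM1)
      refine ⟨y, (M - 1).mulVec y, hy, ?_, by rw [Matrix.sub_mulVec, Matrix.one_mulVec]⟩
      have h4 : (M - 1).mulVec ((M - 1).mulVec y) = 0 := by
        rw [Matrix.mulVec_mulVec, ← pow_two, h3, Matrix.zero_mulVec]
      rw [Matrix.sub_mulVec, Matrix.one_mulVec, sub_eq_zero] at h4
      exact h4
    · obtain ⟨y, hy⟩ := hex _ h3
      refine ⟨(M - 1).mulVec y, ((M - 1) ^ 2).mulVec y, hy, ?_, ?_⟩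
      · have h4 : (M - 1).mulVec (((M - 1) ^ 2).mulVec y) = 0 := by
          rw [Matrix.mulVec_mulVec, ← pow_succ', hnil, Matrix.zero_mulVec]
        rw [Matrix.sub_mulVec, Matrix.one_mulVec, sub_eq_zero] at h4
        exact h4
      · rw [pow_two, ← Matrix.mulVec_mulVec]
        generalize (M - 1).mulVec y = w
        rw [Matrix.sub_mulVec, Matrix.one_mulVec]
  -- `z` is isotropic
  have hiso : z ⬝ᵥ (JJ k).mulVec z = 0 := by
    have h3 : (M.mulVec y) ⬝ᵥ (JJ k).mulVec (M.mulVec z) = y ⬝ᵥ (JJ k).mulVec z := by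
      rw [← Matrix.vecMul_transpose, ← Matrix.dotProduct_mulVec, Matrix.mulVec_mulVec,
        Matrix.mulVec_mulVec, hJ]
    rw [hMz] at h3
    conv_lhs => rw [hy]
    rw [sub_dotProduct, ← hy, h3, sub_self]
  have hz2 : z 1 * z 1 = z 0 * z 2 := by
    have h3 : 2 * (z 0 * z 2 - z 1 * z 1) = 0 := by
      rw [← hiso]
      simp [JJ, Matrix.mulVec, dotProduct, Fin.sum_univ_three]
      ring
    exact (sub_eq_zero.mp ((mul_eq_zero.mp h3).resolve_left h2)).symm
  obtain ⟨s, hs⟩ := IsAlgClosed.exists_eq_mul_self (z 0)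
  obtain ⟨t, ht, hst⟩ : ∃ t, z 2 = t * t ∧ z 1 = s * t := by
    obtain ⟨t, ht⟩ := IsAlgClosed.exists_eq_mul_self (z 2)
    have h3 : (z 1 - s * t) * (z 1 + s * t) = 0 := by
      have : (z 1 - s * t) * (z 1 + s * t) = z 1 * z 1 - (s * s) * (t * t) := by ring
      rw [this, hz2, ← hs, ← ht, sub_self]
    rcases mul_eq_zero.mp h3 with h4 | h4
    · exact ⟨t, ht, by linear_combination h4⟩
    · exact ⟨-t, by rw [ht]; ring, by linear_combination h4⟩
  obtain ⟨a, b, hab⟩ : ∃ a b : k, s * b - a * t = 1 := by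
    by_cases hs0 : s = 0
    · have ht0 : t ≠ 0 := by
        intro ht0
        apply hz
        ext i
        fin_cases i
        · show z 0 = 0; rw [hs, hs0, mul_zero]
        · show z 1 = 0; rw [hst, hs0, zero_mul]
        · show z 2 = 0; rw [ht, ht0, mul_zero]
      exact ⟨-t⁻¹, 0, by rw [mul_zero, zero_sub, neg_mul, neg_neg, inv_mul_cancel₀ ht0]⟩
    · exact ⟨0, s⁻¹, by rw [zero_mul, sub_zero, mul_inv_cancel₀ hs0]⟩
  let m : SL(2, k) := ⟨!![s, a; t, b], by rw [Matrix.det_fin_two_of]; exact hab⟩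
  have hmm : S2 (m⁻¹).1 * S2 m.1 = 1 := by
    rw [← S2_mul]
    have h3 : (m⁻¹).1 * m.1 = 1 := by
      rw [← Matrix.SpecialLinearGroup.coe_mul, inv_mul_cancel]; rfl
    rw [h3, S2_one]
  have hmm' : S2 m.1 * S2 (m⁻¹).1 = 1 := by
    rw [← S2_mul]
    have h3 : m.1 * (m⁻¹).1 = 1 := by
      rw [← Matrix.SpecialLinearGroup.coe_mul, mul_inv_cancel]; rfl
    rw [h3, S2_one]
  have hdet : ∀ g : SL(2, k), g.1 0 0 * g.1 1 1 - g.1 0 1 * g.1 1 0 = 1 := by
    intro g
    have h3 := g.2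
    rw [Matrix.det_fin_two] at h3
    exact h3
  set M' := S2 (m⁻¹).1 * M * S2 m.1 with hM'
  have hJ' : M'.transpose * JJ k * M' = JJ k := by
    have g1 := S2_gram (m⁻¹).1 (hdet _)
    have g2 := S2_gram m.1 (hdet _)
    calc M'.transpose * JJ k * M'
        = (S2 m.1).transpose * (M.transpose * ((S2 (m⁻¹).1).transpose * JJ k * S2 (m⁻¹).1) * M) *
            S2 m.1 := by
          rw [hM', Matrix.transpose_mul, Matrix.transpose_mul]; simp only [Matrix.mul_assoc]
      _ = JJ k := by rw [g1, hJ, g2]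
  have hcol : M'.mulVec (Pi.single 0 1) = Pi.single 0 1 := by
    have hz' : (S2 m.1).mulVec (Pi.single 0 1) = z := by
      ext i
      rw [Matrix.mulVec_single_one]
      fin_cases i
      · show s * s = z 0; exact hs.symm
      · show s * t = z 1; exact hst.symm
      · show t * t = z 2; exact ht.symm
    have h3 : M'.mulVec (Pi.single 0 1) = (S2 (m⁻¹).1).mulVec (M.mulVec ((S2 m.1).mulVec (Pi.single 0 1))) := by
      rw [hM', Matrix.mulVec_mulVec, Matrix.mulVec_mulVec, Matrix.mul_assoc]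
    rw [h3, hz', hMz, ← hz', Matrix.mulVec_mulVec, hmm, Matrix.one_mulVec]
  have hc : ∀ i, M' i 0 = (Pi.single 0 1 : Fin 3 → k) i := by
    intro i
    have h3 := congrFun hcol i
    rw [Matrix.mulVec_single_one] at h3
    exact h3
  have hnil' : (M' - 1) ^ 3 = 0 := by
    have h3 : M' - 1 = S2 (m⁻¹).1 * (M - 1) * S2 m.1 := by
      rw [hM', Matrix.mul_sub, Matrix.sub_mul, Matrix.mul_one, hmm]
    have h4 : ∀ r : ℕ, (S2 (m⁻¹).1 * (M - 1) * S2 m.1) ^ r = S2 (m⁻¹).1 * (M - 1) ^ r * S2 m.1 := by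
      intro r
      induction r with
      | zero => rw [pow_zero, pow_zero, Matrix.mul_one, hmm]
      | succ r ih =>
        rw [pow_succ, ih, pow_succ]
        calc S2 (m⁻¹).1 * (M - 1) ^ r * S2 m.1 * (S2 (m⁻¹).1 * (M - 1) * S2 m.1)
            = S2 (m⁻¹).1 * (M - 1) ^ r * (S2 m.1 * S2 (m⁻¹).1) * (M - 1) * S2 m.1 := by
              simp only [Matrix.mul_assoc]
          _ = _ := by rw [hmm', Matrix.mul_one]; simp only [Matrix.mul_assoc]
    rw [h3, h4, hnil, Matrix.mul_zero, Matrix.zero_mul]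
  obtain ⟨δ, hδ⟩ := unip_form h2 M' hJ' (hc 0) (hc 1) (hc 2) hnil'
  let x : SL(2, k) := ⟨!![1, δ; 0, 1], by rw [Matrix.det_fin_two_of]; ring⟩
  refine ⟨m * x * m⁻¹, ?_⟩
  rw [Matrix.SpecialLinearGroup.coe_mul, Matrix.SpecialLinearGroup.coe_mul, S2_mul, S2_mul]
  have h3 : S2 x.1 = M' := hδ.symm
  rw [h3, hM']
  calc S2 m.1 * (S2 (m⁻¹).1 * M * S2 m.1) * S2 (m⁻¹).1
      = (S2 m.1 * S2 (m⁻¹).1) * M * (S2 m.1 * S2 (m⁻¹).1) := by simp only [Matrix.mul_assoc]
    _ = M := by rw [hmm', Matrix.one_mul, Matrix.mul_one]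

end sym

section mat

open Subgroup

variable {G : Type u} [Group G] [Finite G] {p : ℕ} [hp : Fact p.Prime]
  {k : Type v} [Field k] [CharP k p] {V : Type w} [AddCommGroup V] [Module k V]
  [FiniteDimensional k V]

theorem exists_matrix (ρ : G →* Module.End k V) {u : G} (hu : orderOf u = p)
    (hsq : ¬ p ^ 2 ∣ Nat.card G) (hn2 : 2 ≤ finrank k V) (hn : 2 * finrank k V + 1 ≤ p)
    (hU1 : (ρ u - 1) ^ (finrank k V - 1) ≠ 0)
    (hSchur : ∀ a : Module.End k V, (∀ g : G, ρ g * a = a * ρ g) → ∃ c : k, a = c • 1) :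
    ∃ γ : G →* Matrix (Fin 3) (Fin 3) k, (∀ g, (γ g).transpose * JJ k * γ g = JJ k) ∧
      γ u = S2 !![1, 1; 0, 1] ∧
      ∃ g, (γ g).mulVec (Pi.single 0 1) ≠ Pi.single 0 1 := by
  classical
  have hp5 : 5 ≤ p := by omega
  have h2 : (2 : k) ≠ 0 := by
    intro h
    have h3 : ((2 : ℕ) : k) = 0 := by exact_mod_cast h
    rw [CharP.cast_eq_zero_iff k p] at h3
    exact absurd (Nat.le_of_dvd (by norm_num) h3) (by omega)
  obtain ⟨y0, y1, y2, hy0, hy1, hy2, hst, hβ, h22, hmove⟩ :=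
    exists_three ρ hu hsq hn2 hn hU1 hSchur
  set B := tf k V with hB
  have hsymm : ∀ x y, B x y = B y x := fun x y => LinearMap.trace_mul_comm k x y
  have hinv : ∀ (g : G) (x y), B (adj ρ g x) (adj ρ g y) = B x y := by
    intro g x y
    show LinearMap.trace k V (adj ρ g x * adj ρ g y) = _
    rw [← adj_mul, trace_adj]; rfl
  obtain ⟨g00, g01, g11, g12⟩ := gram h2 B hsymm (adj ρ u) (hinv u) hy0 hy1 hy2
  set β := B y0 y2 with hβdef
  let v : Fin 3 → Module.End k V := ![y0, y1, y2]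
  have hli : LinearIndependent k v := by
    rw [Fintype.linearIndependent_iff]
    intro g hg
    rw [Fin.sum_univ_three] at hg
    have hg' : g 0 • y0 + g 1 • y1 + g 2 • y2 = 0 := hg
    have h3 := gram_indep B h2 (x0 := y0) (x1 := y1) (x2 := y2) hβ
      g00 g01 g11 g12 (by rw [hsymm, g01]) (hsymm _ _) hg'
    intro i
    fin_cases i
    · exact h3.1
    · exact h3.2.1
    · exact h3.2.2
  have hrange : Set.range v = ({y0, y1, y2} : Set (Module.End k V)) := by
    ext z
    constructor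
    · rintro ⟨i, rfl⟩
      fin_cases i
      · exact Or.inl rfl
      · exact Or.inr (Or.inl rfl)
      · exact Or.inr (Or.inr rfl)
    · rintro (rfl | rfl | rfl)
      · exact ⟨0, rfl⟩
      · exact ⟨1, rfl⟩
      · exact ⟨2, rfl⟩
  rw [← hrange] at hst
  set S := Submodule.span k (Set.range v) with hS
  let b : Basis (Fin 3) k S := Basis.span hli
  have hbv : ∀ i, ((b i : S) : Module.End k V) = v i := fun i =>
    congrArg Subtype.val (Basis.span_apply hli i)
  let τ : G →* Module.End k S :=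
    { toFun := fun g => (adj ρ g).restrict (hst g)
      map_one' := by
        refine LinearMap.ext (fun x => Subtype.ext ?_)
        show adj ρ 1 (x : Module.End k V) = x
        rw [map_one]; rfl
      map_mul' := fun g h => by
        refine LinearMap.ext (fun x => Subtype.ext ?_)
        show adj ρ (g * h) (x : Module.End k V) = adj ρ g (adj ρ h x)
        rw [map_mul]; rfl }
  have hτ : ∀ g (x : S), ((τ g x : S) : Module.End k V) = adj ρ g x := fun g x => rfl
  let γ : G →* Matrix (Fin 3) (Fin 3) k :=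
    (((LinearMap.toMatrixAlgEquiv b) : Module.End k S ≃ₐ[k] Matrix (Fin 3) (Fin 3) k) :
      Module.End k S →* Matrix (Fin 3) (Fin 3) k).comp τ
  have hγ : ∀ g i j, γ g i j = b.repr (τ g (b j)) i := fun g i j =>
    LinearMap.toMatrixAlgEquiv_apply b (τ g) i j
  have hrep : ∀ g j, adj ρ g (v j) = ∑ i, γ g i j • v i := by
    intro g j
    have h3 := b.sum_repr (τ g (b j))
    have h4 := congrArg (fun x : S => (x : Module.End k V)) h3
    simp only [Submodule.coe_sum, Submodule.coe_smul, hτ, hbv] at h4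
    rw [← h4]
    refine Finset.sum_congr rfl (fun i _ => ?_)
    rw [hγ]
  have hGr : ∀ i j, B (v i) (v j) = β * JJ k i j := by
    intro i j
    fin_cases i <;> fin_cases j
    · show B y0 y0 = β * 0; rw [g00, mul_zero]
    · show B y0 y1 = β * 0; rw [g01, mul_zero]
    · show B y0 y2 = β * 1; rw [mul_one]
    · show B y1 y0 = β * 0; rw [hsymm, g01, mul_zero]
    · show B y1 y1 = β * (-2); rw [g11]; ring
    · show B y1 y2 = β * 0; rw [g12, mul_zero]
    · show B y2 y0 = β * 1; rw [hsymm, mul_one]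
    · show B y2 y1 = β * 0; rw [hsymm, g12, mul_zero]
    · show B y2 y2 = β * 0; rw [h22, mul_zero]
  refine ⟨γ, ?_, ?_, ?_⟩
  · intro g
    ext i j
    have h3 := hinv g (v i) (v j)
    rw [hrep, hrep, hGr] at h3
    simp only [map_sum, map_smul, LinearMap.sum_apply, LinearMap.smul_apply, smul_eq_mul, hGr] at h3
    apply mul_left_cancel₀ hβ
    rw [← h3, Matrix.mul_apply, Finset.mul_sum]
    refine Finset.sum_congr rfl (fun m _ => ?_)
    rw [Matrix.mul_apply, Finset.sum_mul, Finset.mul_sum, Finset.mul_sum]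
    refine Finset.sum_congr rfl (fun l _ => ?_)
    rw [Matrix.transpose_apply]
    ring
  · have hb0 : τ u (b 0) = b 0 := by
      apply Subtype.ext; rw [hτ, hbv]; exact hy0
    have hb1 : τ u (b 1) = b 1 + (2 : k) • b 0 := by
      apply Subtype.ext
      rw [hτ, Submodule.coe_add, Submodule.coe_smul, hbv, hbv]; exact hy1
    have hb2 : τ u (b 2) = b 2 + b 1 + b 0 := by
      apply Subtype.ext
      rw [hτ, Submodule.coe_add, Submodule.coe_add, hbv, hbv, hbv]; exact hy2
    ext i j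
    rw [hγ]
    fin_cases j
    · show b.repr (τ u (b 0)) i = _
      rw [hb0, Basis.repr_self]
      fin_cases i <;> simp [S2]
    · show b.repr (τ u (b 1)) i = _
      rw [hb1, map_add, map_smul, Basis.repr_self, Basis.repr_self]
      fin_cases i <;> simp [S2]
    · show b.repr (τ u (b 2)) i = _
      rw [hb2, map_add, map_add, Basis.repr_self, Basis.repr_self, Basis.repr_self]
      fin_cases i <;> simp [S2]
  · obtain ⟨g, hg⟩ := hmove
    refine ⟨g, fun h => hg ?_⟩
    have h3 := hrep g 0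
    have h4 : ∀ i, γ g i 0 = (Pi.single 0 1 : Fin 3 → k) i := by
      intro i
      have h5 := congrFun h i
      rw [Matrix.mulVec_single_one] at h5
      exact h5
    simp only [h4] at h3
    rw [Fin.sum_univ_three] at h3
    have h5 : adj ρ g y0 = y0 := by
      have h6 : adj ρ g (v 0) = y0 := by
        rw [h3]
        show (Pi.single 0 1 : Fin 3 → k) 0 • y0 + (Pi.single 0 1 : Fin 3 → k) 1 • y1 +
          (Pi.single 0 1 : Fin 3 → k) 2 • y2 = y0
        simp
      exact h6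
    exact h5

end mat

section theta

open Subgroup

variable {G : Type u} [Group G] {p : ℕ} [hp : Fact p.Prime]
  {k : Type v} [Field k] [CharP k p] [IsAlgClosed k]

omit [IsAlgClosed k] in
theorem sl_det (g : SL(2, k)) : g.1 0 0 * g.1 1 1 - g.1 0 1 * g.1 1 0 = 1 := by
  have h3 := g.2
  rw [Matrix.det_fin_two] at h3
  exact h3

/-- The homomorphism to `PGL₂`. -/
theorem exists_theta (h2 : (2 : k) ≠ 0) (γ : G →* Matrix (Fin 3) (Fin 3) k)
    (hJ : ∀ g, (γ g).transpose * JJ k * γ g = JJ k)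
    (hgen : Subgroup.closure {g : G | g ^ p = 1} = ⊤) :
    ∃ θ : G →* PGL(2, k), ∀ g : G, ∃ s : SL(2, k), S2 s.1 = γ g ∧
      θ g = Matrix.ProjGenLinGroup.mk (Matrix.SpecialLinearGroup.toGL s) := by
  classical
  have hex : ∀ g : G, ∃ s : SL(2, k), S2 s.1 = γ g := by
    let H : Subgroup G :=
      { carrier := {g | ∃ s : SL(2, k), S2 s.1 = γ g}
        mul_mem' := by
          rintro a b ⟨s, hs⟩ ⟨t, ht⟩
          exact ⟨s * t, by rw [Matrix.SpecialLinearGroup.coe_mul, S2_mul, hs, ht, map_mul]⟩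
        one_mem' := ⟨1, by rw [map_one]; exact S2_one⟩
        inv_mem' := by
          rintro a ⟨s, hs⟩
          refine ⟨s⁻¹, ?_⟩
          have h3 : S2 (s⁻¹).1 * S2 s.1 = 1 := by
            rw [← S2_mul]
            have h3 : (s⁻¹).1 * s.1 = 1 := by
              rw [← Matrix.SpecialLinearGroup.coe_mul, inv_mul_cancel]; rfl
            rw [h3, S2_one]
          calc S2 (s⁻¹).1 = S2 (s⁻¹).1 * (γ a * γ a⁻¹) := by
                rw [← map_mul, mul_inv_cancel, map_one, mul_one]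
            _ = (S2 (s⁻¹).1 * S2 s.1) * γ a⁻¹ := by rw [hs, mul_assoc]
            _ = γ a⁻¹ := by rw [h3, one_mul] }
    have h1 : Subgroup.closure {g : G | g ^ p = 1} ≤ H := by
      rw [Subgroup.closure_le]
      intro g hg
      have hg' : g ^ p = 1 := hg
      exact exists_S2 (p := p) h2 (γ g) (hJ g) (by rw [← map_pow, hg', map_one])
    intro g
    rw [hgen] at h1
    exact h1 (Subgroup.mem_top g)
  choose s hs using hex
  have huniq : ∀ a b : SL(2, k), S2 a.1 = S2 b.1 →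
      (Matrix.ProjGenLinGroup.mk (Matrix.SpecialLinearGroup.toGL a) : PGL(2, k)) =
        Matrix.ProjGenLinGroup.mk (Matrix.SpecialLinearGroup.toGL b) := by
    intro a b hab
    have h3 : S2 (b⁻¹ * a).1 = 1 := by
      rw [Matrix.SpecialLinearGroup.coe_mul, S2_mul, hab, ← S2_mul,
        ← Matrix.SpecialLinearGroup.coe_mul, inv_mul_cancel]
      exact S2_one
    obtain ⟨e1, e2, e3⟩ := S2_eq_one (sl_det _) h3
    have h4 : (Matrix.ProjGenLinGroup.mk (Matrix.SpecialLinearGroup.toGL (b⁻¹ * a)) :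
        PGL(2, k)) = 1 := Dk.mk_eq_one_iff.mpr ⟨e1, e2, e3⟩
    rw [map_mul, map_inv, map_mul, map_inv] at h4
    exact (inv_mul_eq_one.mp h4).symm
  refine ⟨{ toFun := fun g => Matrix.ProjGenLinGroup.mk (Matrix.SpecialLinearGroup.toGL (s g))
            map_one' := ?_
            map_mul' := ?_ }, fun g => ⟨s g, hs g, rfl⟩⟩
  · have h3 := huniq (s 1) 1 (by rw [hs, map_one]; exact S2_one.symm)
    rw [h3, map_one, map_one]
  · intro g h
    rw [← map_mul, ← map_mul]
    apply huniq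
    rw [hs, map_mul, Matrix.SpecialLinearGroup.coe_mul, S2_mul, hs, hs]

end theta

end Cfsg.Agent.H79.MR
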