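import Cfsg.Agent.H79.ModP

/-!
# Small modular representations: the three-dimensional summand of the endomorphisms
-/

set_option autoImplicit false
set_option linter.style.haveILetI false

open Module

namespace Cfsg.Agent.H79.MR

universe u v w

section gram

variable {k : Type v} [Field k] {W : Type w} [AddCommGroup W] [Module k W]

theorem gram (h2 : (2 : k) ≠ 0) (B : W →ₗ[k] W →ₗ[k] k) (hs : ∀ x y, B x y = B y x)
    (c : Module.End k W) (hc : ∀ x y, B (c x) (c y) = B x y) {x0 x1 x2 : W} (h0 : c x0 = x0)
    (h1 : c x1 = x1 + (2 : k) • x0) (h3 : c x2 = x2 + x1 + x0) :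
    B x0 x0 = 0 ∧ B x0 x1 = 0 ∧ B x1 x1 = -(2 * B x0 x2) ∧ B x1 x2 = 0 := by
  have e01 := hc x0 x1
  have e11 := hc x1 x1
  have e12 := hc x1 x2
  have e22 := hc x2 x2
  rw [h0, h1] at e01
  rw [h1] at e11
  rw [h1, h3] at e12
  rw [h3] at e22
  simp only [map_add, map_smul, LinearMap.add_apply, LinearMap.smul_apply, smul_eq_mul] at e01 e11 e12 e22
  have s10 := hs x1 x0
  have s20 := hs x2 x0
  have s21 := hs x2 x1
  have a00 : B x0 x0 = 0 := by
    have : 2 * B x0 x0 = 0 := by linear_combination e01
    exact (mul_eq_zero.mp this).resolve_left h2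
  have a01 : B x0 x1 = 0 := by
    have : 2 * (2 * B x0 x1) = 0 := by
      rw [s10, a00] at e11
      linear_combination e11
    exact (mul_eq_zero.mp ((mul_eq_zero.mp this).resolve_left h2)).resolve_left h2
  have a11 : B x1 x1 = -(2 * B x0 x2) := by
    rw [s10, a00, a01] at e12
    linear_combination e12
  refine ⟨a00, a01, a11, ?_⟩
  have : 2 * B x1 x2 = 0 := by
    rw [s10, s20, s21, a00, a01, a11] at e22
    linear_combination e22
  exact (mul_eq_zero.mp this).resolve_left h2

/-- The orthogonal projection to a three-dimensional space. -/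
noncomputable def proj3 (B : W →ₗ[k] W →ₗ[k] k) (x0 x1 x2 : W) : Module.End k W :=
  (B x0 x2)⁻¹ • (B x2).smulRight x0 - (2 * B x0 x2)⁻¹ • (B x1).smulRight x1 +
    (B x0 x2)⁻¹ • (B x0).smulRight x2

theorem proj3_apply (B : W →ₗ[k] W →ₗ[k] k) (x0 x1 x2 w : W) :
    proj3 B x0 x1 x2 w = ((B x0 x2)⁻¹ * B x2 w) • x0 - ((2 * B x0 x2)⁻¹ * B x1 w) • x1 +
      ((B x0 x2)⁻¹ * B x0 w) • x2 := by
  simp only [proj3, LinearMap.add_apply, LinearMap.sub_apply, LinearMap.smul_apply,
    LinearMap.smulRight_apply, smul_smul]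

/-- The elements are linearly independent. -/
theorem gram_indep (B : W →ₗ[k] W →ₗ[k] k) (h2 : (2 : k) ≠ 0) {x0 x1 x2 : W}
    (hβ : B x0 x2 ≠ 0) (h00 : B x0 x0 = 0) (h01 : B x0 x1 = 0) (h11 : B x1 x1 = -(2 * B x0 x2))
    (h12 : B x1 x2 = 0) (h10 : B x1 x0 = 0) (h20 : B x2 x0 = B x0 x2) {a b c : k}
    (h : a • x0 + b • x1 + c • x2 = 0) : a = 0 ∧ b = 0 ∧ c = 0 := by
  have e0 := congrArg (B x0) h
  have e1 := congrArg (B x1) h
  have e2 := congrArg (B x2) h
  simp only [map_add, map_smul, smul_eq_mul, map_zero, h00, h01, h11, h12, h10, h20, mul_zero,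
    zero_add, add_zero] at e0 e1 e2
  have hc : c = 0 := (mul_eq_zero.mp e0).resolve_right hβ
  have hb : b = 0 := by
    have h3 : -(2 * B x0 x2) ≠ 0 := neg_ne_zero.mpr (mul_ne_zero h2 hβ)
    exact (mul_eq_zero.mp e1).resolve_right h3
  rw [hc, hb, zero_mul, zero_mul, add_zero, add_zero] at e2
  exact ⟨(mul_eq_zero.mp e2).resolve_right hβ, hb, hc⟩

end gram

section three

open Subgroup

variable {G : Type u} [Group G] [Finite G] {p : ℕ} [hp : Fact p.Prime]
  {k : Type v} [Field k] [CharP k p] {V : Type w} [AddCommGroup V] [Module k V]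
  [FiniteDimensional k V]

/-- The trace form. -/
noncomputable def tf (k : Type v) [Field k] (V : Type w) [AddCommGroup V] [Module k V] :
    Module.End k V →ₗ[k] Module.End k V →ₗ[k] k :=
  LinearMap.mk₂ k (fun a b => LinearMap.trace k V (a * b))
    (fun a b c => by rw [add_mul, map_add]) (fun c a b => by rw [smul_mul_assoc, map_smul])
    (fun a b c => by rw [mul_add, map_add]) (fun c a b => by rw [mul_smul_comm, map_smul])

omit [FiniteDimensional k V] in
theorem tf_apply (a b : Module.End k V) : tf k V a b = LinearMap.trace k V (a * b) := rfl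

theorem exists_three (ρ : G →* Module.End k V) {u : G} (hu : orderOf u = p)
    (hsq : ¬ p ^ 2 ∣ Nat.card G) (hn2 : 2 ≤ finrank k V) (hn : 2 * finrank k V + 1 ≤ p)
    (hU1 : (ρ u - 1) ^ (finrank k V - 1) ≠ 0)
    (hSchur : ∀ a : Module.End k V, (∀ g : G, ρ g * a = a * ρ g) → ∃ c : k, a = c • 1) :
    ∃ y0 y1 y2 : Module.End k V, adj ρ u y0 = y0 ∧ adj ρ u y1 = y1 + (2 : k) • y0 ∧
      adj ρ u y2 = y2 + y1 + y0 ∧
      (∀ (g : G), ∀ T ∈ Submodule.span k ({y0, y1, y2} : Set (Module.End k V)),
          adj ρ g T ∈ Submodule.span k ({y0, y1, y2} : Set (Module.End k V))) ∧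
      tf k V y0 y2 ≠ 0 ∧ tf k V y2 y2 = 0 ∧ ∃ g : G, adj ρ g y0 ≠ y0 := by
  classical
  set n := finrank k V with hndef
  have hp5 : 5 ≤ p := by omega
  have h2 : (2 : k) ≠ 0 := by
    intro h
    have h3 : ((2 : ℕ) : k) = 0 := by exact_mod_cast h
    rw [CharP.cast_eq_zero_iff k p] at h3
    exact absurd (Nat.le_of_dvd (by norm_num) h3) (by omega)
  set B := tf k V with hB
  have hsymm : ∀ x y, B x y = B y x := fun x y => LinearMap.trace_mul_comm k x y
  have hinv : ∀ (g : G) (x y), B (adj ρ g x) (adj ρ g y) = B x y := by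
    intro g x y
    show LinearMap.trace k V (adj ρ g x * adj ρ g y) = _
    rw [← adj_mul, trace_adj]; rfl
  obtain ⟨x0, x1, x2', hx0, hx1, hx2', hNs', hβ'⟩ :=
    exists_triple ρ hu hsq rfl hn2 (by omega) hU1
  obtain ⟨g00, g01, g11', g12'⟩ := gram h2 B hsymm (adj ρ u) (hinv u) hx0 hx1 hx2'
  have hβ0 : B x0 x2' ≠ 0 := hβ'
  -- normalize
  obtain ⟨x2, hx2def, hx2, hβ, h22⟩ : ∃ x2, (∃ γ : k, x2 = x2' + γ • x0) ∧
      adj ρ u x2 = x2 + x1 + x0 ∧ B x0 x2 ≠ 0 ∧ B x2 x2 = 0 := by
    refine ⟨x2' + (-(B x2' x2') * (2 * B x0 x2')⁻¹) • x0, ⟨_, rfl⟩, ?_, ?_, ?_⟩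
    · rw [map_add, map_smul, hx2', hx0]; abel
    · rw [map_add, map_smul, g00, smul_zero, add_zero]; exact hβ0
    · simp only [map_add, map_smul, LinearMap.add_apply, LinearMap.smul_apply, smul_eq_mul, g00,
        hsymm x2' x0]
      field_simp
      ring
  obtain ⟨γ, hγ⟩ := hx2def
  set S := Submodule.span k ({x0, x1, x2} : Set (Module.End k V)) with hS
  have m0 : x0 ∈ S := Submodule.subset_span (by simp)
  have m1 : x1 ∈ S := Submodule.subset_span (by simp)
  have m2 : x2 ∈ S := Submodule.subset_span (by simp)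
  have hSS : Submodule.span k ({x0, x1, x2'} : Set (Module.End k V)) = S := by
    apply le_antisymm
    · rw [Submodule.span_le]
      rintro x (rfl | rfl | rfl)
      · exact m0
      · exact m1
      · have h3 : x = x2 - γ • x0 := by rw [hγ, add_sub_cancel_right]
        rw [h3]; exact S.sub_mem m2 (S.smul_mem _ m0)
    · rw [hS, Submodule.span_le]
      rintro x (rfl | rfl | rfl)
      · exact Submodule.subset_span (by simp)
      · exact Submodule.subset_span (by simp)
      · rw [hγ]
        exact Submodule.add_mem _ (Submodule.subset_span (by simp))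
          (Submodule.smul_mem _ _ (Submodule.subset_span (by simp)))
  have hNs : ∀ m ∈ normalizer ((zpowers u : Subgroup G) : Set G), ∀ T ∈ S, adj ρ m T ∈ S := by
    rw [← hSS]; exact hNs'
  obtain ⟨-, -, g11, g12⟩ := gram h2 B hsymm (adj ρ u) (hinv u) hx0 hx1 hx2
  have g10 : B x1 x0 = 0 := by rw [hsymm, g01]
  have g20 : B x2 x0 = B x0 x2 := hsymm _ _
  have g21 : B x2 x1 = 0 := by rw [hsymm, g12]
  set β := B x0 x2 with hβdef
  -- the projection
  set f := proj3 B x0 x1 x2 with hf
  have hfw : ∀ w, f w = (β⁻¹ * B x2 w) • x0 - ((2 * β)⁻¹ * B x1 w) • x1 + (β⁻¹ * B x0 w) • x2 :=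
    fun w => proj3_apply B x0 x1 x2 w
  have hfS : ∀ w, f w ∈ S := by
    intro w
    rw [hfw]
    exact S.add_mem (S.sub_mem (S.smul_mem _ m0) (S.smul_mem _ m1)) (S.smul_mem _ m2)
  have f0 : f x0 = x0 := by
    rw [hfw, g20, g10, g00, inv_mul_cancel₀ hβ]; simp
  have f1 : f x1 = x1 := by
    rw [hfw, g21, g11, g01]
    have h3 : (2 * β)⁻¹ * -(2 * β) = -1 := by
      rw [mul_neg, inv_mul_cancel₀ (mul_ne_zero h2 hβ)]
    rw [h3]; simp
  have f2 : f x2 = x2 := by
    rw [hfw, h22, g12, ← hβdef, inv_mul_cancel₀ hβ]; simp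
  have hfid : ∀ w ∈ S, f w = w := by
    intro w hw
    have h3 : S ≤ LinearMap.eqLocus f LinearMap.id := by
      rw [hS, Submodule.span_le]
      rintro x (rfl | rfl | rfl)
      · exact f0
      · exact f1
      · exact f2
    exact h3 hw
  have hff : f * f = f := LinearMap.ext (fun w => hfid _ (hfS w))
  -- orthogonality
  have hort : ∀ w, B x0 (w - f w) = 0 ∧ B x1 (w - f w) = 0 ∧ B x2 (w - f w) = 0 := by
    intro w
    rw [hfw]
    simp only [map_sub, map_add, map_smul, smul_eq_mul, g00, g01, g11, g12, g10, g20, g21, h22]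
    refine ⟨?_, ?_, ?_⟩
    · rw [← hβdef]; field_simp; ring
    · field_simp; ring
    · field_simp; ring
  have hker : ∀ w, B x0 w = 0 → B x1 w = 0 → B x2 w = 0 → f w = 0 := by
    intro w h3 h4 h5
    rw [hfw, h3, h4, h5]; simp
  have hfN : ∀ m ∈ normalizer ((zpowers u : Subgroup G) : Set G), adj ρ m * f = f * adj ρ m := by
    intro m hm
    refine LinearMap.ext (fun w => ?_)
    show adj ρ m (f w) = f (adj ρ m w)
    have h3 : adj ρ m w = adj ρ m (f w) + adj ρ m (w - f w) := by rw [← map_add]; congr 1; abel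
    rw [h3, map_add, hfid _ (hNs m hm _ (hfS w))]
    have hperp : ∀ y ∈ S, B y (w - f w) = 0 := by
      intro y hy
      obtain ⟨o0, o1, o2⟩ := hort w
      have h4 : S ≤ LinearMap.ker (B.flip (w - f w)) := by
        rw [hS, Submodule.span_le]
        rintro x (rfl | rfl | rfl)
        · exact o0
        · exact o1
        · exact o2
      exact h4 hy
    have h5 : ∀ y ∈ S, B y (adj ρ m (w - f w)) = 0 := by
      intro y hy
      have h6 : y = adj ρ m (adj ρ m⁻¹ y) :=
        (congrArg (fun b : Module.End k (Module.End k V) => b y) (rho_inv (adj ρ) m)).symm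
      rw [h6, hinv]
      exact hperp _ (hNs _ (inv_mem hm) _ hy)
    rw [hker _ (h5 _ m0) (h5 _ m1) (h5 _ m2), add_zero]
  have hUn : (ρ u - 1) ^ n = 0 := by
    apply pow_finrank_eq_zero (m := p)
    exact sub_one_pow_p ρ (by rw [← hu]; exact pow_orderOf_eq_one u)
  have hD : (adj ρ u - 1) ^ (p - 1) = 0 := adj_sub_one_pow ρ u hUn (by omega)
  obtain ⟨e, he, heG, hlow⟩ := exists_idem (adj ρ) u hu hsq f hff hfN hD
  set D := adj ρ u - 1 with hDdef
  have D0 : D x0 = 0 := by show adj ρ u x0 - x0 = 0; rw [hx0, sub_self]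
  have D1 : D x1 = (2 : k) • x0 := by
    show adj ρ u x1 - x1 = _; rw [hx1, add_sub_cancel_left]
  have D2 : D x2 = x1 + x0 := by
    show adj ρ u x2 - x2 = _; rw [hx2]; abel
  have hecomm : ∀ (g : G) (w), adj ρ g (e w) = e (adj ρ g w) := fun g w =>
    congrArg (fun b : Module.End k (Module.End k V) => b w) (heG g)
  have hee : ∀ w, e (e w) = e w := fun w =>
    congrArg (fun b : Module.End k (Module.End k V) => b w) he
  have e0 : e x0 = x0 := by
    have h3 := hlow.apply_eq_zero D0
    have h4 : e x0 - f x0 = 0 := h3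
    rw [sub_eq_zero.mp h4, f0]
  -- the second coordinate
  have hj : D (D ((e - f) x2)) = 0 := by
    have h3 := hlow 2 x2 (by
      show D (D (D x2)) = 0
      rw [D2, map_add, D0, add_zero, D1, map_smul, D0, smul_zero])
    exact h3
  have hB0j : B x0 ((e - f) x2) = 0 := by
    set b := (e - f) x2 with hb
    have c1 : adj ρ u b = b + D b := by show _ = b + (adj ρ u b - b); abel
    have c2 : adj ρ u (D b) = D b := by
      have h3 : adj ρ u (D b) - D b = 0 := hj
      exact sub_eq_zero.mp h3
    have a1 := hinv u x1 (D b)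
    rw [hx1, c2] at a1
    simp only [map_add, map_smul, LinearMap.add_apply, LinearMap.smul_apply, smul_eq_mul] at a1
    have b0 : B x0 (D b) = 0 := by
      have : 2 * B x0 (D b) = 0 := by linear_combination a1
      exact (mul_eq_zero.mp this).resolve_left h2
    have a2 := hinv u x2 (D b)
    rw [hx2, c2] at a2
    simp only [map_add, LinearMap.add_apply] at a2
    have b1 : B x1 (D b) = 0 := by
      rw [b0] at a2
      linear_combination a2
    have a3 := hinv u x1 b
    rw [hx1, c1] at a3
    simp only [map_add, map_smul, LinearMap.add_apply, LinearMap.smul_apply, smul_eq_mul] at a3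
    have : 2 * B x0 b = 0 := by
      rw [b0, b1] at a3
      linear_combination a3
    exact (mul_eq_zero.mp this).resolve_left h2
  set y1 := e x1 with hy1
  set y2' := e x2 with hy2'
  have hβy : B x0 y2' = β := by
    have h3 : y2' = x2 + (e - f) x2 := by
      show e x2 = x2 + (e x2 - f x2)
      rw [f2]; abel
    rw [h3, map_add, hB0j, add_zero]
  have u1 : adj ρ u y1 = y1 + (2 : k) • x0 := by
    rw [hy1, hecomm, hx1, map_add, map_smul, e0]
  have u2' : adj ρ u y2' = y2' + y1 + x0 := by
    rw [hy2', hecomm, hx2, map_add, map_add, e0]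
  set y2 := y2' + (-(B y2' y2') * (2 * β)⁻¹) • x0 with hy2
  have u2 : adj ρ u y2 = y2 + y1 + x0 := by
    rw [hy2, map_add, map_smul, u2', hx0]; abel
  have hβy2 : B x0 y2 = β := by
    rw [hy2, map_add, map_smul, g00, smul_zero, add_zero, hβy]
  have hy22 : B y2 y2 = 0 := by
    rw [hy2]
    simp only [map_add, map_smul, LinearMap.add_apply, LinearMap.smul_apply, smul_eq_mul, g00,
      hsymm y2' x0, hβy]
    field_simp
    ring
  obtain ⟨-, k01, k11, k12⟩ := gram h2 B hsymm (adj ρ u) (hinv u) hx0 u1 u2
  have ey0 : e x0 = x0 := e0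
  have ey1 : e y1 = y1 := hee x1
  have ey2 : e y2 = y2 := by rw [hy2, map_add, map_smul, e0]; rw [hy2', hee]
  refine ⟨x0, y1, y2, hx0, u1, u2, ?_, by rw [hβy2]; exact hβ, hy22, ?_⟩
  · -- the span is the range of `e`
    have hspan : Submodule.span k ({x0, y1, y2} : Set (Module.End k V)) = LinearMap.range e := by
      apply Submodule.eq_of_le_of_finrank_le
      · rw [Submodule.span_le]
        rintro x (rfl | rfl | rfl)
        · exact ⟨x, ey0⟩
        · exact ⟨y1, ey1⟩
        · exact ⟨y2, ey2⟩
      · -- dimensions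
        have hle3 : finrank k (LinearMap.range e) ≤ 3 := by
          have hinjf : Function.Injective (f.domRestrict (LinearMap.range e)) := by
            rw [← LinearMap.ker_eq_bot, LinearMap.ker_eq_bot']
            rintro ⟨x, hx⟩ hfx
            apply Subtype.ext
            show x = 0
            have hex : e x = x := by
              obtain ⟨z, rfl⟩ := hx
              exact hee z
            have hfx' : f x = 0 := hfx
            have h3 : (e - f) x = x := by
              show e x - f x = x
              rw [hex, hfx', sub_zero]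
            have h4 : ∀ m : ℕ, ((e - f) ^ m) x = x := by
              intro m
              induction m with
              | zero => rfl
              | succ m ih =>
                rw [pow_succ']
                show (e - f) (((e - f) ^ m) x) = x
                rw [ih, h3]
            have h5 := h4 (p - 1)
            rw [hlow.pow_eq_zero hD] at h5
            exact h5.symm
          have h6 : finrank k (LinearMap.range e) ≤ finrank k S := by
            have h7 : Function.Injective ((f.domRestrict (LinearMap.range e)).codRestrict S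
                (fun x => hfS x)) := by
              intro a b hab
              apply hinjf
              exact congrArg Subtype.val hab
            exact LinearMap.finrank_le_finrank_of_injective h7
          have h8 : finrank k S ≤ 3 := by
            have h9 := finrank_span_finset_le_card (R := k)
              ({x0, x1, x2} : Finset (Module.End k V))
            have h10 : ({x0, x1, x2} : Finset (Module.End k V)).card ≤ 3 := Finset.card_le_three
            have hcoe : ((({x0, x1, x2} : Finset (Module.End k V))) : Set (Module.End k V)) =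
                {x0, x1, x2} := by
              rw [Finset.coe_insert, Finset.coe_insert, Finset.coe_singleton]
            rw [hcoe] at h9
            exact h9.trans h10
          exact h6.trans h8
        refine hle3.trans ?_
        have hli : LinearIndependent k ![x0, y1, y2] := by
          rw [Fintype.linearIndependent_iff]
          intro g hg
          rw [Fin.sum_univ_three] at hg
          have hg' : g 0 • x0 + g 1 • y1 + g 2 • y2 = 0 := hg
          have h3 := gram_indep B h2 (x0 := x0) (x1 := y1) (x2 := y2) (by rw [hβy2]; exact hβ)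
            g00 k01 k11 k12 (by rw [hsymm, k01]) (hsymm _ _) hg'
          intro i
          fin_cases i
          · exact h3.1
          · exact h3.2.1
          · exact h3.2.2
        have h4 := finrank_span_eq_card hli
        rw [Fintype.card_fin] at h4
        have h5 : Set.range ![x0, y1, y2] = ({x0, y1, y2} : Set (Module.End k V)) := by
          ext z
          constructor
          · rintro ⟨i, rfl⟩
            fin_cases i
            · exact Or.inl rfl
            · exact Or.inr (Or.inl rfl)
            · exact Or.inr (Or.inr rfl)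
          · rintro (rfl | rfl | rfl)
            · exact ⟨0, rfl⟩
            · exact ⟨1, rfl⟩
            · exact ⟨2, rfl⟩
        rw [h5] at h4
        rw [h4]
    intro g T hT
    rw [hspan] at hT ⊢
    obtain ⟨z, rfl⟩ := hT
    exact ⟨adj ρ g z, (hecomm g z).symm⟩
  · by_contra hcon
    push Not at hcon
    obtain ⟨c, hc⟩ := hSchur x0 (fun g => (adj_eq_iff ρ g x0).mp (hcon g))
    have h3 : B x0 x0 = c * c * (n : k) := by
      rw [hc]
      show LinearMap.trace k V ((c • (1 : Module.End k V)) * (c • 1)) = _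
      rw [smul_mul_smul_comm, mul_one, map_smul, LinearMap.trace_one, smul_eq_mul]
    rw [g00, eq_comm, mul_eq_zero, mul_eq_zero, or_self] at h3
    rcases h3 with h4 | h4
    · apply hβ
      rw [hβdef, hc, h4, zero_smul, map_zero]; rfl
    · rw [CharP.cast_eq_zero_iff k p] at h4
      exact absurd (Nat.le_of_dvd (by omega) h4) (by omega)

end three

end Cfsg.Agent.H79.MR
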