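import Mathlib
import Cfsg.Agent.H79.ModJ
import Cfsg.Agent.H79.ModX
import Cfsg.Agent.H79.ModS
import Cfsg.Agent.H79.ModM

/-! Groups with a small faithful modular representation and Sylow `p`-subgroup of order `p`:
the quotient `PSL(2,p)`. -/

set_option autoImplicit false

namespace Cfsg.Agent.H79.MR

open Module Subgroup Matrix LinearAlgebra.Projectivization Projectivization
open scoped MatrixGroups
open Cfsg.Agent
open Cfsg.Agent.Dk
open Cfsg.Agent.H81 (pt0 pt1 ptz ptc)

universe u v w

section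

variable {G : Type u} [Group G] [Finite G] {p : ℕ} [hp : Fact p.Prime]
  {k : Type v} [Field k] [CharP k p] {V : Type w} [AddCommGroup V] [Module k V]
  [FiniteDimensional k V]

theorem exists_quot [IsAlgClosed k] (ρ : G →* Module.End k V) {u : G} (hu : orderOf u = p)
    (hsq : ¬ p ^ 2 ∣ Nat.card G) (hgen : Subgroup.closure {g : G | g ^ p = 1} = ⊤)
    (hn2 : 2 ≤ finrank k V) (hn : 2 * finrank k V + 1 ≤ p)
    (hSchur : ∀ a : Module.End k V, (∀ g : G, ρ g * a = a * ρ g) → ∃ c : k, a = c • 1) :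
    ∃ (D : Subgroup G) (_ : D.Normal), Nonempty (G ⧸ D ≃* PSL(2, ZMod p)) := by
  classical
  have h5 : 5 ≤ p := by omega
  have h2 : (2 : k) ≠ 0 := by
    intro h
    have h3 : ((2 : ℕ) : k) = 0 := by exact_mod_cast h
    rw [CharP.cast_eq_zero_iff k p] at h3
    have := Nat.le_of_dvd (by norm_num) h3
    omega
  have hU1 := jordan ρ u hu hsq hgen (by omega) (by omega) hSchur
  obtain ⟨γ, hJ, hγu, g1, hg1⟩ := exists_matrix ρ hu hsq hn2 hn hU1 hSchur
  obtain ⟨θ, hθ⟩ := exists_theta (p := p) h2 γ hJ hgen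
  refine ⟨θ.ker, inferInstance, ?_⟩
  have hfr : Finite θ.range := Set.finite_range θ
  -- the generator
  have hXX : XX (1 : k) ∈ θ.range := by
    obtain ⟨s, hs1, hs2⟩ := hθ u
    refine ⟨u, ?_⟩
    rw [hs2]
    have h3 : S2 (s * (H81.xx 1)⁻¹ : SL(2, k)).1 = 1 := by
      have h4 : S2 (H81.xx (1 : k)).1 = S2 s.1 := by
        rw [hs1, hγu, H81.xx_val]
      have h5 : (s * (H81.xx 1)⁻¹ : SL(2, k)).1 = s.1 * ((H81.xx 1)⁻¹ : SL(2, k)).1 := rfl
      have h6 : (H81.xx (1 : k)).1 * ((H81.xx 1)⁻¹ : SL(2, k)).1 = 1 := by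
        have : (H81.xx (1 : k) * (H81.xx 1)⁻¹ : SL(2, k)).1 = 1 := by rw [mul_inv_cancel]; rfl
        exact this
      rw [h5, S2_mul, ← h4, ← S2_mul, h6, S2_one]
    have h4 := S2_eq_one (sl_det _) h3
    have h5 : (Matrix.ProjGenLinGroup.mk (Matrix.SpecialLinearGroup.toGL (s * (H81.xx 1)⁻¹)) :
        PGL(2, k)) = 1 := by
      rw [mk_eq_one_iff]
      exact h4
    rw [map_mul, map_mul, map_inv, map_inv, mul_inv_eq_one] at h5
    exact h5
  -- no common fixed point
  have hne : ∃ g : GL (Fin 2) k, (Matrix.ProjGenLinGroup.mk g : PGL(2, k)) ∈ θ.range ∧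
      g.1 1 0 ≠ 0 := by
    by_contra hcon
    push Not at hcon
    have hlow : ∀ g : G, ∀ s : SL(2, k), S2 s.1 = γ g → θ g =
        Matrix.ProjGenLinGroup.mk (Matrix.SpecialLinearGroup.toGL s) → s.1 1 0 = 0 := by
      intro g s _ hs
      exact hcon (Matrix.SpecialLinearGroup.toGL s) ⟨g, hs⟩
    have hcol : ∀ g : G, ∃ c : k, (γ g).mulVec (Pi.single 0 1) = c • Pi.single 0 1 := by
      intro g
      obtain ⟨s, hs1, hs2⟩ := hθ g
      have h3 := hlow g s hs1 hs2
      refine ⟨s.1 0 0 * s.1 0 0, ?_⟩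
      rw [← hs1]
      ext i
      fin_cases i <;> simp [S2, Matrix.mulVec, dotProduct, Fin.sum_univ_three, h3]
    let S : Subgroup G :=
      { carrier := {g | (γ g).mulVec (Pi.single 0 1) = Pi.single 0 1}
        mul_mem' := fun {a b} ha hb => by
          show (γ (a * b)).mulVec (Pi.single 0 1) = Pi.single 0 1
          rw [map_mul, ← Matrix.mulVec_mulVec]
          have hb : (γ b).mulVec (Pi.single 0 1) = Pi.single 0 1 := hb
          rw [hb]; exact ha
        one_mem' := by
          show (γ 1).mulVec (Pi.single 0 1) = Pi.single 0 1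
          rw [map_one, Matrix.one_mulVec]
        inv_mem' := fun {a} ha => by
          have ha : (γ a).mulVec (Pi.single 0 1) = Pi.single 0 1 := ha
          show (γ a⁻¹).mulVec (Pi.single 0 1) = Pi.single 0 1
          conv_lhs => rw [← ha]
          rw [Matrix.mulVec_mulVec, ← map_mul, inv_mul_cancel, map_one, Matrix.one_mulVec] }
    have hS : S = ⊤ := by
      rw [eq_top_iff, ← hgen, Subgroup.closure_le]
      intro g hg
      have hg : g ^ p = 1 := hg
      show (γ g).mulVec (Pi.single 0 1) = Pi.single 0 1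
      obtain ⟨c, hc⟩ := hcol g
      have hpow : ∀ n : ℕ, (γ g ^ n).mulVec (Pi.single 0 1) = c ^ n • Pi.single 0 1 := by
        intro n
        induction n with
        | zero => rw [pow_zero, pow_zero, Matrix.one_mulVec, one_smul]
        | succ n ih =>
          rw [pow_succ, ← Matrix.mulVec_mulVec, hc, Matrix.mulVec_smul, ih, smul_smul, pow_succ,
            mul_comm]
      have h3 := hpow p
      rw [← map_pow, hg, map_one, Matrix.one_mulVec] at h3
      have h4 : c ^ p = 1 := by
        have h5 := congrFun h3 0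
        simp at h5
        exact h5.symm
      have h5 : (c - 1) ^ p = 0 := by
        have : CharP k p := inferInstance
        rw [sub_pow_char, h4, one_pow, sub_self]
      have h6 : c = 1 := sub_eq_zero.1 (pow_eq_zero_iff hp.out.ne_zero |>.1 h5)
      rw [hc, h6, one_smul]
    have h3 : g1 ∈ S := by rw [hS]; exact Subgroup.mem_top _
    exact hg1 h3
  have hrat : ∀ x : ℙ k (Fin 2 → k), x ∈ RatPts k k := by
    intro x
    rcases H81.eq_pt0_or_ptz x with h | ⟨z, h⟩
    · left; exact h
    · right; exact ⟨z, h⟩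
  have hsq' : ¬ p ^ 2 ∣ Nat.card θ.range := by
    intro h
    apply hsq
    refine h.trans ?_
    have e := Nat.card_congr (QuotientGroup.quotientKerEquivRange θ).toEquiv
    rw [← e]
    exact Subgroup.card_quotient_dvd_card θ.ker
  have hgen' : Subgroup.closure {h : θ.range | h ^ p = 1} = ⊤ := by
    rw [eq_top_iff]
    have h3 : (⊤ : Subgroup G) ≤ (Subgroup.closure {h : θ.range | h ^ p = 1}).comap
        θ.rangeRestrict := by
      rw [← hgen, Subgroup.closure_le]
      intro g hg
      have hg : g ^ p = 1 := hg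
      apply Subgroup.subset_closure
      show (θ.rangeRestrict g) ^ p = 1
      rw [← map_pow, hg, map_one]
    rintro ⟨_, g, rfl⟩ _
    exact h3 (Subgroup.mem_top g)
  obtain ⟨e⟩ := psl_of_pgl (p := p) (F := k) (K := k) hrat θ.range h5 hsq' hgen' one_ne_zero hXX hne
  exact ⟨(QuotientGroup.quotientKerEquivRange θ).trans e⟩

end

end Cfsg.Agent.H79.MR
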