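import Mathlib

/-!
# `p`-groups acting on vector spaces of characteristic `p`
-/

set_option autoImplicit false
set_option linter.style.haveILetI false

namespace Cfsg.Agent.H79

universe u v w

/-- A `p`-group acting linearly on a nonzero vector space of characteristic `p` has a nonzero fixed
vector. -/
theorem exists_fixed_vector {k : Type u} [Field k] (p : ℕ) [hp : Fact p.Prime] [CharP k p]
    {P : Type v} [Group P] [Finite P] (hP : IsPGroup p P) {V : Type w} [AddCommGroup V] [Module k V]
    (ρ : P →* (V →ₗ[k] V)) (v₀ : V) (hv₀ : v₀ ≠ 0) :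
    ∃ v ∈ Submodule.span k (Set.range fun g : P => ρ g v₀), v ≠ 0 ∧ ∀ g : P, ρ g v = v := by
  classical
  -- the finite additive subgroup generated by the orbit
  let W : AddSubgroup V := AddSubgroup.closure (Set.range fun g : P => ρ g v₀)
  have hpV : ∀ v : V, p • v = 0 := by
    intro v
    rw [← Nat.cast_smul_eq_nsmul k p v, CharP.cast_eq_zero, zero_smul]
  have hWfg : (AddSubgroup.closure (Set.range fun g : P => ρ g v₀)).FG :=
    ⟨(Set.toFinite (Set.range fun g : P => ρ g v₀)).toFinset, by simp⟩
  haveI : AddGroup.FG W := (AddGroup.fg_iff_addSubgroup_fg W).mpr hWfg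
  haveI hmodZ : Module (ZMod p) W := AddCommGroup.zmodModule (n := p) (by
    intro x
    apply Subtype.ext
    exact hpV x)
  haveI hfin : Finite W := by
    haveI : Module.Finite ℤ W := Module.Finite.iff_addGroup_fg.mpr inferInstance
    haveI : Module.Finite (ZMod p) W := by
      obtain ⟨s, hs⟩ := (Module.finite_def.mp (inferInstance : Module.Finite ℤ W))
      refine ⟨⟨s, ?_⟩⟩
      rw [eq_top_iff]
      intro x _
      have hx : x ∈ Submodule.span ℤ (s : Set W) := by rw [hs]; exact Submodule.mem_top
      induction hx using Submodule.span_induction with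
      | mem x h => exact Submodule.subset_span h
      | zero => exact Submodule.zero_mem _
      | add x y _ _ hx hy => exact Submodule.add_mem _ (hx trivial) (hy trivial)
      | smul a x _ hx =>
        have h1 := hx trivial
        have h2 : a • x = ((a : ZMod p)) • x := by
          rw [Int.cast_smul_eq_zsmul]
        rw [h2]
        exact Submodule.smul_mem _ _ h1
    exact Module.finite_of_finite (ZMod p)
  have hmemW : ∀ (g : P) (x : V), x ∈ W → ρ g x ∈ W := by
    intro g x hx
    induction hx using AddSubgroup.closure_induction with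
    | mem x h =>
      obtain ⟨h', rfl⟩ := h
      apply AddSubgroup.subset_closure
      refine ⟨g * h', ?_⟩
      show ρ (g * h') v₀ = ρ g (ρ h' v₀)
      rw [map_mul]; rfl
    | zero => rw [map_zero]; exact AddSubgroup.zero_mem _
    | add x y _ _ hx hy => rw [map_add]; exact AddSubgroup.add_mem _ hx hy
    | neg x _ hx => rw [map_neg]; exact AddSubgroup.neg_mem _ hx
  letI : MulAction P W :=
    { smul := fun g x => ⟨ρ g x, hmemW g x x.2⟩
      one_smul := fun x => by
        apply Subtype.ext
        show ρ 1 (x : V) = x
        rw [map_one]; rfl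
      mul_smul := fun g h x => by
        apply Subtype.ext
        show ρ (g * h) (x : V) = ρ g (ρ h x)
        rw [map_mul]; rfl }
  have hsmul : ∀ (g : P) (x : W), ((g • x : W) : V) = ρ g x := fun g x => rfl
  have hv₀W : v₀ ∈ W := by
    apply AddSubgroup.subset_closure
    exact ⟨1, by show ρ 1 v₀ = v₀; rw [map_one]; rfl⟩
  have hcard : p ∣ Nat.card W := by
    haveI : Nontrivial W := ⟨⟨⟨v₀, hv₀W⟩, 0, fun h => hv₀ (congrArg Subtype.val h)⟩⟩
    haveI := Fintype.ofFinite W
    have h1 : ∃ x : W, addOrderOf x = p := by
      refine ⟨⟨v₀, hv₀W⟩, ?_⟩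
      apply addOrderOf_eq_prime
      · apply Subtype.ext
        exact hpV v₀
      · intro h; exact hv₀ (congrArg Subtype.val h)
    obtain ⟨x, hx⟩ := h1
    rw [← hx]
    exact addOrderOf_dvd_natCard x
  have hzero : (0 : W) ∈ MulAction.fixedPoints P W := by
    intro g
    apply Subtype.ext
    rw [hsmul]
    simp
  have h2 := hP.exists_fixed_point_of_prime_dvd_card_of_fixed_point W hcard hzero
  obtain ⟨x, hx, hx0⟩ := h2
  refine ⟨x, ?_, ?_, ?_⟩
  · have : ∀ y : V, y ∈ W → y ∈ Submodule.span k (Set.range fun g : P => ρ g v₀) := by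
      intro y hy
      induction hy using AddSubgroup.closure_induction with
      | mem x h => exact Submodule.subset_span h
      | zero => exact Submodule.zero_mem _
      | add x y _ _ hx hy => exact Submodule.add_mem _ hx hy
      | neg x _ hx => exact Submodule.neg_mem _ hx
    exact this x x.2
  · intro h
    apply hx0
    apply Subtype.ext
    exact h.symm
  · intro g
    have := hx g
    exact congrArg Subtype.val this

/-- A representation of a `p`-group over a field of characteristic `p` of dimension smaller than
the order of the group is killed by the sum of the group elements. -/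
theorem sum_eq_zero_of_finrank_lt {k : Type u} [Field k] (p : ℕ) [hp : Fact p.Prime] [CharP k p]
    {P : Type v} [Group P] [Fintype P] (hP : IsPGroup p P) {V : Type w} [AddCommGroup V] [Module k V]
    [FiniteDimensional k V] (ρ : P →* (V →ₗ[k] V)) (h : Module.finrank k V < Fintype.card P) :
    ∑ g : P, ρ g = 0 := by
  classical
  ext w
  -- evaluation map from functions on `P`
  let φ : (P → k) →ₗ[k] V :=
    { toFun := fun f => ∑ g : P, f g • ρ g w
      map_add' := fun f f' => by
        simp only [Pi.add_apply, add_smul, Finset.sum_add_distrib]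
      map_smul' := fun c f => by
        simp only [Pi.smul_apply, smul_eq_mul, mul_smul, Finset.smul_sum, RingHom.id_apply] }
  have hφ : ∀ f : P → k, φ f = ∑ g : P, f g • ρ g w := fun f => rfl
  have hker : LinearMap.ker φ ≠ ⊥ := by
    intro hk
    have h1 := LinearMap.finrank_le_finrank_of_injective (LinearMap.ker_eq_bot.mp hk)
    rw [Module.finrank_fintype_fun_eq_card] at h1
    omega
  obtain ⟨f₀, hf₀, hf₀0⟩ := Submodule.exists_mem_ne_zero_of_ne_bot hker
  -- left translation
  let τ : P →* ((P → k) →ₗ[k] (P → k)) :=
    { toFun := fun x =>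
        { toFun := fun f g => f (x⁻¹ * g)
          map_add' := fun f f' => rfl
          map_smul' := fun c f => rfl }
      map_one' := by
        ext f g
        simp
      map_mul' := fun x y => by
        ext f g
        simp [mul_assoc] }
  have hτ : ∀ (x : P) (f : P → k) (g : P), τ x f g = f (x⁻¹ * g) := fun x f g => rfl
  have hφτ : ∀ (x : P) (f : P → k), φ (τ x f) = ρ x (φ f) := by
    intro x f
    rw [hφ, hφ, map_sum]
    refine Fintype.sum_equiv (Equiv.mulLeft x⁻¹) _ _ (fun g => ?_)
    simp only [Equiv.coe_mulLeft, hτ, map_smul]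
    congr 1
    have : ρ g = ρ x * ρ (x⁻¹ * g) := by rw [← map_mul, mul_inv_cancel_left]
    rw [this]; rfl
  obtain ⟨f, hf, hf0, hfix⟩ := exists_fixed_vector p hP τ f₀ hf₀0
  have hfker : φ f = 0 := by
    have h1 : Submodule.span k (Set.range fun g : P => τ g f₀) ≤ LinearMap.ker φ := by
      rw [Submodule.span_le]
      rintro _ ⟨g, rfl⟩
      show φ (τ g f₀) = 0
      rw [hφτ, LinearMap.mem_ker.mp hf₀, map_zero]
    exact h1 hf
  have hconst : ∀ g : P, f g = f 1 := by
    intro g
    have h1 := congrFun (hfix g) g
    rw [hτ, inv_mul_cancel] at h1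
    exact h1.symm
  have hc : f 1 ≠ 0 := by
    intro hc
    apply hf0
    ext g
    rw [hconst, hc]; rfl
  have h1 : f 1 • (∑ g : P, ρ g w) = 0 := by
    rw [Finset.smul_sum, ← hfker, hφ]
    exact Finset.sum_congr rfl (fun g _ => by rw [hconst g])
  have h2 := (smul_eq_zero.mp h1).resolve_left hc
  rw [LinearMap.sum_apply, h2]
  rfl

end Cfsg.Agent.H79
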