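import Cfsg.Agent.H79.Lattice
import Cfsg.Agent.H79.PModule
import Cfsg.Agent.Blk.Local
import Cfsg.Agent.Hall.Basic

/-!
# Small representations of groups with a Sylow subgroup which is a trivial intersection set
-/

set_option autoImplicit false
set_option linter.style.haveILetI false

open Module Cfsg
open scoped Pointwise

namespace Cfsg.Agent.H79

universe u v w

/-- A valuation ring of `ℂ` with residue characteristic `p`. -/
theorem exists_valuationSubring (p : ℕ) [hp : Fact p.Prime] :
    ∃ O : ValuationSubring ℂ, CharP (IsLocalRing.ResidueField O) p := by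
  let A : Subring ℂ := (Int.castRingHom ℂ).range
  let I : Ideal A := Ideal.span {(p : A)}
  have hI : I ≠ ⊤ := by
    rw [Ideal.ne_top_iff_one]
    intro h
    obtain ⟨⟨a, ⟨m, rfl⟩⟩, ha⟩ := Ideal.mem_span_singleton'.mp h
    have h1 : (m : ℂ) * p = 1 := congrArg Subtype.val ha
    have h2 : m * p = 1 := by exact_mod_cast h1
    have h3 : (p : ℤ) ∣ 1 := Dvd.intro_left m h2
    have h4 : p ∣ 1 := by exact_mod_cast h3
    exact hp.out.one_lt.ne' (Nat.dvd_one.mp h4)
  obtain ⟨O, -, hO⟩ := Ideal.image_subset_nonunits_valuationSubring I hI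
  refine ⟨O, ?_⟩
  have h1 : (p : ℂ) ∈ O.nonunits := by
    apply hO
    exact ⟨(p : A), Ideal.subset_span rfl, by simp⟩
  have h2 : ((p : ℕ) : IsLocalRing.ResidueField O) = 0 := by
    have h3 : ((p : ℕ) : IsLocalRing.ResidueField O) = IsLocalRing.residue O (p : O) := by simp
    rw [h3, IsLocalRing.residue_eq_zero_iff]
    rw [ValuationSubring.mem_nonunits_iff_exists_mem_maximalIdeal] at h1
    obtain ⟨ha, h4⟩ := h1
    exact h4
  obtain ⟨q, hq⟩ := CharP.exists (IsLocalRing.ResidueField O)
  have h3 : q ∣ p := (CharP.cast_eq_zero_iff (IsLocalRing.ResidueField O) q p).mp h2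
  rcases (Nat.dvd_prime hp.out).mp h3 with h4 | h4
  · exfalso
    subst h4
    exact CharP.false_of_nontrivial_of_char_one (R := IsLocalRing.ResidueField O)
  · rwa [← h4]

/-- Summation over a set on which a group acts freely outside the fixed points. -/
theorem sum_eq_sum_fixed_of_free {P : Type u} [Group P] [Fintype P] {X : Type v} [MulAction P X]
    [Fintype X] {V : Type w} [AddCommGroup V] (F : X → V) (T : P → (V →+ V))
    (hF : ∀ (x : P) (a : X), F (x • a) = T x (F a)) (hT : ∀ v : V, ∑ x : P, T x v = 0)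
    (hfree : ∀ a : X, (∀ x : P, x • a = a) ∨ (∀ x : P, x • a = a → x = 1)) [DecidableEq X]
    [DecidablePred fun a : X => ∀ x : P, x • a = a] :
    ∑ a : X, F a = ∑ a ∈ Finset.univ.filter (fun a : X => ∀ x : P, x • a = a), F a := by
  classical
  rw [← Finset.sum_filter_add_sum_filter_not Finset.univ (fun a : X => ∀ x : P, x • a = a)]
  suffices h : ∑ a ∈ Finset.univ.filter (fun a : X => ¬ ∀ x : P, x • a = a), F a = 0 by
    rw [h, add_zero]
  rw [Finset.sum_partition (MulAction.orbitRel P X)]
  apply Finset.sum_eq_zero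
  intro ω hω
  obtain ⟨a0, ha0, rfl⟩ := Finset.mem_image.mp hω
  have ha0' : ¬ ∀ x : P, x • a0 = a0 := (Finset.mem_filter.mp ha0).2
  have hinj : Function.Injective (fun x : P => x • a0) := by
    intro x y hxy
    have h1 := (hfree a0).resolve_left ha0' (y⁻¹ * x) (by
      rw [mul_smul, inv_smul_eq_iff]; exact hxy)
    rw [inv_mul_eq_one] at h1
    exact h1.symm
  have hset : ((Finset.univ.filter (fun a : X => ¬ ∀ x : P, x • a = a)).filter
      (fun y => (Quotient.mk (MulAction.orbitRel P X) y) = Quotient.mk (MulAction.orbitRel P X) a0)) =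
      Finset.univ.image (fun x : P => x • a0) := by
    ext y
    simp only [Finset.mem_filter, Finset.mem_univ, true_and, Finset.mem_image]
    rw [Quotient.eq, MulAction.orbitRel_apply, MulAction.mem_orbit_iff]
    constructor
    · exact fun h => h.2
    · rintro ⟨x, rfl⟩
      refine ⟨?_, x, rfl⟩
      intro h
      apply ha0'
      intro z
      have h1 := h (x * z * x⁻¹)
      rw [mul_smul, mul_smul, inv_smul_smul] at h1
      exact MulAction.injective x h1
  rw [hset, Finset.sum_image (fun x _ y _ h => hinj h), ← hT (F a0)]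
  exact Finset.sum_congr rfl (fun x _ => hF x a0)

theorem exists_fixed_of_TI {G : Type u} [Group G] [Finite G] (p : ℕ) [hp : Fact p.Prime]
    (P : Sylow p G)
    (hTI : ∀ g : G, g ∉ Subgroup.normalizer ((P : Subgroup G) : Set G) →
      (P : Subgroup G) ⊓ (MulAut.conj g • (P : Subgroup G)) = ⊥) {n : ℕ}
    (ρ : G →* ((Fin n → ℂ) →ₗ[ℂ] (Fin n → ℂ))) (hn : n < Nat.card (P : Subgroup G))
    (v : Fin n → ℂ) (hv : v ≠ 0)
    (hfix : ∀ g ∈ Subgroup.normalizer ((P : Subgroup G) : Set G), ρ g v = v) :
    ∃ u : Fin n → ℂ, u ≠ 0 ∧ ∀ g : G, ρ g u = u := by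
  classical
  haveI := Fintype.ofFinite G
  haveI := Fintype.ofFinite (P : Subgroup G)
  haveI := Fintype.ofFinite (G ⧸ (P : Subgroup G))
  obtain ⟨O, hO⟩ := exists_valuationSubring p
  obtain ⟨σ, B, hσ⟩ := exists_integral_form O ρ
  set k := IsLocalRing.ResidueField O with hk
  -- a primitive multiple of `v`
  obtain ⟨w, c, j0, hw, hwv⟩ : ∃ (w : Fin n → O) (c : ℂ) (j0 : Fin n), w j0 = 1 ∧
      c • v = ∑ i, ((w i : O) : ℂ) • B i := by
    have hne : ∃ j, B.repr v j ≠ 0 := by
      by_contra hcon
      push Not at hcon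
      apply hv
      rw [← B.sum_repr v]
      exact Finset.sum_eq_zero (fun i _ => by rw [hcon i, zero_smul])
    obtain ⟨j1, hj1⟩ := hne
    obtain ⟨j0, -, hj0⟩ := Finset.exists_max_image Finset.univ
      (fun j => O.valuation (B.repr v j)) ⟨j1, Finset.mem_univ _⟩
    have hc0 : B.repr v j0 ≠ 0 := by
      intro h0
      have h1 := hj0 j1 (Finset.mem_univ _)
      rw [h0, map_zero] at h1
      exact hj1 ((Valuation.zero_iff _).mp (le_antisymm h1 zero_le))
    have hmem : ∀ i, B.repr v i / B.repr v j0 ∈ O := by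
      intro i
      rw [← O.valuation_le_one_iff, map_div₀]
      exact div_le_one_of_le₀ (hj0 i (Finset.mem_univ _)) zero_le
    refine ⟨fun i => ⟨_, hmem i⟩, (B.repr v j0)⁻¹, j0, ?_, ?_⟩
    · apply Subtype.ext
      exact div_self hc0
    · have h1 : (B.repr v j0)⁻¹ • v = (B.repr v j0)⁻¹ • ∑ i, B.repr v i • B i := by
        rw [B.sum_repr v]
      rw [h1, Finset.smul_sum]
      refine Finset.sum_congr rfl (fun i _ => ?_)
      rw [smul_smul]
      congr 1
      show _ = B.repr v i / B.repr v j0
      rw [div_eq_inv_mul]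
  set v' : Fin n → ℂ := c • v with hv'
  have hfix' : ∀ g ∈ Subgroup.normalizer ((P : Subgroup G) : Set G), ρ g v' = v' := by
    intro g hg
    rw [hv', map_smul, hfix g hg]
  -- the action in coordinates
  have hact : ∀ (g : G) (y : Fin n → O), ρ g (∑ i, ((y i : O) : ℂ) • B i) =
      ∑ i, (((σ g).mulVec y i : O) : ℂ) • B i := by
    intro g y
    rw [map_sum]
    simp only [map_smul, hσ, Finset.smul_sum, smul_smul]
    rw [Finset.sum_comm]
    refine Finset.sum_congr rfl (fun i _ => ?_)
    rw [← Finset.sum_smul]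
    congr 1
    rw [Matrix.mulVec, dotProduct]
    push_cast
    refine Finset.sum_congr rfl (fun j _ => ?_)
    rw [mul_comm]
  have hinj : ∀ y y' : Fin n → O, (∑ i, ((y i : O) : ℂ) • B i) = (∑ i, ((y' i : O) : ℂ) • B i) →
      y = y' := by
    intro y y' h
    have h1 := congrArg (fun z => B.repr z) h
    ext i
    have h2 := congrArg (fun z : Fin n →₀ ℂ => z i) h1
    simpa [Finsupp.single_apply, Finset.sum_ite_eq] using h2
  have hwfix : ∀ g ∈ Subgroup.normalizer ((P : Subgroup G) : Set G), (σ g).mulVec w = w := by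
    intro g hg
    apply hinj
    rw [← hact, ← hwv]
    exact hfix' g hg
  -- the reduction
  let π : O →+* k := IsLocalRing.residue O
  let wb : Fin n → k := fun i => π (w i)
  let T : G →* ((Fin n → k) →ₗ[k] (Fin n → k)) :=
    (Matrix.toLinAlgEquiv' (R := k) (n := Fin n)).toMonoidHom.comp
      ((RingHom.mapMatrix π).toMonoidHom.comp σ)
  have hT : ∀ (g : G) (y : Fin n → O), T g (fun i => π (y i)) = fun i => π ((σ g).mulVec y i) := by
    intro g y
    show ((σ g).map π).mulVec (fun i => π (y i)) = _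
    funext i
    rw [Matrix.mulVec, dotProduct, Matrix.mulVec, dotProduct, map_sum]
    refine Finset.sum_congr rfl (fun j _ => ?_)
    rw [map_mul, Matrix.map_apply]
  have hTfix : ∀ g ∈ Subgroup.normalizer ((P : Subgroup G) : Set G), T g wb = wb := by
    intro g hg
    have h1 := hT g w
    rw [hwfix g hg] at h1
    exact h1
  -- the function on the cosets
  have hPN : (P : Subgroup G) ≤ Subgroup.normalizer ((P : Subgroup G) : Set G) :=
    Subgroup.le_normalizer
  let F : G ⧸ (P : Subgroup G) → (Fin n → k) := fun q => T q.out wb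
  have hFmk : ∀ g : G, F (QuotientGroup.mk g) = T g wb := by
    intro g
    obtain ⟨h, hh⟩ := QuotientGroup.mk_out_eq_mul (P : Subgroup G) g
    show T (QuotientGroup.mk g : G ⧸ (P : Subgroup G)).out wb = _
    rw [hh, map_mul]
    show T g (T h wb) = _
    rw [hTfix _ (hPN h.2)]
  have hFact : ∀ (x : (P : Subgroup G)) (a : G ⧸ (P : Subgroup G)), F (x • a) = T (x : G) (F a) := by
    intro x a
    obtain ⟨g, rfl⟩ := QuotientGroup.mk_surjective a
    have h1 : (x • (QuotientGroup.mk g : G ⧸ (P : Subgroup G))) = QuotientGroup.mk ((x : G) * g) := rfl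
    rw [h1, hFmk, hFmk, map_mul]; rfl
  have hsum0 : ∀ y : Fin n → k, ∑ x : (P : Subgroup G), T (x : G) y = 0 := by
    intro y
    have h1 := sum_eq_zero_of_finrank_lt (k := k) p P.isPGroup' (V := Fin n → k)
      (T.comp (P : Subgroup G).subtype) (by
        rw [Module.finrank_fin_fun, ← Nat.card_eq_fintype_card]; exact hn)
    have h2 := LinearMap.congr_fun h1 y
    rw [LinearMap.sum_apply] at h2
    exact h2
  have hstab : ∀ (g : G) (x : (P : Subgroup G)),
      x • (QuotientGroup.mk g : G ⧸ (P : Subgroup G)) = QuotientGroup.mk g ↔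
        (x : G) ∈ (MulAut.conj g • (P : Subgroup G)) := by
    intro g x
    have h1 : (x • (QuotientGroup.mk g : G ⧸ (P : Subgroup G))) = QuotientGroup.mk ((x : G) * g) := rfl
    rw [h1, eq_comm, QuotientGroup.eq, Hall.mem_conj_smul, mul_assoc]
  have hfree : ∀ a : G ⧸ (P : Subgroup G), (∀ x : (P : Subgroup G), x • a = a) ∨
      (∀ x : (P : Subgroup G), x • a = a → x = 1) := by
    intro a
    obtain ⟨g, rfl⟩ := QuotientGroup.mk_surjective a
    by_cases hg : g ∈ Subgroup.normalizer ((P : Subgroup G) : Set G)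
    · left
      intro x
      rw [hstab, Hall.mem_conj_smul]
      exact (Subgroup.mem_normalizer_iff''.mp hg x).mp x.2
    · right
      intro x hx
      rw [hstab] at hx
      have h1 : (x : G) ∈ (P : Subgroup G) ⊓ (MulAut.conj g • (P : Subgroup G)) :=
        Subgroup.mem_inf.mpr ⟨x.2, hx⟩
      rw [hTI g hg, Subgroup.mem_bot] at h1
      exact Subtype.ext h1
  have hmain := sum_eq_sum_fixed_of_free F (fun x : (P : Subgroup G) => (T (x : G)).toAddMonoidHom)
    hFact hsum0 hfree
  -- the fixed points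
  by_cases hPtriv : (P : Subgroup G) = ⊥
  · exfalso
    rw [hPtriv, Subgroup.card_bot] at hn
    have : n = 0 := by omega
    subst this
    exact Fin.elim0 j0
  have hfixF : ∀ a ∈ Finset.univ.filter (fun a : G ⧸ (P : Subgroup G) =>
      ∀ x : (P : Subgroup G), x • a = a), F a = wb := by
    intro a ha
    have ha' := (Finset.mem_filter.mp ha).2
    obtain ⟨g, rfl⟩ := QuotientGroup.mk_surjective a
    rw [hFmk]
    apply hTfix
    by_contra hg
    have h1 : (P : Subgroup G) ⊓ (MulAut.conj g • (P : Subgroup G)) = (P : Subgroup G) := by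
      apply inf_eq_left.mpr
      intro x hx
      exact (hstab g ⟨x, hx⟩).mp (ha' ⟨x, hx⟩)
    rw [hTI g hg] at h1
    exact hPtriv h1.symm
  rw [Finset.sum_congr rfl hfixF, Finset.sum_const] at hmain
  set m := (Finset.univ.filter (fun a : G ⧸ (P : Subgroup G) =>
    ∀ x : (P : Subgroup G), x • a = a)).card with hm
  have hmp : ¬ p ∣ m := by
    have h1 := P.isPGroup'.card_modEq_card_fixedPoints (G ⧸ (P : Subgroup G))
    have h2 : Nat.card (MulAction.fixedPoints (P : Subgroup G) (G ⧸ (P : Subgroup G))) = m := by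
      rw [hm, Nat.card_eq_fintype_card, Fintype.card_subtype]
      congr 1
      ext a
      simp only [Finset.mem_filter, Finset.mem_univ, true_and]
      rfl
    rw [h2] at h1
    intro h3
    have h4 : m ≡ 0 [MOD p] := (Nat.modEq_zero_iff_dvd).mpr h3
    have h5 := (Nat.modEq_zero_iff_dvd).mp (h1.trans h4)
    exact P.not_dvd_index h5
  -- conclusion
  refine ⟨∑ q : G ⧸ (P : Subgroup G), ρ q.out v', ?_, ?_⟩
  · intro h0
    have h1 : ∑ q : G ⧸ (P : Subgroup G), ρ q.out v' =
        ∑ i, (((∑ q : G ⧸ (P : Subgroup G), (σ q.out).mulVec w) i : O) : ℂ) • B i := by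
      have h2 : ∀ q : G ⧸ (P : Subgroup G), ρ q.out v' =
          ∑ i, (((σ q.out).mulVec w i : O) : ℂ) • B i := by
        intro q
        rw [hwv, hact]
      rw [Finset.sum_congr rfl (fun q _ => h2 q), Finset.sum_comm]
      refine Finset.sum_congr rfl (fun i _ => ?_)
      rw [← Finset.sum_smul, Finset.sum_apply]
      congr 1
      push_cast
      rfl
    rw [h0] at h1
    have h2 : (∑ q : G ⧸ (P : Subgroup G), (σ q.out).mulVec w) = 0 := by
      apply hinj
      rw [← h1]
      simp
    have h3 : ∑ q : G ⧸ (P : Subgroup G), F q = 0 := by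
      have h4 : ∀ q : G ⧸ (P : Subgroup G), F q = fun i => π ((σ q.out).mulVec w i) := fun q =>
        hT q.out w
      rw [Finset.sum_congr rfl (fun q _ => h4 q)]
      funext i
      rw [Finset.sum_apply, ← map_sum]
      have h5 := congrFun h2 i
      rw [Finset.sum_apply] at h5
      rw [h5]
      simp
    rw [h3] at hmain
    have h4 := congrFun hmain j0
    rw [Pi.zero_apply, Pi.smul_apply] at h4
    have h5 : wb j0 = 1 := by show π (w j0) = 1; rw [hw, map_one]
    rw [h5, nsmul_eq_mul, mul_one] at h4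
    exact hmp ((CharP.cast_eq_zero_iff k p m).mp h4.symm)
  · intro g
    have hcos : ∀ (x : G), ρ (QuotientGroup.mk x : G ⧸ (P : Subgroup G)).out v' = ρ x v' := by
      intro x
      obtain ⟨h, hh⟩ := QuotientGroup.mk_out_eq_mul (P : Subgroup G) x
      rw [hh, map_mul]
      show ρ x (ρ h v') = _
      rw [hfix' _ (hPN h.2)]
    rw [map_sum]
    refine Fintype.sum_equiv (MulAction.toPerm g) _ _ (fun q => ?_)
    obtain ⟨x, rfl⟩ := QuotientGroup.mk_surjective q
    have h1 : (MulAction.toPerm g (QuotientGroup.mk x : G ⧸ (P : Subgroup G))) =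
        QuotientGroup.mk (g * x) := rfl
    rw [h1, hcos, hcos, map_mul]
    rfl

end Cfsg.Agent.H79
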