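import Mathlib
import Cfsg.Agent.H79.Lattice
import Cfsg.Agent.H79.TIModular
import Cfsg.Agent.H79.ModN

/-! Reduction modulo `p` of a faithful complex representation and passage to a simple
constituent. -/

set_option autoImplicit false

namespace Cfsg.Agent.H79.MR

open Module Subgroup
open scoped MatrixGroups
open Cfsg.Agent

universe u v w

section unip

/-- A matrix of finite order prime to the residue characteristic which reduces to `1` is `1`. -/
theorem eq_one_of_map_eq_one (O : ValuationSubring ℂ) {n q : ℕ}
    (M : Matrix (Fin n) (Fin n) O) (hM : M ^ q = 1)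
    (hq : (q : IsLocalRing.ResidueField O) ≠ 0)
    (h1 : M.map (IsLocalRing.residue O) = 1) : M = 1 := by
  classical
  set S : Matrix (Fin n) (Fin n) O := ∑ i ∈ Finset.range q, M ^ i with hS
  have h2 : S * (M - 1) = 0 := by
    rw [hS, geom_sum_mul, hM, sub_self]
  have hmap : (IsLocalRing.residue O).mapMatrix M = 1 := h1
  have h3 : (IsLocalRing.residue O).mapMatrix S = (q : Matrix (Fin n) (Fin n)
      (IsLocalRing.ResidueField O)) := by
    rw [hS, map_sum]
    simp only [map_pow, hmap, one_pow, Finset.sum_const, Finset.card_range, nsmul_eq_mul, mul_one]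
  have h4 : IsUnit S.det := by
    rw [← IsLocalRing.residue_ne_zero_iff_isUnit, RingHom.map_det, h3]
    have h5 : ((q : Matrix (Fin n) (Fin n) (IsLocalRing.ResidueField O))) =
        Matrix.scalar (Fin n) (q : IsLocalRing.ResidueField O) := by
      rw [map_natCast]
    rw [h5, Matrix.scalar_apply, Matrix.det_diagonal, Finset.prod_const]
    exact pow_ne_zero _ hq
  have h5 : IsUnit S := (Matrix.isUnit_iff_isUnit_det S).mpr h4
  have h6 : M - 1 = 0 := by
    rwa [h5.mul_right_eq_zero] at h2
  exact sub_eq_zero.mp h6

variable {G : Type u} [Group G] [Finite G]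

/-- Reduction modulo `p`: the kernel contains no nontrivial element of order prime to `p`. -/
theorem exists_modular (p : ℕ) [hp : Fact p.Prime] {n : ℕ}
    (ρ : G →* Module.End ℂ (Fin n → ℂ)) (hρ : Function.Injective ρ) :
    ∃ (k : Type) (_ : Field k) (_ : CharP k p) (_ : IsAlgClosed k)
      (τ : G →* Module.End k (Fin n → k)), ∀ g : G, ¬ p ∣ orderOf g → τ g = 1 → g = 1 := by
  classical
  obtain ⟨O, hO⟩ := exists_valuationSubring p
  obtain ⟨σ, B, hσ⟩ := exists_integral_form O ρ
  let k0 := IsLocalRing.ResidueField O
  let k := AlgebraicClosure k0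
  haveI : CharP k p := charP_of_injective_algebraMap (algebraMap k0 k).injective p
  let f : O →+* k := (algebraMap k0 k).comp (IsLocalRing.residue O)
  let τ : G →* Module.End k (Fin n → k) :=
    (Matrix.toLinAlgEquiv' (R := k) (n := Fin n)).toMonoidHom.comp
      ((RingHom.mapMatrix f).toMonoidHom.comp σ)
  refine ⟨k, inferInstance, inferInstance, inferInstance, τ, ?_⟩
  intro g hg hτ
  have h1 : (RingHom.mapMatrix f) (σ g) = 1 := by
    have h2 : (Matrix.toLinAlgEquiv' (R := k) (n := Fin n)) ((RingHom.mapMatrix f) (σ g)) =
        (Matrix.toLinAlgEquiv' (R := k) (n := Fin n)) 1 := by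
      rw [map_one]
      exact hτ
    exact (Matrix.toLinAlgEquiv' (R := k) (n := Fin n)).injective h2
  have h2 : (σ g).map (IsLocalRing.residue O) = 1 := by
    ext i j
    have h3 := congrFun (congrFun h1 i) j
    have h4 : algebraMap k0 k (IsLocalRing.residue O (σ g i j)) =
        algebraMap k0 k ((1 : Matrix (Fin n) (Fin n) k0) i j) := by
      rw [show algebraMap k0 k (IsLocalRing.residue O (σ g i j)) =
        (RingHom.mapMatrix f) (σ g) i j from rfl, h3]
      by_cases h : i = j
      · subst h; rw [Matrix.one_apply_eq, Matrix.one_apply_eq, map_one]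
      · rw [Matrix.one_apply_ne h, Matrix.one_apply_ne h, map_zero]
    exact (algebraMap k0 k).injective h4
  have hq : ((orderOf g : ℕ) : k0) ≠ 0 := by
    intro h
    rw [CharP.cast_eq_zero_iff k0 p] at h
    exact hg h
  have h3 : σ g = 1 := by
    apply eq_one_of_map_eq_one O (σ g) (q := orderOf g) _ hq h2
    rw [← map_pow, pow_orderOf_eq_one, map_one]
  have h4 : ρ g = 1 := by
    apply B.ext
    intro j
    rw [hσ g j, h3]
    rw [Finset.sum_eq_single j]
    · rw [Matrix.one_apply_eq]
      simp
    · intro i _ hij
      rw [Matrix.one_apply_ne hij]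
      simp
    · intro h; exact absurd (Finset.mem_univ j) h
  apply hρ
  rw [h4, map_one]

end unip

section simple

variable {G : Type u} [Group G] {p : ℕ} [hp : Fact p.Prime]
  {k : Type v} [Field k] [CharP k p] [IsAlgClosed k]

/-- A `p`-regular element acting nontrivially acts nontrivially on some simple subquotient. -/
theorem exists_simple {g0 : G} (hg0 : ¬ p ∣ orderOf g0) :
    ∀ (n : ℕ) (V : Type w) [AddCommGroup V] [Module k V] [FiniteDimensional k V]
      (τ : G →* Module.End k V), finrank k V ≤ n → τ g0 ≠ 1 →
    ∃ (W : Type w) (_ : AddCommGroup W) (_ : Module k W) (_ : FiniteDimensional k W)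
      (τ' : G →* Module.End k W), finrank k W ≤ n ∧ τ' g0 ≠ 1 ∧
      ∀ a : Module.End k W, (∀ g : G, τ' g * a = a * τ' g) → ∃ c : k, a = c • 1 := by
  classical
  intro n
  induction n with
  | zero =>
    intro V _ _ _ τ hn hτ
    exfalso
    apply hτ
    have : Subsingleton V := by
      rw [← Module.finrank_zero_iff (R := k)]
      omega
    refine LinearMap.ext (fun x => Subsingleton.elim _ _)
  | succ n ih =>
    intro V _ _ _ τ hn hτ
    by_cases hS : ∀ a : Module.End k V, (∀ g : G, τ g * a = a * τ g) → ∃ c : k, a = c • 1
    · exact ⟨V, inferInstance, inferInstance, inferInstance, τ, hn, hτ, hS⟩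
    push Not at hS
    obtain ⟨a, ha, hac⟩ := hS
    have hnt : Nontrivial V := by
      by_contra h
      rw [not_nontrivial_iff_subsingleton] at h
      exact hτ (LinearMap.ext (fun x => Subsingleton.elim _ _))
    obtain ⟨c, hc⟩ := Module.End.exists_eigenvalue a
    let W1 : Submodule k V := LinearMap.ker (a - c • 1)
    have hW1 : ∀ g : G, ∀ x ∈ W1, τ g x ∈ W1 := by
      intro g x hx
      rw [LinearMap.mem_ker] at hx ⊢
      have h1 : (a - c • 1) * τ g = τ g * (a - c • 1) := by
        rw [sub_mul, mul_sub, ha g]
        simp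
      have h2 := congrArg (fun b : Module.End k V => b x) h1
      have h3 : (a - c • 1) (τ g x) = τ g ((a - c • 1) x) := h2
      rw [h3, hx, map_zero]
    have hne : W1 ≠ ⊥ := by
      intro h
      obtain ⟨x, hx, hx0⟩ := hc.exists_hasEigenvector
      have h1 : x ∈ W1 := by
        rw [LinearMap.mem_ker]
        rw [Module.End.mem_eigenspace_iff] at hx
        show a x - c • x = 0
        rw [hx, sub_self]
      rw [h] at h1
      exact hx0 ((Submodule.mem_bot k).mp h1)
    have hne' : W1 ≠ ⊤ := by
      intro h
      apply hac c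
      refine LinearMap.ext (fun x => ?_)
      have h1 : x ∈ W1 := by rw [h]; exact Submodule.mem_top
      rw [LinearMap.mem_ker] at h1
      have h2 : a x - c • x = 0 := h1
      exact sub_eq_zero.mp h2
    have hfr := W1.finrank_quotient_add_finrank
    have hpos1 : 0 < finrank k W1 := by
      have : Nontrivial W1 := Submodule.nontrivial_iff_ne_bot.mpr hne
      exact Module.finrank_pos
    have hlt1 : finrank k W1 < finrank k V := Submodule.finrank_lt hne'
    -- the action on the subspace
    let τ1 : G →* Module.End k W1 :=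
      { toFun := fun g => (τ g).restrict (hW1 g)
        map_one' := by
          refine LinearMap.ext (fun x => Subtype.ext ?_)
          show τ 1 (x : V) = x
          rw [map_one]; rfl
        map_mul' := fun g h => by
          refine LinearMap.ext (fun x => Subtype.ext ?_)
          show τ (g * h) (x : V) = τ g (τ h x)
          rw [map_mul]; rfl }
    by_cases h1 : τ1 g0 = 1
    swap
    · obtain ⟨W, i1, i2, i3, τ', h2, h3, h4⟩ := ih W1 τ1 (by omega) h1
      exact ⟨W, i1, i2, i3, τ', by omega, h3, h4⟩
    let τ2 : G →* Module.End k (V ⧸ W1) :=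
      { toFun := fun g => W1.mapQ W1 (τ g) (fun x hx => hW1 g x hx)
        map_one' := by
          refine LinearMap.ext (fun x => ?_)
          induction x using Submodule.Quotient.induction_on with
          | H x =>
            show Submodule.Quotient.mk (τ 1 x) = _
            rw [map_one]; rfl
        map_mul' := fun g h => by
          refine LinearMap.ext (fun x => ?_)
          induction x using Submodule.Quotient.induction_on with
          | H x =>
            show Submodule.Quotient.mk (τ (g * h) x) = Submodule.Quotient.mk (τ g (τ h x))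
            rw [map_mul]; rfl }
    by_cases h2 : τ2 g0 = 1
    swap
    · obtain ⟨W, i1, i2, i3, τ', h3, h4, h5⟩ := ih (V ⧸ W1) τ2 (by omega) h2
      exact ⟨W, i1, i2, i3, τ', by omega, h4, h5⟩
    exfalso
    have h3 : (τ g0 - 1) ^ 2 = 0 := by
      rw [pow_two]
      refine LinearMap.ext (fun x => ?_)
      have h4 : (τ g0 - 1) x ∈ W1 := by
        have h5 := congrArg (fun b : Module.End k (V ⧸ W1) => b (Submodule.Quotient.mk x)) h2
        have h6 : (Submodule.Quotient.mk (τ g0 x) : V ⧸ W1) = Submodule.Quotient.mk x := h5
        rw [Submodule.Quotient.eq] at h6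
        exact h6
      have h5 := congrArg (fun b : Module.End k W1 => ((b ⟨_, h4⟩ : W1) : V)) h1
      have h6 : τ g0 ((τ g0 - 1) x) = (τ g0 - 1) x := h5
      show τ g0 ((τ g0 - 1) x) - (τ g0 - 1) x = 0
      rw [h6, sub_self]
    have h4 : (τ g0) ^ p = 1 := by
      have h5 : ((Polynomial.X - 1 : Polynomial k)) ^ p = Polynomial.X ^ p - 1 := by
        rw [sub_pow_char, one_pow]
      have h6 := congrArg (Polynomial.aeval (τ g0)) h5
      rw [map_pow, map_sub, Polynomial.aeval_X, map_one, map_sub, map_pow, Polynomial.aeval_X,
        map_one] at h6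
      have h7 : (τ g0 - 1) ^ p = 0 := by
        have : p = 2 + (p - 2) := by have := hp.out.two_le; omega
        rw [this, pow_add, h3, zero_mul]
      rw [h7] at h6
      exact (sub_eq_zero.mp h6.symm)
    apply hτ
    have h5 : orderOf (τ g0) ∣ p := orderOf_dvd_of_pow_eq_one h4
    rcases (Nat.dvd_prime hp.out).mp h5 with h6 | h6
    · exact orderOf_eq_one_iff.mp h6
    · exfalso
      apply hg0
      rw [← h6]
      exact orderOf_map_dvd τ g0

end simple

end Cfsg.Agent.H79.MR
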