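import Mathlib
import Cfsg.Agent.H79.ModR

/-! Groups with a faithful complex representation of degree at most `(p-1)/2`, generated by
their elements of order `p`, map onto `PSL(2,p)`. -/

set_option autoImplicit false

namespace Cfsg.Agent.H79.MR

open Module Subgroup
open scoped MatrixGroups
open Cfsg.Agent

universe u v w

section

variable {G : Type u} [Group G] [Finite G] {p : ℕ} [hp : Fact p.Prime]

theorem exists_regular {u : G} (hu : orderOf u = p) (hsq : ¬ p ^ 2 ∣ Nat.card G)
    (hnn : ¬ (zpowers u).Normal) : ∃ g : G, ¬ p ∣ orderOf g ∧ g ≠ 1 := by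
  have hcard : Nat.card (zpowers u) = p := by rw [Nat.card_zpowers, hu]
  obtain ⟨m, hm⟩ := Subgroup.card_subgroup_dvd_card (zpowers u)
  rw [hcard] at hm
  have hpm : ¬ p ∣ m := by
    intro h
    apply hsq
    rw [hm, pow_two]
    exact Nat.mul_dvd_mul_left p h
  have hm1 : m ≠ 1 := by
    intro h
    apply hnn
    have h1 : zpowers u = ⊤ := Subgroup.eq_top_of_card_eq _ (by rw [hcard, hm, h, mul_one])
    rw [h1]
    infer_instance
  obtain ⟨q, hq, hqm⟩ := Nat.exists_prime_and_dvd hm1
  haveI := Fact.mk hq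
  obtain ⟨g, hg⟩ := exists_prime_orderOf_dvd_card' (G := G) q (by rw [hm]; exact hqm.mul_left p)
  refine ⟨g, ?_, ?_⟩
  · rw [hg]
    intro h
    have : p = q := (Nat.prime_dvd_prime_iff_eq hp.out hq).mp h
    exact hpm (this ▸ hqm)
  · rintro rfl
    rw [orderOf_one] at hg
    exact hq.one_lt.ne hg

omit [Finite G] in
theorem two_le_finrank {k : Type v} [Field k] [CharP k p] {W : Type w} [AddCommGroup W]
    [Module k W] [FiniteDimensional k W] (hgen : Subgroup.closure {g : G | g ^ p = 1} = ⊤)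
    (τ : G →* Module.End k W) {g0 : G} (h : τ g0 ≠ 1) : 2 ≤ finrank k W := by
  by_contra hcon
  apply h
  have hall : ∀ b : Module.End k W, ∃ c : k, b = c • 1 := by
    intro b
    rcases Nat.lt_or_ge 0 (finrank k W) with h1 | h1
    · have h2 : finrank k W = 1 := by omega
      obtain ⟨v, hv0, hv⟩ := finrank_eq_one_iff'.mp h2
      obtain ⟨c, hc⟩ := hv (b v)
      refine ⟨c, LinearMap.ext (fun x => ?_)⟩
      obtain ⟨d, hd⟩ := hv x
      rw [← hd, map_smul, ← hc]
      show d • c • v = c • d • v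
      rw [smul_comm]
    · have : Subsingleton W := by
        rw [← Module.finrank_zero_iff (R := k)]
        omega
      exact ⟨0, LinearMap.ext (fun x => Subsingleton.elim _ _)⟩
  have h1 : (⊤ : Subgroup G) ≤ τ.ker := by
    rw [← hgen, Subgroup.closure_le]
    intro g hg
    have hg : g ^ p = 1 := hg
    show τ g = 1
    obtain ⟨c, hc⟩ := hall (τ g)
    have h2 := sub_one_pow_p τ hg
    have h3 : τ g - 1 = (c - 1) • (1 : Module.End k W) := by rw [hc, sub_smul, one_smul]
    rw [h3, smul_pow, one_pow] at h2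
    by_cases h4 : (1 : Module.End k W) = 0
    · have h5 : ∀ b : Module.End k W, b = 0 := fun b => by
        calc b = b * 1 := (mul_one b).symm
          _ = 0 := by rw [h4, mul_zero]
      rw [h5 (τ g), h5 1]
    · have h5 : (c - 1) ^ p = 0 := by
        by_contra h6
        exact h4 ((smul_eq_zero.mp h2).resolve_left h6)
      have h6 : c = 1 := sub_eq_zero.mp ((pow_eq_zero_iff hp.out.ne_zero).mp h5)
      rw [hc, h6, one_smul]
  exact h1 (Subgroup.mem_top g0)

theorem exists_surj {u : G} (hu : orderOf u = p) (hsq : ¬ p ^ 2 ∣ Nat.card G)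
    (hgen : Subgroup.closure {g : G | g ^ p = 1} = ⊤) (hnn : ¬ (zpowers u).Normal) {n : ℕ}
    (ρ : G →* Module.End ℂ (Fin n → ℂ)) (hρ : Function.Injective ρ) (hn : 2 * n + 1 ≤ p) :
    ∃ π : G →* PSL(2, ZMod p), Function.Surjective π := by
  obtain ⟨g0, hg0, hg1⟩ := exists_regular hu hsq hnn
  obtain ⟨k, i1, i2, i3, τ, hτ⟩ := exists_modular p ρ hρ
  have h1 : τ g0 ≠ 1 := fun h => hg1 (hτ g0 hg0 h)
  obtain ⟨W, j1, j2, j3, τ', h2, h3, h4⟩ := exists_simple (p := p) hg0 n (Fin n → k) τ
    (by rw [Module.finrank_fin_fun]) h1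
  have h5 := two_le_finrank (p := p) hgen τ' h3
  obtain ⟨D, hD, ⟨e⟩⟩ := exists_quot τ' hu hsq hgen h5 (by omega) h4
  refine ⟨e.toMonoidHom.comp (QuotientGroup.mk' D), ?_⟩
  exact e.surjective.comp (QuotientGroup.mk'_surjective D)

end

end Cfsg.Agent.H79.MR
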