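import Mathlib
import Cfsg.Agent.H79.ModT
import Cfsg.Agent.H79.ModQ

/-! Squares in the normalizer of the Sylow `p`-subgroup and the eigenvalues of an element of
order `p`. -/

set_option autoImplicit false

namespace Cfsg.Agent.H79.MR

open Module Subgroup
open scoped MatrixGroups
open Cfsg.Agent

universe u v w

section lift

variable {G : Type u} [Group G] [Finite G] {p : ℕ} [hp : Fact p.Prime]

theorem orderOf_map {u : G} (hu : orderOf u = p) (hsq : ¬ p ^ 2 ∣ Nat.card G)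
    {π : G →* PSL(2, ZMod p)} (hπ : Function.Surjective π) :
    ¬ p ∣ Nat.card π.ker ∧ orderOf (π u) = p := by
  have hcard : Nat.card G = Nat.card PSL(2, ZMod p) * Nat.card π.ker := by
    rw [Subgroup.card_eq_card_quotient_mul_card_subgroup π.ker,
      Nat.card_congr (QuotientGroup.quotientKerEquivOfSurjective π hπ).toEquiv]
  have h1 : ¬ p ∣ Nat.card π.ker := by
    intro h
    apply hsq
    rw [hcard, pow_two]
    exact mul_dvd_mul (card_Q (k := ZMod p) (p := p) (Nat.card_zmod p)).1 h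
  refine ⟨h1, ?_⟩
  have h2 : orderOf (π u) ∣ p := by
    have := orderOf_map_dvd π u
    rwa [hu] at this
  rcases (Nat.dvd_prime hp.out).mp h2 with h3 | h3
  · exfalso
    apply h1
    have h4 : u ∈ π.ker := orderOf_eq_one_iff.mp h3
    have h5 : orderOf (⟨u, h4⟩ : π.ker) = p := (Subgroup.orderOf_coe _).symm.trans hu
    have h6 := orderOf_dvd_natCard (⟨u, h4⟩ : π.ker)
    rwa [h5] at h6
  · exact h3

theorem lift_sq {u : G} (hu : orderOf u = p) (hsq : ¬ p ^ 2 ∣ Nat.card G)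
    {π : G →* PSL(2, ZMod p)} (hπ : Function.Surjective π) {a : ℕ} (ha : ¬ p ∣ a) :
    ∃ x : G, x * u * x⁻¹ = u ^ (a ^ 2) := by
  obtain ⟨-, hv⟩ := orderOf_map hu hsq hπ
  obtain ⟨d, hd⟩ := conj_sq (k := ZMod p) (p := p) (Nat.card_zmod p) hv ha
  obtain ⟨x, rfl⟩ := hπ d
  let H : Subgroup G := (zpowers (π u)).comap π
  have huH : u ∈ H := by
    show π u ∈ zpowers (π u)
    exact mem_zpowers _
  have hy : π (x * u * x⁻¹) = π u ^ (a ^ 2) := by
    rw [map_mul, map_mul, map_inv]; exact hd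
  have hyH : x * u * x⁻¹ ∈ H := by
    show π (x * u * x⁻¹) ∈ zpowers (π u)
    rw [hy]; exact pow_mem (mem_zpowers _) _
  have huH' : orderOf (⟨u, huH⟩ : H) = p := by
    rw [← hu, ← Subgroup.orderOf_coe]
  have hsqH : ¬ p ^ 2 ∣ Nat.card H := fun h => hsq (h.trans (Subgroup.card_subgroup_dvd_card H))
  have hyp : (⟨x * u * x⁻¹, hyH⟩ : H) ^ p = 1 := by
    apply Subtype.ext
    show (x * u * x⁻¹) ^ p = 1
    rw [conj_pow, ← hu, pow_orderOf_eq_one]
    group
  obtain ⟨g, hg⟩ := exists_conj_mem huH' hsqH hyp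
  rw [← mem_powers_iff_mem_zpowers] at hg
  obtain ⟨m, hm⟩ := hg
  have hm' : u ^ m = (g : G)⁻¹ * (x * u * x⁻¹) * g := congrArg Subtype.val hm
  have hcomm : Commute (π g) (π u) := by
    have h1 : π g ∈ zpowers (π u) := g.2
    obtain ⟨j, hj⟩ := h1
    have hj : (π u) ^ j = π g := hj
    rw [← hj]
    exact (Commute.refl _).zpow_left j
  have h2 : π u ^ m = π u ^ (a ^ 2) := by
    rw [← map_pow, hm', map_mul, map_mul, hy, map_inv]
    have h3 : (π g)⁻¹ * π u ^ a ^ 2 = π u ^ a ^ 2 * (π g)⁻¹ :=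
      ((hcomm.pow_right _).inv_left).eq
    rw [h3, inv_mul_cancel_right]
  have h3 : u ^ m = u ^ (a ^ 2) := by
    rw [pow_inj_mod, hv] at h2
    rw [pow_inj_mod, hu]
    exact h2
  refine ⟨(g : G)⁻¹ * x, ?_⟩
  rw [← h3, hm']
  group

/-- Either the Sylow `p`-subgroup is normal or its normalizer induces all squares. -/
theorem normal_or_sq {u : G} (hu : orderOf u = p) (hsq : ¬ p ^ 2 ∣ Nat.card G) {n : ℕ}
    (ρ : G →* Module.End ℂ (Fin n → ℂ)) (hρ : Function.Injective ρ) (hn : 2 * n + 1 ≤ p) :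
    (zpowers u).Normal ∨ ((∀ a : ℕ, ¬ p ∣ a →
      ∃ x ∈ Subgroup.closure {g : G | g ^ p = 1}, x * u * x⁻¹ = u ^ (a ^ 2)) ∧
      ∃ π : Subgroup.closure {g : G | g ^ p = 1} →* PSL(2, ZMod p), Function.Surjective π) := by
  let G1 : Subgroup G := Subgroup.closure {g : G | g ^ p = 1}
  have huG : u ∈ G1 := Subgroup.subset_closure (by
    show u ^ p = 1
    rw [← hu]; exact pow_orderOf_eq_one u)
  have hu1 : orderOf (⟨u, huG⟩ : G1) = p := by
    rw [← hu, ← Subgroup.orderOf_coe]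
  have hsq1 : ¬ p ^ 2 ∣ Nat.card G1 := fun h => hsq (h.trans (Subgroup.card_subgroup_dvd_card G1))
  have hgen : Subgroup.closure {h : G1 | h ^ p = 1} = ⊤ := by
    rw [eq_top_iff, ← Subgroup.closure_closure_coe_preimage (k := {g : G | g ^ p = 1})]
    apply Subgroup.closure_mono
    intro h hh
    have hh : (h : G) ^ p = 1 := hh
    show h ^ p = 1
    exact Subtype.ext hh
  by_cases hnn : (zpowers (⟨u, huG⟩ : G1)).Normal
  · left
    constructor
    intro y hy g
    obtain ⟨j, rfl⟩ := hy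
    show g * u ^ j * g⁻¹ ∈ zpowers u
    have h1 : g * u ^ j * g⁻¹ = (g * u * g⁻¹) ^ j := by rw [conj_zpow]
    rw [h1]
    apply Subgroup.zpow_mem
    have hp1 : (g * u * g⁻¹) ^ p = 1 := by
      rw [conj_pow, ← hu, pow_orderOf_eq_one]; group
    have h2 : g * u * g⁻¹ ∈ G1 := Subgroup.subset_closure hp1
    obtain ⟨g1, hg1⟩ := exists_conj_mem hu1 hsq1 (y := (⟨_, h2⟩ : G1)) (Subtype.ext hp1)
    have h3 := hnn.conj_mem _ hg1 g1
    have h4 : g1 * (g1⁻¹ * (⟨g * u * g⁻¹, h2⟩ : G1) * g1) * g1⁻¹ = ⟨g * u * g⁻¹, h2⟩ := by group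
    rw [h4] at h3
    obtain ⟨i, hi⟩ := h3
    exact ⟨i, congrArg Subtype.val hi⟩
  · right
    obtain ⟨π, hπ⟩ := exists_surj hu1 hsq1 hgen hnn (ρ.comp G1.subtype)
      (hρ.comp Subtype.val_injective) hn
    refine ⟨?_, π, hπ⟩
    intro a ha
    obtain ⟨x, hx⟩ := lift_sq hu1 hsq1 hπ ha
    exact ⟨x, x.2, congrArg Subtype.val hx⟩

end lift

section eig

variable {V : Type v} [AddCommGroup V] [Module ℂ V] {p : ℕ} [hp : Fact p.Prime]

theorem exists_root_of_prod (A : Module.End ℂ V) (s : Multiset ℂ) :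
    ∀ v : V, v ≠ 0 → Polynomial.aeval A ((s.map (fun r => Polynomial.X - Polynomial.C r)).prod) v = 0 →
      ∃ r ∈ s, A.HasEigenvalue r := by
  induction s using Multiset.induction_on with
  | empty =>
    intro v hv h
    exfalso
    apply hv
    simpa using h
  | cons r s ih =>
    intro v hv h
    rw [Multiset.map_cons, Multiset.prod_cons, map_mul] at h
    have h1 : (Polynomial.aeval A (Polynomial.X - Polynomial.C r))
        ((Polynomial.aeval A ((s.map (fun r => Polynomial.X - Polynomial.C r)).prod)) v) = 0 := h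
    by_cases h2 : (Polynomial.aeval A ((s.map (fun r => Polynomial.X - Polynomial.C r)).prod)) v = 0
    · obtain ⟨r', hr', h3⟩ := ih v hv h2
      exact ⟨r', Multiset.mem_cons_of_mem hr', h3⟩
    · refine ⟨r, Multiset.mem_cons_self r s, ?_⟩
      refine Module.End.hasEigenvalue_of_hasEigenvector (x := _) ⟨?_, h2⟩
      rw [Module.End.mem_eigenspace_iff]
      rw [map_sub, Polynomial.aeval_X, Polynomial.aeval_C] at h1
      exact sub_eq_zero.mp h1

theorem exists_prim {A : Module.End ℂ V} (hA : A ^ p = 1) (hA1 : A ≠ 1) :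
    ∃ ζ : ℂ, IsPrimitiveRoot ζ p ∧ A.HasEigenvalue ζ := by
  classical
  obtain ⟨v, hv⟩ : ∃ v, A v - v ≠ 0 := by
    by_contra hcon
    push Not at hcon
    exact hA1 (LinearMap.ext fun v => sub_eq_zero.mp (hcon v))
  -- the product
  have hpos := hp.out.pos
  have h1 : (Polynomial.X ^ p - 1 : Polynomial ℂ) =
      ∏ ζ ∈ Polynomial.nthRootsFinset p (1 : ℂ), (Polynomial.X - Polynomial.C ζ) :=
    Polynomial.X_pow_sub_one_eq_prod hpos (Complex.isPrimitiveRoot_exp p hp.out.ne_zero)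
  have h1mem : (1 : ℂ) ∈ Polynomial.nthRootsFinset p (1 : ℂ) := by
    rw [Polynomial.mem_nthRootsFinset hpos, one_pow]
  rw [← Finset.prod_erase_mul _ _ h1mem] at h1
  have h2 := congrArg (fun q => Polynomial.aeval A q v) h1
  simp only [map_sub, map_pow, Polynomial.aeval_X, map_one, hA, sub_self, map_mul,
    LinearMap.zero_apply, Module.End.mul_apply, Polynomial.aeval_C] at h2
  have h3 : Polynomial.aeval A ((((Polynomial.nthRootsFinset p (1 : ℂ)).erase 1).val.map
      (fun r => Polynomial.X - Polynomial.C r)).prod) (A v - v) = 0 := by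
    have h4 : (((Polynomial.nthRootsFinset p (1 : ℂ)).erase 1).val.map
      (fun r => Polynomial.X - Polynomial.C r)).prod =
      ∏ ζ ∈ (Polynomial.nthRootsFinset p (1 : ℂ)).erase 1, (Polynomial.X - Polynomial.C ζ) := rfl
    rw [h4]
    exact h2.symm
  obtain ⟨r, hr, h4⟩ := exists_root_of_prod A _ _ hv h3
  have hr' : r ∈ (Polynomial.nthRootsFinset p (1 : ℂ)).erase 1 := hr
  rw [Finset.mem_erase, Polynomial.mem_nthRootsFinset hpos] at hr'
  refine ⟨r, ?_, h4⟩
  have h5 : orderOf r = p := orderOf_eq_prime hr'.2 hr'.1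
  rw [← h5]
  exact IsPrimitiveRoot.orderOf r

end eig

section squares

variable {p : ℕ} [hp : Fact p.Prime]

/-- squares of `1, …, (p-1)/2` are distinct modulo `p` -/
theorem sq_inj {a b : ℕ} (ha : 2 * a < p) (hb : 2 * b < p) (hab : (a ^ 2) ≡ (b ^ 2) [MOD p]) :
    a = b := by
  wlog h : a ≤ b generalizing a b
  · exact (this hb ha hab.symm (by omega)).symm
  have h1 : p ∣ b ^ 2 - a ^ 2 := (Nat.modEq_iff_dvd' (Nat.pow_le_pow_left h 2)).mp hab
  rw [Nat.sq_sub_sq] at h1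
  rcases hp.out.dvd_mul.mp h1 with h2 | h2
  · by_contra hne
    have := Nat.le_of_dvd (by omega) h2
    omega
  · by_contra hne
    have := Nat.le_of_dvd (by omega) h2
    omega

variable {V : Type v} [AddCommGroup V] [Module ℂ V] [FiniteDimensional ℂ V]

omit [FiniteDimensional ℂ V] in
theorem exists_eigvecs {A : Module.End ℂ V} (hA : A ^ p = 1) (hA1 : A ≠ 1)
    (h : ∀ a : ℕ, ¬ p ∣ a → ∃ X Y : Module.End ℂ V, Y * X = 1 ∧ X * Y = 1 ∧
      X * A * Y = A ^ (a ^ 2)) :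
    ∃ (ζ : ℂ) (v : ℕ → V), IsPrimitiveRoot ζ p ∧
      ∀ i, 2 * (i + 1) < p → A.HasEigenvector (ζ ^ ((i + 1) ^ 2)) (v i) := by
  classical
  obtain ⟨ζ, hζ, hev⟩ := exists_prim hA hA1
  obtain ⟨w, hw⟩ := hev.exists_hasEigenvector
  have hw1 : A w = ζ • w := Module.End.mem_eigenspace_iff.mp hw.1
  have hpow : ∀ m : ℕ, (A ^ m) w = ζ ^ m • w := by
    intro m
    induction m with
    | zero => simp
    | succ m ih =>
      rw [pow_succ', Module.End.mul_apply, ih, map_smul, hw1, smul_smul, pow_succ]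
  have key : ∀ i : ℕ, ∃ v : V, 2 * (i + 1) < p → A.HasEigenvector (ζ ^ ((i + 1) ^ 2)) v := by
    intro i
    by_cases hi : 2 * (i + 1) < p
    · have hndvd : ¬ p ∣ (i + 1) := by
        intro h1
        have := Nat.le_of_dvd (by omega) h1
        omega
      obtain ⟨X, Y, h1, h2, h3⟩ := h (i + 1) hndvd
      refine ⟨Y w, fun _ => ⟨?_, ?_⟩⟩
      · rw [Module.End.mem_eigenspace_iff]
        have h4 : X (A (Y w)) = ζ ^ ((i + 1) ^ 2) • w := by
          rw [← hpow, ← h3]; rfl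
        have h5 : Y (X (A (Y w))) = A (Y w) := by
          have := congrArg (fun Z : Module.End ℂ V => Z (A (Y w))) h1
          exact this
        rw [← h5, h4, map_smul]
      · intro h4
        apply hw.2
        have h5 : X (Y w) = w := by
          have := congrArg (fun Z : Module.End ℂ V => Z w) h2
          exact this
        rw [← h5, h4, map_zero]
    · exact ⟨0, fun h => absurd h hi⟩
  choose v hv using key
  exact ⟨ζ, v, hζ, hv⟩

theorem modEq_of_pow {ζ : ℂ} (hζ : IsPrimitiveRoot ζ p) {m n : ℕ} (h : ζ ^ m = ζ ^ n) :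
    m ≡ n [MOD p] := by
  wlog hmn : m ≤ n generalizing m n
  · exact (this h.symm (by omega)).symm
  have h0 : ζ ≠ 0 := hζ.ne_zero hp.out.ne_zero
  rw [Nat.modEq_iff_dvd' hmn]
  apply hζ.dvd_of_pow_eq_one
  have h1 : ζ ^ m * ζ ^ (n - m) = ζ ^ m * 1 := by
    rw [← pow_add, mul_one, h]
    congr 1
    omega
  exact mul_left_cancel₀ (pow_ne_zero _ h0) h1

theorem pow_sq_inj {ζ : ℂ} (hζ : IsPrimitiveRoot ζ p) :
    Function.Injective (fun i : Fin ((p - 1) / 2) => ζ ^ (((i : ℕ) + 1) ^ 2)) := by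
  intro i j hij
  have hij : ζ ^ (((i : ℕ) + 1) ^ 2) = ζ ^ (((j : ℕ) + 1) ^ 2) := hij
  have hij := modEq_of_pow hζ hij
  have h1 := sq_inj (p := p) (a := (i : ℕ) + 1) (b := (j : ℕ) + 1) (by omega) (by omega) hij
  exact Fin.ext (by omega)

omit [FiniteDimensional ℂ V] in
theorem eigvecs_indep {A : Module.End ℂ V} {ζ : ℂ} (hζ : IsPrimitiveRoot ζ p) {v : ℕ → V}
    (hv : ∀ i, 2 * (i + 1) < p → A.HasEigenvector (ζ ^ ((i + 1) ^ 2)) (v i)) :
    LinearIndependent ℂ (fun i : Fin ((p - 1) / 2) => v i) :=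
  Module.End.eigenvectors_linearIndependent' A (fun i : Fin ((p - 1) / 2) =>
    ζ ^ (((i : ℕ) + 1) ^ 2)) (pow_sq_inj hζ) (fun i => v i) (fun i => hv i (by omega))

theorem half_le {A : Module.End ℂ V} (hA : A ^ p = 1) (hA1 : A ≠ 1)
    (h : ∀ a : ℕ, ¬ p ∣ a → ∃ X Y : Module.End ℂ V, Y * X = 1 ∧ X * Y = 1 ∧
      X * A * Y = A ^ (a ^ 2)) : (p - 1) / 2 ≤ finrank ℂ V := by
  obtain ⟨ζ, v, hζ, hv⟩ := exists_eigvecs hA hA1 h
  have h1 := (eigvecs_indep hζ hv).fintype_card_le_finrank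
  rwa [Fintype.card_fin] at h1

end squares

end Cfsg.Agent.H79.MR
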