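import Mathlib
import Cfsg.Prelude.Def_Characters
import Cfsg.Prelude.Def_Blocks
import Cfsg.Agent.H79.ModU

/-! The degree bound `(p-1)/2`. -/

set_option autoImplicit false

namespace Cfsg.Agent.H79.MR

open Module Subgroup
open scoped MatrixGroups
open Cfsg.Agent

universe u v w

section

variable {G : Type u} [Group G] [Finite G] {p : ℕ} [hp : Fact p.Prime]

omit [Finite G] in
theorem exists_faithful {χ : G → ℂ} (hχ : Cfsg.IsCharacter G χ) (hfaith : ∀ g : G, χ g = χ 1 → g = 1) :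
    ∃ ρ : G →* Module.End ℂ (Fin (Cfsg.charDegree χ) → ℂ), Function.Injective ρ := by
  obtain ⟨n, ρ, hρ⟩ := hχ
  have h1 : Cfsg.charDegree χ = n := by
    unfold Cfsg.charDegree
    rw [← hρ, Representation.char_one, Module.finrank_fin_fun]
    simp
  rw [h1]
  refine ⟨ρ, (injective_iff_map_eq_one ρ).mpr ?_⟩
  intro g hg
  apply hfaith
  rw [← hρ]
  unfold Representation.character
  rw [hg, map_one ρ]

theorem conj_data {n : ℕ} {u : G} (ρ : G →* Module.End ℂ (Fin n → ℂ))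
    (h : ∀ a : ℕ, ¬ p ∣ a → ∃ x : G, x * u * x⁻¹ = u ^ (a ^ 2)) :
    ∀ a : ℕ, ¬ p ∣ a → ∃ X Y : Module.End ℂ (Fin n → ℂ), Y * X = 1 ∧ X * Y = 1 ∧
      X * ρ u * Y = ρ u ^ (a ^ 2) := by
  intro a ha
  obtain ⟨x, hx⟩ := h a ha
  refine ⟨ρ x, ρ x⁻¹, ?_, ?_, ?_⟩
  · rw [← map_mul, inv_mul_cancel, map_one]
  · rw [← map_mul, mul_inv_cancel, map_one]
  · rw [← map_mul, ← map_mul, hx, map_pow]

theorem bound (hdiv : p ∣ Nat.card G) (hsq : ¬ p ^ 2 ∣ Nat.card G)
    (hnn : ∀ H : Subgroup G, H.Normal → Nat.card H ≠ p) {n : ℕ}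
    (ρ : G →* Module.End ℂ (Fin n → ℂ)) (hρ : Function.Injective ρ) : p ≤ 2 * n + 1 := by
  by_contra hcon
  obtain ⟨u, hu⟩ := exists_prime_orderOf_dvd_card' (G := G) p hdiv
  have hu1 : u ≠ 1 := by
    rintro rfl
    rw [orderOf_one] at hu
    exact hp.out.one_lt.ne hu
  rcases normal_or_sq hu hsq ρ hρ (by omega) with h | ⟨h, -⟩
  · exact hnn _ h (by rw [Nat.card_zpowers, hu])
  · have h1 : ρ u ^ p = 1 := by rw [← map_pow, ← hu, pow_orderOf_eq_one, map_one]
    have h2 : ρ u ≠ 1 := by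
      intro h3
      exact hu1 (hρ (by rw [h3, map_one]))
    have h3 := half_le h1 h2 (conj_data ρ (fun a ha => by
      obtain ⟨x, -, hx⟩ := h a ha
      exact ⟨x, hx⟩))
    rw [Module.finrank_fin_fun] at h3
    rcases hp.out.eq_two_or_odd with h4 | h4
    · have h5 : n = 0 := by omega
      subst h5
      exact h2 (LinearMap.ext (fun x => Subsingleton.elim _ _))
    · omega

end

end Cfsg.Agent.H79.MR
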