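import Cfsg.Agent.H79.NilpProd
import Cfsg.Agent.Char.ExtThm
import Cfsg.Agent.S0867

/-!
# Characters and coprime action

Sums of squares of the values of a character over a coset `N s` of a normal subgroup `N` of order
prime to the order of `s`.
-/

set_option autoImplicit false

open Cfsg ComplexConjugate Module

namespace Cfsg.Agent.H79

universe u

variable {G : Type u} [Group G]

theorem sum_conj_mul_sub [Finite G] (N : Subgroup G) [Fintype N] (χ : IrrCharacter G)
    (hN : IsIrrCharacter N (fun n : N => (χ : G → ℂ) n)) (x y : G) :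
    ∑ a : N, (χ : G → ℂ) (a * x * (a : G)⁻¹ * y) =
      (Nat.card N : ℂ) * (χ : G → ℂ) x * (χ : G → ℂ) y / (χ : G → ℂ) 1 := by
  obtain ⟨n, ρ, hρ, h, hn, hpos⟩ := irr_exists_rep χ
  let ρN : Representation ℂ N (Fin n → ℂ) := ρ.comp N.subtype
  have hchar : ρN.character = (fun m : N => (χ : G → ℂ) m) := by
    funext m
    rw [← h]; rfl
  have hirr : ρN.IsIrreducible := Char.isIrreducible_of_character ρN (by rw [hchar]; exact hN)
  have h1 : ∀ (g : N) (v : Fin n → ℂ), (∑ a : N, ρ (a * x * (a : G)⁻¹)) (ρN g v) =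
      ρN g ((∑ a : N, ρ (a * x * (a : G)⁻¹)) v) := by
    intro g v
    have h4 : (∑ a : N, ρ (a * x * (a : G)⁻¹)) * ρ g = ρ g * (∑ a : N, ρ (a * x * (a : G)⁻¹)) := by
      rw [Finset.sum_mul, Finset.mul_sum]
      apply Fintype.sum_equiv (Equiv.mulLeft g⁻¹)
      intro a
      simp only [Equiv.coe_mulLeft, ← map_mul]
      congr 1
      push_cast
      group
    exact LinearMap.congr_fun h4 v
  have h2 := Char.schur_scalar_trace ρN _ h1
  have h3 : LinearMap.trace ℂ (Fin n → ℂ) (∑ a : N, ρ (a * x * (a : G)⁻¹)) =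
      (Nat.card N : ℂ) * (χ : G → ℂ) x := by
    rw [map_sum]
    have : ∀ a : N, LinearMap.trace ℂ (Fin n → ℂ) (ρ (a * x * (a : G)⁻¹)) = (χ : G → ℂ) x := by
      intro a
      rw [← h]
      exact Representation.char_conj ρ x a
    rw [Finset.sum_congr rfl (fun a _ => this a)]
    simp [Nat.card_eq_fintype_card]
  rw [h3] at h2
  have h5 : (χ : G → ℂ) 1 = (finrank ℂ (Fin n → ℂ) : ℂ) := by rw [irr_one, hn]; simp
  calc ∑ a : N, (χ : G → ℂ) (a * x * (a : G)⁻¹ * y)
      = ∑ a : N, LinearMap.trace ℂ (Fin n → ℂ) (ρ (a * x * (a : G)⁻¹) * ρ y) := by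
        refine Finset.sum_congr rfl (fun a _ => ?_)
        rw [← map_mul, ← h]; rfl
    _ = LinearMap.trace ℂ (Fin n → ℂ) ((∑ a : N, ρ (a * x * (a : G)⁻¹)) * ρ y) := by
        rw [Finset.sum_mul, map_sum]
    _ = _ := by
        rw [h2]
        have h6 : ((((Nat.card N : ℂ) * (χ : G → ℂ) x) / (finrank ℂ (Fin n → ℂ) : ℂ)) •
            (LinearMap.id : (Fin n → ℂ) →ₗ[ℂ] (Fin n → ℂ))) * ρ y =
            (((Nat.card N : ℂ) * (χ : G → ℂ) x) / (finrank ℂ (Fin n → ℂ) : ℂ)) • ρ y := by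
          ext v; rfl
        rw [h6, map_smul, h5, smul_eq_mul]
        have h7 : LinearMap.trace ℂ (Fin n → ℂ) (ρ y) = (χ : G → ℂ) y := by rw [← h]; rfl
        rw [h7]
        ring

/-- If the restriction of `χ` to the normal subgroup `N` is irreducible, then the values of `χ` on
every coset of `N` have mean square one. -/
theorem sum_coset_mul_inv [Finite G] (N : Subgroup G) [Fintype N]
    (χ : IrrCharacter G) (hN : IsIrrCharacter N (fun n : N => (χ : G → ℂ) n)) (s : G) :
    ∑ n : N, (χ : G → ℂ) (n * s) * (χ : G → ℂ) ((n * s : G)⁻¹) = (Nat.card N : ℂ) := by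
  have hc1 : (χ : G → ℂ) 1 ≠ 0 := irr_one_ne_zero χ
  have hcN : (Nat.card N : ℂ) ≠ 0 := by exact_mod_cast (Nat.card_pos (α := N)).ne'
  have h1 : ∀ m : N, (Nat.card N : ℂ) * ((χ : G → ℂ) (m * s) * (χ : G → ℂ) ((m * s : G)⁻¹)) =
      (χ : G → ℂ) 1 * ∑ n : N, (χ : G → ℂ) (n * (m * s) * (n : G)⁻¹ * (m * s : G)⁻¹) := by
    intro m
    rw [sum_conj_mul_sub N χ hN]
    field_simp
  have h2 : ∀ n : N, ∑ m : N, (χ : G → ℂ) (n * (m * s) * (n : G)⁻¹ * (m * s : G)⁻¹) =
      (Nat.card N : ℂ) * ((χ : G → ℂ) (n : G)⁻¹ * (χ : G → ℂ) n) / (χ : G → ℂ) 1 := by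
    intro n
    have h3 : ∀ m : N, (χ : G → ℂ) (n * (m * s) * (n : G)⁻¹ * (m * s : G)⁻¹) =
        (χ : G → ℂ) (m * (s * (n : G)⁻¹ * s⁻¹) * (m : G)⁻¹ * n) := by
      intro m
      have h4 := CharBase.irr_isClassFunction χ (m * (s * (n : G)⁻¹ * s⁻¹) * (m : G)⁻¹ * n) n
      rw [← h4]
      group
    rw [Finset.sum_congr rfl (fun m _ => h3 m), sum_conj_mul_sub N χ hN]
    rw [CharBase.irr_isClassFunction χ (n : G)⁻¹ s]
    ring
  have h3 : (Nat.card N : ℂ) * ∑ n : N, (χ : G → ℂ) (n * s) * (χ : G → ℂ) ((n * s : G)⁻¹) =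
      (Nat.card N : ℂ) * (Nat.card N : ℂ) := by
    rw [Finset.mul_sum, Finset.sum_congr rfl (fun m _ => h1 m), ← Finset.mul_sum,
      Finset.sum_comm, Finset.sum_congr rfl (fun n _ => h2 n)]
    have h5 : ∑ n : N, (χ : G → ℂ) n * conj ((χ : G → ℂ) n) = (Nat.card N : ℂ) := by
      have h6 := CharBase.classInner_irr_self (⟨_, hN⟩ : IrrCharacter N)
      unfold classInner at h6
      field_simp at h6
      exact h6
    have h7 : ∀ n : N, (Nat.card N : ℂ) * ((χ : G → ℂ) (n : G)⁻¹ * (χ : G → ℂ) n) / (χ : G → ℂ) 1 =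
        (Nat.card N : ℂ) / (χ : G → ℂ) 1 * ((χ : G → ℂ) n * conj ((χ : G → ℂ) n)) := by
      intro n
      rw [CharBase.irr_inv]
      ring
    rw [Finset.sum_congr rfl (fun n _ => h7 n), ← Finset.mul_sum, h5]
    field_simp
  exact mul_left_cancel₀ hcN h3

/-- Coprime action: `|C| ∑_{n ∈ N} F (n s) = |N| ∑_{c ∈ C} F (c s)` for a class function `F`, where
`C = C_N(s)`. -/
theorem sum_coset_eq [Finite G] (N C : Subgroup G) [hNn : N.Normal] [Fintype N] [Fintype C]
    (hCN : C ≤ N) (s : G) (hs : (orderOf s).Coprime (Nat.card N))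
    (hC : ∀ n ∈ N, (n ∈ C ↔ n * s = s * n)) (F : G → ℂ) (hF : ∀ x g : G, F (g * x * g⁻¹) = F x) :
    (Nat.card C : ℂ) * ∑ n : N, F (n * s) = (Nat.card N : ℂ) * ∑ c : C, F (c * s) := by
  classical
  -- the map
  let Φ : N × C → N := fun q => ⟨q.1 * q.2 * s * (q.1 : G)⁻¹ * s⁻¹, by
    have h1 : (q.1 : G) * q.2 ∈ N := N.mul_mem q.1.2 (hCN q.2.2)
    have h2 : s * (q.1 : G)⁻¹ * s⁻¹ ∈ N := hNn.conj_mem _ (N.inv_mem q.1.2) s
    have h3 := N.mul_mem h1 h2
    have h4 : (q.1 : G) * q.2 * s * (q.1 : G)⁻¹ * s⁻¹ = (q.1 : G) * q.2 * (s * (q.1 : G)⁻¹ * s⁻¹) := by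
      group
    rw [h4]; exact h3⟩
  have hΦ : ∀ q : N × C, (Φ q : G) * s = q.1 * (q.2 * s) * (q.1 : G)⁻¹ := by
    intro q
    show (q.1 : G) * q.2 * s * (q.1 : G)⁻¹ * s⁻¹ * s = _
    group
  -- a power which extracts `s`
  obtain ⟨k, hk1, hk2⟩ := Nat.chineseRemainder hs 1 0
  have hks : s ^ k = s := by
    have : s ^ k = s ^ 1 := by
      rw [pow_eq_pow_iff_modEq]; exact hk1
    rw [this, pow_one]
  have hkN : Nat.card N ∣ k := (Nat.modEq_zero_iff_dvd).mp hk2
  have hkc : ∀ c : C, (c : G) ^ k = 1 := by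
    intro c
    apply orderOf_dvd_iff_pow_eq_one.mp
    have h1 : orderOf (⟨(c : G), hCN c.2⟩ : N) ∣ Nat.card N := orderOf_dvd_natCard _
    rw [Subgroup.orderOf_mk] at h1
    exact h1.trans hkN
  have hcs : ∀ c : C, ((c : G) * s) ^ k = s := by
    intro c
    have h1 : Commute (c : G) s := (hC c (hCN c.2)).mp c.2
    rw [h1.mul_pow, hkc, hks, one_mul]
  -- fibres
  have hfib : ∀ y : N, ((Finset.univ : Finset (N × C)).filter (fun q => Φ q = y)).card ≤
      Fintype.card C := by
    intro y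
    by_cases hne : ((Finset.univ : Finset (N × C)).filter (fun q => Φ q = y)).Nonempty
    · obtain ⟨q0, hq0⟩ := hne
      simp only [Finset.mem_filter, Finset.mem_univ, true_and] at hq0
      have hmem : ∀ q ∈ (Finset.univ : Finset (N × C)).filter (fun q => Φ q = y),
          (q0.1 : G)⁻¹ * q.1 ∈ C := by
        intro q hq
        simp only [Finset.mem_filter, Finset.mem_univ, true_and] at hq
        have hmN : (q0.1 : G)⁻¹ * q.1 ∈ N := N.mul_mem (N.inv_mem q0.1.2) q.1.2
        rw [hC _ hmN]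
        have h1 : (q.1 : G) * (q.2 * s) * (q.1 : G)⁻¹ = q0.1 * (q0.2 * s) * (q0.1 : G)⁻¹ := by
          rw [← hΦ, ← hΦ, hq, hq0]
        have h2 : ((q0.1 : G)⁻¹ * q.1) * (q.2 * s) * ((q0.1 : G)⁻¹ * q.1)⁻¹ = q0.2 * s := by
          have : ((q0.1 : G)⁻¹ * q.1) * (q.2 * s) * ((q0.1 : G)⁻¹ * q.1)⁻¹ =
              (q0.1 : G)⁻¹ * ((q.1 : G) * (q.2 * s) * (q.1 : G)⁻¹) * q0.1 := by group
          rw [this, h1]; group
        have h3 := congrArg (fun z : G => z ^ k) h2
        beta_reduce at h3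
        rw [hcs, conj_pow, hcs] at h3
        rwa [mul_inv_eq_iff_eq_mul] at h3
      have := Finset.card_le_card_of_injOn (s := (Finset.univ : Finset (N × C)).filter
        (fun q => Φ q = y)) (t := (Finset.univ : Finset C))
        (fun q => if h : (q0.1 : G)⁻¹ * q.1 ∈ C then ⟨(q0.1 : G)⁻¹ * q.1, h⟩ else 1)
        (fun _ _ => Finset.mem_univ _) (by
          intro q hq q' hq' hqq
          have hq1 := hmem q hq
          have hq1' := hmem q' hq'
          simp only [dif_pos hq1, dif_pos hq1', Subtype.mk.injEq, mul_right_inj] at hqq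
          have e1 : q.1 = q'.1 := Subtype.ext hqq
          have e2 : (Φ q : G) * s = (Φ q' : G) * s := by
            have a1 : Φ q = y := by simpa using hq
            have a2 : Φ q' = y := by simpa using hq'
            rw [a1, a2]
          rw [hΦ, hΦ, e1, mul_left_inj, mul_right_inj, mul_left_inj] at e2
          exact Prod.ext e1 (Subtype.ext e2))
      rwa [Finset.card_univ] at this
    · rw [Finset.not_nonempty_iff_eq_empty] at hne
      rw [hne]; simp
  have htot : ∑ y : N, ((Finset.univ : Finset (N × C)).filter (fun q => Φ q = y)).card =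
      ∑ _y : N, Fintype.card C := by
    rw [← Finset.card_eq_sum_card_fiberwise (fun q _ => Finset.mem_univ (Φ q))]
    simp [Fintype.card_prod]
  have heq : ∀ y : N, ((Finset.univ : Finset (N × C)).filter (fun q => Φ q = y)).card =
      Fintype.card C := by
    have h1 := (Finset.sum_eq_sum_iff_of_le (fun y _ => hfib y)).mp htot
    exact fun y => h1 y (Finset.mem_univ y)
  have h1 : ∑ q : N × C, F ((Φ q : G) * s) = (Nat.card C : ℂ) * ∑ n : N, F (n * s) := by
    rw [← Finset.sum_fiberwise_of_maps_to (g := Φ) (t := (Finset.univ : Finset N))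
      (fun q _ => Finset.mem_univ _) (fun q => F ((Φ q : G) * s)), Finset.mul_sum]
    refine Finset.sum_congr rfl (fun y _ => ?_)
    rw [Finset.sum_congr rfl (g := fun _ => F ((y : G) * s)) (by
      intro q hq
      have : Φ q = y := by simpa using hq
      rw [this])]
    rw [Finset.sum_const, heq, nsmul_eq_mul, Nat.card_eq_fintype_card]
  rw [← h1, Fintype.sum_prod_type]
  have h2 : ∀ n : N, ∑ c : C, F ((Φ (n, c) : G) * s) = ∑ c : C, F (c * s) := by
    intro n
    refine Finset.sum_congr rfl (fun c _ => ?_)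
    rw [hΦ, hF]
  rw [Finset.sum_congr rfl (fun n _ => h2 n), Finset.sum_const, Finset.card_univ, nsmul_eq_mul,
    Nat.card_eq_fintype_card]

end Cfsg.Agent.H79

namespace Cfsg.Agent.H79

universe u'

theorem detOrder_dvd_card {N : Type u'} [Group N] [Finite N] (θ : IrrCharacter N) :
    detOrder (θ : N → ℂ) ∣ Nat.card N := by
  obtain ⟨n, ρ, hρ, h, hn, hpos⟩ := irr_exists_rep θ
  have h1 : detChar (θ : N → ℂ) = Char.detHom ρ := by
    rw [← h]
    exact Char.detChar_eq ρ (by rw [h]; exact θ.2)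
  unfold detOrder
  rw [h1]
  apply orderOf_dvd_of_pow_eq_one
  funext x
  rw [Pi.pow_apply, Pi.one_apply, ← map_pow, pow_card_eq_one', map_one]

theorem scalar_of_small_degree {G : Type u'} [Group G] [Finite G] (p : ℕ) [hp : Fact p.Prime]
    (N S C : Subgroup G) [hNn : N.Normal] (hpN : ¬ p ∣ Nat.card N) (hS : IsPGroup p S)
    (hNS : N ⊔ S = ⊤) (hCN : C ≤ N)
    (hC : ∀ s ∈ S, s ≠ 1 → ∀ n ∈ N, (n ∈ C ↔ n * s = s * n)) (θ : IrrCharacter N)
    (hinv : ∀ (g : G) (n : N), (θ : N → ℂ) ⟨g * n * g⁻¹, hNn.conj_mem (n : G) n.2 g⟩ =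
      (θ : N → ℂ) n)
    (hdeg : charDegree (θ : N → ℂ) ^ 2 ≤ Nat.card S) (s : G) (hs : s ∈ S) (n m : N)
    (hm : (m : G) = n * s * (n : G)⁻¹ * s⁻¹) : (θ : N → ℂ) m = (θ : N → ℂ) 1 := by
  classical
  have hpp : p.Prime := hp.out
  have := Fintype.ofFinite G
  have := Fintype.ofFinite N
  have := Fintype.ofFinite S
  have := Fintype.ofFinite C
  obtain ⟨kS, hkS⟩ := IsPGroup.iff_card.mp hS
  have hidx : N.index ∣ Nat.card S := by
    have h1 : N.relIndex (S ⊔ N) = N.relIndex S := Subgroup.relIndex_sup_right _ _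
    rw [sup_comm, hNS, Subgroup.relIndex_top_right] at h1
    rw [h1]
    exact Subgroup.relIndex_dvd_card _ _
  have hpcop : Nat.Coprime (Nat.card S) (Nat.card N) := by
    rw [hkS]
    exact ((Nat.Prime.coprime_iff_not_dvd hpp).mpr hpN).pow_left kS
  have hcop : Nat.Coprime N.index (detOrder (θ : N → ℂ) * charDegree (θ : N → ℂ)) := by
    apply Nat.Coprime.coprime_dvd_left hidx
    apply Nat.Coprime.mul_right
    · exact Nat.Coprime.coprime_dvd_right (detOrder_dvd_card θ) hpcop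
    · exact Nat.Coprime.coprime_dvd_right (irr_degree_dvd_card θ) hpcop
  obtain ⟨χ0, ⟨hχirr, hχN, -⟩, -⟩ := S0867.result N (θ : N → ℂ) θ.2 hinv _ (irr_one θ) hcop
  set χ : IrrCharacter G := ⟨χ0, hχirr⟩ with hχdef
  have hχθ : ∀ x : N, (χ : G → ℂ) x = (θ : N → ℂ) x := hχN
  have hresN : IsIrrCharacter N (fun x : N => (χ : G → ℂ) x) := by
    have : (fun x : N => (χ : G → ℂ) x) = (θ : N → ℂ) := funext hχθ
    rw [this]; exact θ.2
  have hχ1 : (χ : G → ℂ) 1 = (θ : N → ℂ) 1 := hχθ 1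
  have hcC : (Nat.card C : ℂ) ≠ 0 := by exact_mod_cast (Nat.card_pos (α := C)).ne'
  have hcS : (Nat.card S : ℂ) ≠ 0 := by exact_mod_cast (Nat.card_pos (α := S)).ne'
  have hcN : (Nat.card N : ℂ) ≠ 0 := by exact_mod_cast (Nat.card_pos (α := N)).ne'
  -- the value of the sum over `C s`
  have hsum : ∀ t ∈ S, t ≠ 1 → ∑ c : C, (χ : G → ℂ) (c * t) * (χ : G → ℂ) ((c * t : G)⁻¹) =
      (Nat.card C : ℂ) := by
    intro t ht ht1
    have hot : (orderOf t).Coprime (Nat.card N) := by
      have h1 : orderOf (⟨t, ht⟩ : S) ∣ Nat.card S := orderOf_dvd_natCard _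
      rw [Subgroup.orderOf_mk] at h1
      exact Nat.Coprime.coprime_dvd_left h1 hpcop
    have h1 := sum_coset_eq N C hCN t hot (hC t ht ht1)
      (fun x => (χ : G → ℂ) x * (χ : G → ℂ) x⁻¹) (by
        intro x g
        have : (g * x * g⁻¹)⁻¹ = g * x⁻¹ * g⁻¹ := by group
        rw [this, CharBase.irr_isClassFunction χ x g, CharBase.irr_isClassFunction χ x⁻¹ g])
    rw [sum_coset_mul_inv N χ hresN t, mul_comm] at h1
    exact (mul_left_cancel₀ hcN h1).symm
  -- the commuting product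
  have hcomm : ∀ (c : C) (t : S), Commute (C.subtype c) (S.subtype t) := by
    intro c t
    by_cases ht : (t : G) = 1
    · show (c : G) * (t : G) = t * c
      rw [ht, mul_one, one_mul]
    · exact (hC t t.2 ht c (hCN c.2)).mp c.2
  let f : C × S →* G := MonoidHom.noncommCoprod C.subtype S.subtype hcomm
  have hf : ∀ q : C × S, f q = q.1 * q.2 := fun q => rfl
  obtain ⟨k, hk⟩ := CharBase.classInner_natCast
    (CharBase.isCharacter_comp (CharBase.irr_isCharacter χ) f)
    (CharBase.isCharacter_comp (CharBase.irr_isCharacter χ) f)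
  obtain ⟨r, hr⟩ := CharBase.classInner_natCast
    (CharBase.isCharacter_comp (CharBase.irr_isCharacter χ) C.subtype)
    (CharBase.isCharacter_comp (CharBase.irr_isCharacter χ) C.subtype)
  have hsumC : ∑ c : C, (χ : G → ℂ) c * conj ((χ : G → ℂ) c) = (Nat.card C : ℂ) * r := by
    unfold classInner at hr
    rw [← hr]
    simp only [Function.comp_apply, Subgroup.coe_subtype]
    field_simp
  have hkr : k * Nat.card S + 1 = r + Nat.card S := by
    unfold classInner at hk
    simp only [Function.comp_apply, hf] at hk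
    rw [Fintype.sum_prod_type_right, Nat.card_prod] at hk
    have h1 : ∀ t : S, ∑ c : C, (χ : G → ℂ) (c * t) * conj ((χ : G → ℂ) (c * t)) =
        if t = 1 then (Nat.card C : ℂ) * r else (Nat.card C : ℂ) := by
      intro t
      split_ifs with h
      · rw [h, ← hsumC]
        simp
      · have h2 : (t : G) ≠ 1 := fun h' => h (Subtype.ext h')
        rw [← hsum t t.2 h2]
        refine Finset.sum_congr rfl (fun c _ => ?_)
        rw [CharBase.irr_inv]
    rw [Finset.sum_congr rfl (fun t _ => h1 t), ← Finset.add_sum_erase _ _ (Finset.mem_univ (1 : S)),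
      if_pos rfl, Finset.sum_congr rfl (g := fun _ => (Nat.card C : ℂ)) (by
        intro t ht
        rw [if_neg (Finset.ne_of_mem_erase ht)]), Finset.sum_const,
      Finset.card_erase_of_mem (Finset.mem_univ _), Finset.card_univ, ← Nat.card_eq_fintype_card,
      nsmul_eq_mul, Nat.cast_sub (Nat.card_pos (α := S)), Nat.cast_mul] at hk
    field_simp at hk
    have h3 : ((k * Nat.card S + 1 : ℕ) : ℂ) = ((r + Nat.card S : ℕ) : ℂ) := by
      push_cast
      push_cast at hk
      linear_combination -hk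
    exact_mod_cast h3
  have hsumR : ∑ c : C, ‖(χ : G → ℂ) c‖ ^ 2 = (Nat.card C : ℝ) * r := by
    have h1 : ((∑ c : C, ‖(χ : G → ℂ) c‖ ^ 2 : ℝ) : ℂ) = (((Nat.card C : ℝ) * r : ℝ) : ℂ) := by
      push_cast
      rw [← hsumC]
      refine Finset.sum_congr rfl (fun c _ => ?_)
      rw [Complex.mul_conj, Complex.normSq_eq_norm_sq]
      push_cast; rfl
    exact_mod_cast h1
  obtain ⟨d, ρ, hρ, h, hd, hdpos⟩ := irr_exists_rep χ
  have hdθ : charDegree (θ : N → ℂ) = d := by
    rw [← hd]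
    unfold charDegree
    rw [hχ1]
  have hle : ∀ g : G, ‖(χ : G → ℂ) g‖ ≤ d := by
    intro g
    rw [← h]
    have := Char.rep_norm_character_le ρ g
    simpa using this
  have hrle : r ≤ d ^ 2 := by
    have h1 : ∑ c : C, ‖(χ : G → ℂ) c‖ ^ 2 ≤ ∑ _c : C, (d : ℝ) ^ 2 := by
      refine Finset.sum_le_sum (fun c _ => ?_)
      exact pow_le_pow_left₀ (norm_nonneg _) (hle c) 2
    rw [hsumR, Finset.sum_const, Finset.card_univ, nsmul_eq_mul, ← Nat.card_eq_fintype_card] at h1
    have h2 : (0 : ℝ) < Nat.card C := by exact_mod_cast Nat.card_pos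
    have h3 := le_of_mul_le_mul_left h1 h2
    exact_mod_cast h3
  have hrpos : r ≠ 0 := by
    rintro rfl
    rw [Nat.cast_zero, mul_zero] at hsumR
    have h1 := (Finset.sum_eq_zero_iff_of_nonneg (fun c _ => by positivity)).mp hsumR 1
      (Finset.mem_univ _)
    have h2 : (χ : G → ℂ) 1 = 0 := by
      have := pow_eq_zero_iff (two_ne_zero) |>.mp h1
      simpa using this
    exact irr_one_ne_zero χ h2
  have hr1 : r = 1 := by
    rw [hdθ] at hdeg
    have hS0 : 0 < Nat.card S := Nat.card_pos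
    have h1 : r ≤ Nat.card S := hrle.trans hdeg
    have hk1 : k = 1 := by
      rcases Nat.lt_trichotomy k 1 with h2 | h2 | h2
      · have : k = 0 := by omega
        subst this
        omega
      · exact h2
      · exfalso
        have : 2 * Nat.card S ≤ k * Nat.card S := Nat.mul_le_mul_right _ h2
        omega
    rw [hk1] at hkr
    omega
  -- the restriction to `C` is irreducible
  let ρC : Representation ℂ C (Fin d → ℂ) := ρ.comp C.subtype
  have hcharC : ρC.character = (χ : G → ℂ) ∘ C.subtype := by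
    funext c
    rw [← h]; rfl
  have hirrC : ρC.IsIrreducible := by
    apply Char.isIrreducible_of_character
    rw [hcharC, CharBase.isIrrCharacter_iff
      (CharBase.isCharacter_comp (CharBase.irr_isCharacter χ) C.subtype), hr, hr1]
    simp
  obtain ⟨ω, hω⟩ := Char.schur_scalar ρC (ρ s) (by
    intro c v
    have h1 : (c : G) * s = s * c := hcomm c ⟨s, hs⟩
    have h2 : ρ s * ρ c = ρ c * ρ s := by rw [← map_mul, ← map_mul, h1]
    exact LinearMap.congr_fun h2 v)
  rw [← hχθ m, ← hχ1, ← h, hm, Representation.character, Representation.character]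
  congr 1
  have h3 : ρ n * ρ s = ρ s * ρ n := by
    rw [hω]
    ext v
    simp
  rw [map_mul, map_mul, map_mul, h3, mul_assoc (ρ _) (ρ (n : G)), ← map_mul ρ (n : G),
    mul_inv_cancel, map_one, mul_one, ← map_mul, mul_inv_cancel, map_one]

end Cfsg.Agent.H79
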