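import Cfsg.Agent.H79.AbelSyl

/-!
# The structure theorem for the principal block (S4709)
-/

set_option autoImplicit false
set_option linter.unusedSectionVars false
set_option linter.style.haveILetI false
set_option linter.unusedVariables false

namespace Cfsg.Agent.H79

open Cfsg Cfsg.Agent.CharBase Cfsg.Agent.Blk Cfsg.Agent.H25
open scoped ComplexConjugate

universe u

section main

variable {G : Type u} [Group G] [Finite G] {p m : ℕ} [Fact p.Prime] {M : Ideal AlgInt}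

open Classical in
theorem split_block [Fintype (IrrCharacter G)] {α : Type*} [AddCommMonoid α]
    (B : Set (IrrCharacter G)) {r : ℕ} (μ : Fin r → IrrCharacter G) (hinj : Function.Injective μ)
    (hmem : ∀ i, μ i ∈ B) (f : IrrCharacter G → α) :
    ∑ χ : IrrCharacter G, (if χ ∈ B then f χ else 0) =
      (∑ᶠ χ ∈ B \ Set.range μ, f χ) + ∑ i, f (μ i) := by
  rw [finsum_mem_def, finsum_eq_sum_of_fintype]
  have h1 : ∑ i, f (μ i) = ∑ χ : IrrCharacter G, (if χ ∈ Set.range μ then f χ else 0) := by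
    rw [← Finset.sum_filter]
    refine Finset.sum_bij (fun i _ => μ i) ?_ ?_ ?_ ?_
    · intro i _; simp
    · intro i _ j _ hij; exact hinj hij
    · intro χ hχ
      rw [Finset.mem_filter] at hχ
      obtain ⟨i, hi⟩ := hχ.2
      exact ⟨i, Finset.mem_univ _, hi⟩
    · intro i _; rfl
  rw [h1, ← Finset.sum_add_distrib]
  refine Finset.sum_congr rfl fun χ _ => ?_
  by_cases hχ : χ ∈ Set.range μ
  · have hB : χ ∈ B := by obtain ⟨i, rfl⟩ := hχ; exact hmem i
    rw [if_pos hB, if_pos hχ, Set.indicator_of_notMem (fun h => h.2 hχ), zero_add]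
  · rw [if_neg hχ, add_zero]
    by_cases hB : χ ∈ B
    · rw [if_pos hB, Set.indicator_of_mem (show χ ∈ B \ Set.range μ from ⟨hB, hχ⟩)]
    · rw [if_neg hB, Set.indicator_of_notMem (fun h => hB h.1)]

theorem principal_value_ne_zero (hM : IsPModular p M) {y : G}
    (hy : ¬ p ∣ (Subgroup.centralizer ({y} : Set G)).index) {χ : IrrCharacter G}
    (hχ : χ ∈ principalBlock M G) : (χ : G → ℂ) y ≠ 0 := by
  haveI := isPrime_of_isPModular hM
  intro h0
  have h1 : MemLocalIdeal M (centralChar (fun _ : G => (1 : ℂ)) y - centralChar (χ : G → ℂ) y) := hχ y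
  unfold centralChar at h1
  rw [h0, mul_zero, zero_div, sub_zero, mul_one, div_one, mli_natCast_iff hM] at h1
  exact hy h1

open Classical in
theorem cc_oneIrr {P : Subgroup G} (φ : P →* ℂˣ) :
    cc P (oneIrr G) φ = if φ = 1 then 1 else 0 := by
  have := Fintype.ofFinite P
  have hPc : (Nat.card P : ℂ) ≠ 0 := by exact_mod_cast (Nat.card_pos (α := P)).ne'
  have h1 := cc_spec (oneIrr G) φ
  rw [aCol_eq_sum] at h1
  have h2 : ∑ y : P, ((oneIrr G : IrrCharacter G) : G → ℂ) (y : G) * lin φ y⁻¹ =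
      ∑ y : P, ((φ⁻¹ y : ℂˣ) : ℂ) := by
    refine Finset.sum_congr rfl fun y _ => ?_
    change (1 : ℂ) * _ = _
    rw [one_mul, lin_apply, map_inv]; rfl
  have hinv : φ⁻¹ = 1 ↔ φ = 1 := by
    constructor
    · intro h3
      apply MonoidHom.ext; intro w
      have h4 : φ⁻¹ w = 1 := DFunLike.congr_fun h3 w
      have h5 : (φ w)⁻¹ = 1 := h4
      exact inv_eq_one.1 h5
    · rintro rfl
      apply MonoidHom.ext; intro w
      change ((1 : P →* ℂˣ) w)⁻¹ = 1
      simp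
  rw [h2, lin_sum_eq] at h1
  by_cases hφ : φ = 1
  · rw [if_pos hφ]
    rw [if_pos (hinv.2 hφ), inv_mul_cancel₀ hPc] at h1
    exact_mod_cast h1.symm
  · rw [if_neg hφ]
    rw [if_neg (fun h3 => hφ (hinv.1 h3)), mul_zero] at h1
    exact_mod_cast h1.symm

/-- the structure theorem -/
theorem structure_principal (hM : IsPModular p M) {P : Sylow p G}
    (h : FrobAb (P : Subgroup G) m) (hm2 : m + 1 < Nat.card P) :
    ∃ (r : ℕ) (ψ : Fin r → ((P : Subgroup G) →* ℂˣ)) (ε : ℤ) (μ : Fin r → IrrCharacter G) (d : ℤ)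
      (a : IrrCharacter G → ℤ), m * r + 1 = Nat.card P ∧ 2 ≤ r ∧ (∀ i, ψ i ≠ 1) ∧
      (∀ φ : (P : Subgroup G) →* ℂˣ, φ ≠ 1 → ∃ i, Rel φ (ψ i)) ∧
      (∀ i j, Rel (ψ i) (ψ j) → i = j) ∧ (ε = 1 ∨ ε = -1) ∧ Function.Injective μ ∧
      (∀ i, μ i ∈ principalBlock M G) ∧
      (∀ χ ∈ principalBlock M G \ Set.range μ, a χ ≠ 0 ∧ ∀ z y : G, IsPPart p z y →
        y ∈ (P : Subgroup G) → y ≠ 1 → (χ : G → ℂ) z = (a χ : ℂ)) ∧
      (∀ i, ∀ (z : G) (y : (P : Subgroup G)), IsPPart p z (y : G) → (y : G) ≠ 1 →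
        ((μ i : IrrCharacter G) : G → ℂ) z = (d : ℂ) + (ε : ℂ) * orbSum (ψ i) y) ∧
      ((d - ε) ^ 2 + ((r : ℤ) - 1) * d ^ 2 +
        ∑ᶠ χ ∈ principalBlock M G \ Set.range μ, a χ ^ 2 = (m : ℤ) + 1) ∧
      (∀ i j, ∀ g : G, ¬ p ∣ orderOf g →
        ((μ i : IrrCharacter G) : G → ℂ) g = ((μ j : IrrCharacter G) : G → ℂ) g) ∧
      (∀ i, ∀ g : G, ¬ p ∣ orderOf g → ((r : ℂ) * d - ε) * ((μ i : IrrCharacter G) : G → ℂ) g +
        ∑ᶠ χ ∈ principalBlock M G \ Set.range μ, (a χ : ℂ) * (χ : G → ℂ) g = 0) ∧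
      (∃ η : (P : Subgroup G) →* ℂˣ, η ≠ 1 ∧ ∀ χ : IrrCharacter G,
        (a χ : ℤ) = cc (P : Subgroup G) χ 1 - cc (P : Subgroup G) χ η) ∧
      (∀ i, (a (μ i)) = d - ε * (if (i : ℕ) = 0 then 1 else 0)) ∧
      oneIrr G ∈ principalBlock M G \ Set.range μ ∧ a (oneIrr G) = 1 := by
  classical
  haveI := isPrime_of_isPModular hM
  have := Fintype.ofFinite G
  have := Fintype.ofFinite (IrrCharacter G)
  have hS := AbSyl.of_sylow hM h
  obtain ⟨r, ψ, hr, hψ1, hψcov, hψinj⟩ := h.exists_reps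
  have hr2 : 2 ≤ r := by
    by_contra hcon
    have h1 : r ≤ 1 := by omega
    have h2 : m * r ≤ m * 1 := Nat.mul_le_mul_left m h1
    rw [← hr] at hm2
    omega
  obtain ⟨ε, μ, A, E, hε, hinj, hmem, hdiff, hA, hE⟩ := hS.core hM hr2 ψ hψ1 hψinj
  let i₀ : Fin r := ⟨0, by omega⟩
  set B := principalBlock M G with hB
  let a : IrrCharacter G → ℤ := fun χ => cc (P : Subgroup G) χ 1 - cc (P : Subgroup G) χ (ψ i₀)
  have haμ : ∀ i, a (μ i) = (A - E) - ε * (if i = i₀ then 1 else 0) := by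
    intro i
    change cc (P : Subgroup G) (μ i) 1 - cc (P : Subgroup G) (μ i) (ψ i₀) = _
    rw [hA, hE]; ring
  have hε0 : ε ≠ 0 := by rcases hε with h1 | h1 <;> rw [h1] <;> norm_num
  -- values
  have hval : ∀ χ ∈ B \ Set.range μ, ∀ y : (P : Subgroup G), y ≠ 1 →
      (χ : G → ℂ) y = (a χ : ℂ) := by
    intro χ hχ y hy
    refine value_of_const h.hab (c := cc (P : Subgroup G) χ (ψ i₀)) ?_ hy
    intro φ hφ
    obtain ⟨i, hi⟩ := hψcov φ hφ
    rw [cc_rel χ hi]
    have h1 := hdiff χ hχ.1 i i₀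
    rw [if_neg (fun h2 => hχ.2 ⟨i, h2.symm⟩), if_neg (fun h2 => hχ.2 ⟨i₀, h2.symm⟩)] at h1
    linarith
  have hvalμ : ∀ i, ∀ y : (P : Subgroup G), y ≠ 1 →
      ((μ i : IrrCharacter G) : G → ℂ) y = ((A - E : ℤ) : ℂ) + (ε : ℂ) * orbSum (ψ i) y := by
    intro i y hy
    refine value_of_exc h.hab (hψ1 i) (hA i) ?_ hy
    intro φ hφ
    obtain ⟨k, hk⟩ := hψcov φ hφ
    rw [cc_rel _ hk, hE]
    congr 2
    by_cases hik : i = k
    · subst hik
      rw [if_pos rfl, if_pos hk]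
    · rw [if_neg hik, if_neg]
      intro h2
      exact hik (hψinj _ _ (h2.symm.trans hk))
  have hcard2 : 1 < Nat.card (P : Subgroup G) := by
    have : 0 < m := h.m_pos
    have h3 : Nat.card P = Nat.card (P : Subgroup G) := rfl
    omega
  obtain ⟨y₀, hy₀⟩ : ∃ y : (P : Subgroup G), y ≠ 1 := by
    have := Finite.one_lt_card_iff_nontrivial.1 hcard2
    exact exists_ne 1
  have hreg : ∀ i j, ∀ g : G, ¬ p ∣ orderOf g →
      ((μ i : IrrCharacter G) : G → ℂ) g = ((μ j : IrrCharacter G) : G → ℂ) g := by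
    intro i j g hg
    have h1 := hS.reg hM (ψ i) (ψ j) hg
    have h2 : ∀ χ : IrrCharacter G, (if χ ∈ principalBlock M G then
        ((cc (P : Subgroup G) χ (ψ i) - cc (P : Subgroup G) χ (ψ j) : ℤ) : ℂ) * (χ : G → ℂ) g else 0) =
        (if χ = μ i then (ε : ℂ) * (χ : G → ℂ) g else 0) -
          (if χ = μ j then (ε : ℂ) * (χ : G → ℂ) g else 0) := by
      intro χ
      by_cases hχ : χ ∈ B
      · rw [if_pos hχ, hdiff χ hχ]
        split_ifs <;> push_cast <;> ring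
      · rw [if_neg hχ, if_neg (show ¬ χ = μ i from fun h2 => hχ (by rw [h2]; exact hmem i)),
          if_neg (show ¬ χ = μ j from fun h2 => hχ (by rw [h2]; exact hmem j)), sub_self]
    rw [Finset.sum_congr rfl (fun χ _ => h2 χ), Finset.sum_sub_distrib, Finset.sum_ite_eq',
      Finset.sum_ite_eq', if_pos (Finset.mem_univ _), if_pos (Finset.mem_univ _), ← mul_sub] at h1
    have hεc : (ε : ℂ) ≠ 0 := by exact_mod_cast hε0
    exact sub_eq_zero.1 ((mul_eq_zero.1 h1).resolve_left hεc)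
  refine ⟨r, ψ, ε, μ, A - E, a, hr, hr2, hψ1, hψcov, hψinj, hε, hinj, hmem, ?_, ?_, ?_, hreg, ?_,
    ⟨ψ i₀, hψ1 i₀, fun χ => rfl⟩, ?_, ⟨oneIrr_mem_principalBlock, ?_⟩, ?_⟩
  · intro χ hχ
    constructor
    · intro h0
      refine principal_value_ne_zero (G := G) hM (y := (y₀ : G)) ?_ hχ.1 ?_
      · have hle : (P : Subgroup G) ≤ Subgroup.centralizer ({(y₀ : G)} : Set G) := by
          intro x hx
          rw [Subgroup.mem_centralizer_singleton_iff]
          exact h.hab x hx y₀ y₀.2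
        intro hd
        exact P.not_dvd_index (hd.trans (Subgroup.index_dvd_of_le hle))
      · rw [hval χ hχ y₀ hy₀, h0, Int.cast_zero]
    · intro z y hz hy hy1
      rw [hS.sect y hy hy1 z hz χ hχ.1]
      exact hval χ hχ ⟨y, hy⟩ (fun h2 => hy1 (congrArg Subtype.val h2))
  · intro i z y hz hy1
    rw [hS.sect y y.2 hy1 z hz (μ i) (hmem i)]
    exact hvalμ i y (fun h2 => hy1 (congrArg Subtype.val h2))
  · -- the sum of squares
    have h1 := hS.gram hM 1 (ψ i₀) 1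
    have h2 := hS.gram hM 1 (ψ i₀) (ψ i₀)
    have hj : jj m (1 : (P : Subgroup G) →* ℂˣ) 1 = m ∧ jj m (ψ i₀) 1 = 0 ∧
        jj m 1 (ψ i₀) = 0 ∧ jj m (ψ i₀) (ψ i₀) = 1 := by
      unfold jj
      refine ⟨by rw [if_pos rfl, if_pos rfl], by rw [if_pos rfl, if_neg (hψ1 _)], ?_, ?_⟩
      · rw [if_neg (hψ1 _), if_neg]
        intro h3
        exact h3.ne_one (hψ1 i₀) rfl
      · rw [if_neg (hψ1 _), if_pos (Rel.refl _)]
    rw [hj.1, hj.2.1] at h1
    rw [hj.2.2.1, hj.2.2.2] at h2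
    have h3 : ∑ χ : IrrCharacter G, (if χ ∈ B then a χ ^ 2 else 0) = (m : ℤ) + 1 := by
      have h4 : ∑ χ : IrrCharacter G, (if χ ∈ B then a χ ^ 2 else 0) = ((m : ℤ) - 0) - (0 - 1) := by
        rw [← h1, ← h2, ← Finset.sum_sub_distrib]
        refine Finset.sum_congr rfl fun χ _ => ?_
        change (if χ ∈ B then
          (cc (P : Subgroup G) χ 1 - cc (P : Subgroup G) χ (ψ i₀)) ^ 2 else 0) = _
        split_ifs
        · ring
        · simp
      rw [h4]; ring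
    rw [split_block B μ hinj hmem] at h3
    have h5 : ∑ i, a (μ i) ^ 2 = ((A - E) - ε) ^ 2 + ((r : ℤ) - 1) * (A - E) ^ 2 := by
      have h6 : ∀ i, a (μ i) ^ 2 = (A - E) ^ 2 + (if i = i₀ then ((A - E) - ε) ^ 2 - (A - E) ^ 2 else 0) := by
        intro i
        rw [haμ]
        split_ifs <;> ring
      rw [Finset.sum_congr rfl (fun i _ => h6 i), Finset.sum_add_distrib, Finset.sum_const,
        Finset.sum_ite_eq', if_pos (Finset.mem_univ _), Finset.card_univ, Fintype.card_fin,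
        nsmul_eq_mul]
      ring
    rw [h5] at h3
    linarith
  · intro i g hg
    have h1 := hS.reg hM 1 (ψ i₀) hg
    have h2 := split_block B μ hinj hmem (fun χ => (a χ : ℂ) * (χ : G → ℂ) g)
    have h3 : ∑ χ : IrrCharacter G, (if χ ∈ B then (a χ : ℂ) * (χ : G → ℂ) g else 0) = 0 := h1
    rw [h3] at h2
    have h5 : ∑ j, (a (μ j) : ℂ) * ((μ j : IrrCharacter G) : G → ℂ) g =
        ((r : ℂ) * ((A - E : ℤ) : ℂ) - ε) * ((μ i : IrrCharacter G) : G → ℂ) g := by
      have h6 : ∀ j, (a (μ j) : ℂ) * ((μ j : IrrCharacter G) : G → ℂ) g =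
          ((A - E : ℤ) : ℂ) * ((μ i : IrrCharacter G) : G → ℂ) g -
            (if j = i₀ then (ε : ℂ) * ((μ i : IrrCharacter G) : G → ℂ) g else 0) := by
        intro j
        rw [haμ, hreg j i g hg]
        split_ifs <;> push_cast <;> ring
      rw [Finset.sum_congr rfl (fun i _ => h6 i), Finset.sum_sub_distrib, Finset.sum_const,
        Finset.sum_ite_eq', if_pos (Finset.mem_univ _), Finset.card_univ, Fintype.card_fin,
        nsmul_eq_mul]
      ring
    rw [h5] at h2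
    rw [h2]; ring
  · intro i
    rw [haμ]
    congr 2
    by_cases hi : i = i₀
    · rw [if_pos hi, if_pos (by rw [hi])]
    · rw [if_neg hi, if_neg (fun h2 => hi (Fin.ext h2))]
  · rintro ⟨i, hi⟩
    let i₁ : Fin r := ⟨1, by omega⟩
    have h01 : i₁ ≠ i₀ := by
      intro h1
      have := congrArg Fin.val h1
      simp [i₁, i₀] at this
    have h1 := hE i i₀
    have h2 := hE i i₁
    rw [hi, cc_oneIrr, if_neg (hψ1 _)] at h1 h2
    have h3 : ∃ k, hE i k = hE i k ∧ k ≠ i := by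
      by_cases h4 : i = i₀
      · exact ⟨i₁, rfl, by rw [h4]; exact h01⟩
      · exact ⟨i₀, rfl, fun h5 => h4 h5.symm⟩
    obtain ⟨k, -, hk⟩ := h3
    have h4 := hE i k
    have h5 := hE i i
    rw [hi, cc_oneIrr, if_neg (hψ1 _), if_neg (fun h6 => hk h6.symm)] at h4
    rw [hi, cc_oneIrr, if_neg (hψ1 _), if_pos rfl] at h5
    apply hε0
    linarith
  · change cc (P : Subgroup G) (oneIrr G) 1 - cc (P : Subgroup G) (oneIrr G) (ψ i₀) = 1
    rw [cc_oneIrr, cc_oneIrr, if_pos rfl, if_neg (hψ1 _)]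
    norm_num

end main

end Cfsg.Agent.H79
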