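import Mathlib

/-!
Piece AB of S3930: a finite group whose involutions (with 1) form a normal subgroup `E` of order `8`, with
`C_G(E)` an abelian 2-group and all automorphisms of `E` induced, does not exist.
-/

universe u

open scoped commutatorElement

namespace Cfsg.Agent.H79.PyrAB

section Core

variable {a : ℕ} {M : Type*} [AddCommGroup M] [Module (ZMod (2 ^ a)) M]

theorem ptor (x : M) : (2 ^ a : ℕ) • x = 0 := by
  have h : ((2 ^ a : ℕ) : ZMod (2 ^ a)) • x = (2 ^ a : ℕ) • x := Nat.cast_smul_eq_nsmul _ _ _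
  rw [← h, ZMod.natCast_self, zero_smul]

theorem indepN (v0 v1 v2 : M) (ha : 1 ≤ a)
    (hind : ∀ i j k : ℕ, (2 ^ (a - 1) : ℕ) • (i • v0 + j • v1 + k • v2) = 0 → 2 ∣ i ∧ 2 ∣ j ∧ 2 ∣ k)
    (i j k : ℕ) (h : i • v0 + j • v1 + k • v2 = 0) :
    ∀ s, s ≤ a → 2 ^ s ∣ i ∧ 2 ^ s ∣ j ∧ 2 ^ s ∣ k := by
  intro s
  induction s with
  | zero => intro _; simp
  | succ s ih =>
    intro hs
    obtain ⟨⟨i', hi⟩, ⟨j', hj⟩, ⟨k', hk⟩⟩ := ih (by omega)
    have h2 : (2 ^ (a - 1) : ℕ) • (i' • v0 + j' • v1 + k' • v2) = 0 := by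
      have e : (2 ^ (a - 1) : ℕ) = 2 ^ (a - 1 - s) * 2 ^ s := by
        rw [← pow_add]; congr 1; omega
      rw [e, mul_smul]
      have : (2 ^ s : ℕ) • (i' • v0 + j' • v1 + k' • v2) = i • v0 + j • v1 + k • v2 := by
        rw [hi, hj, hk, smul_add, smul_add, smul_smul, smul_smul, smul_smul]
      rw [this, h, smul_zero]
    obtain ⟨⟨i2, hi2⟩, ⟨j2, hj2⟩, ⟨k2, hk2⟩⟩ := hind _ _ _ h2
    refine ⟨⟨i2, ?_⟩, ⟨j2, ?_⟩, ⟨k2, ?_⟩⟩
    · rw [hi, hi2]; ring
    · rw [hj, hj2]; ring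
    · rw [hk, hk2]; ring

theorem smul_val [NeZero (2 ^ a)] (r : ZMod (2 ^ a)) (x : M) : r • x = r.val • x := by
  conv_lhs => rw [← ZMod.natCast_zmod_val r]
  exact Nat.cast_smul_eq_nsmul _ _ _

theorem indepR (v0 v1 v2 : M) (ha : 1 ≤ a)
    (hind : ∀ i j k : ℕ, (2 ^ (a - 1) : ℕ) • (i • v0 + j • v1 + k • v2) = 0 → 2 ∣ i ∧ 2 ∣ j ∧ 2 ∣ k)
    (r s t : ZMod (2 ^ a)) (h : r • v0 + s • v1 + t • v2 = 0) : r = 0 ∧ s = 0 ∧ t = 0 := by
  haveI : NeZero (2 ^ a) := ⟨by positivity⟩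
  rw [smul_val, smul_val, smul_val] at h
  obtain ⟨h0, h1, h2⟩ := indepN v0 v1 v2 ha hind _ _ _ h a le_rfl
  refine ⟨?_, ?_, ?_⟩
  · exact (ZMod.val_eq_zero r).1 (Nat.eq_zero_of_dvd_of_lt h0 (ZMod.val_lt r))
  · exact (ZMod.val_eq_zero s).1 (Nat.eq_zero_of_dvd_of_lt h1 (ZMod.val_lt s))
  · exact (ZMod.val_eq_zero t).1 (Nat.eq_zero_of_dvd_of_lt h2 (ZMod.val_lt t))

theorem spanN (v0 v1 v2 : M) (ha : 1 ≤ a)
    (hsp : ∀ x : M, (2 : ℕ) • x = 0 → ∃ i j k : ℕ, x = (2 ^ (a - 1) : ℕ) • (i • v0 + j • v1 + k • v2)) :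
    ∀ s, s ≤ a → ∀ x : M, (2 ^ s : ℕ) • x = 0 →
      ∃ r t w : ZMod (2 ^ a), x = r • v0 + t • v1 + w • v2 := by
  intro s
  induction s with
  | zero =>
    intro _ x hx
    refine ⟨0, 0, 0, ?_⟩
    simp at hx
    simp [hx]
  | succ s ih =>
    intro hs x hx
    have h2 : (2 : ℕ) • ((2 ^ s : ℕ) • x) = 0 := by
      rw [smul_smul, ← pow_succ']; exact hx
    obtain ⟨i, j, k, h3⟩ := hsp _ h2
    have e : (2 ^ (a - 1) : ℕ) = 2 ^ s * 2 ^ (a - 1 - s) := by
      rw [← pow_add]; congr 1; omega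
    have h4 : (2 ^ s : ℕ) • (x - (2 ^ (a - 1 - s) : ℕ) • (i • v0 + j • v1 + k • v2)) = 0 := by
      rw [smul_sub, smul_smul, ← e, h3, sub_self]
    obtain ⟨r, t, w, h5⟩ := ih (by omega) _ h4
    refine ⟨r + ((2 ^ (a - 1 - s) * i : ℕ) : ZMod (2 ^ a)), t + ((2 ^ (a - 1 - s) * j : ℕ) : ZMod (2 ^ a)),
      w + ((2 ^ (a - 1 - s) * k : ℕ) : ZMod (2 ^ a)), ?_⟩
    rw [add_smul, add_smul, add_smul, Nat.cast_smul_eq_nsmul, Nat.cast_smul_eq_nsmul,
      Nat.cast_smul_eq_nsmul]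
    have h6 : x = (r • v0 + t • v1 + w • v2) + (2 ^ (a - 1 - s) : ℕ) • (i • v0 + j • v1 + k • v2) := by
      rw [← h5]; abel
    rw [h6, smul_add, smul_add, smul_smul, smul_smul, smul_smul]
    abel

theorem core (ha : 1 ≤ a) (U : M →ₗ[ZMod (2 ^ a)] M) (hdet : LinearMap.det U = 1) (v : M)
    (hU : ∀ x, U (U (U (U x))) = x)
    (hind : ∀ i j k : ℕ, (2 ^ (a - 1) : ℕ) • (i • v + j • U v + k • U (U v)) = 0 → 2 ∣ i ∧ 2 ∣ j ∧ 2 ∣ k)
    (hsp : ∀ x : M, (2 : ℕ) • x = 0 →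
      ∃ i j k : ℕ, x = (2 ^ (a - 1) : ℕ) • (i • v + j • U v + k • U (U v)))
    (x : M) (hx : U x = x) : ∃ y, x = y + U (U y) := by
  classical
  have hI := indepR v (U v) (U (U v)) ha hind
  have hS : ∀ x : M, ∃ r s t : ZMod (2 ^ a), x = r • v + s • U v + t • U (U v) := fun x =>
    spanN v (U v) (U (U v)) ha hsp a le_rfl x (ptor x)
  have hli : LinearIndependent (ZMod (2 ^ a)) ![v, U v, U (U v)] := by
    rw [Fintype.linearIndependent_iff]
    intro g hg
    rw [Fin.sum_univ_three] at hg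
    have := hI (g 0) (g 1) (g 2) hg
    intro i
    fin_cases i
    · exact this.1
    · exact this.2.1
    · exact this.2.2
  have htop : ⊤ ≤ Submodule.span (ZMod (2 ^ a)) (Set.range ![v, U v, U (U v)]) := by
    intro x _
    obtain ⟨r, s, t, h⟩ := hS x
    rw [h]
    refine Submodule.add_mem _ (Submodule.add_mem _ ?_ ?_) ?_
    · exact Submodule.smul_mem _ _ (Submodule.subset_span ⟨0, rfl⟩)
    · exact Submodule.smul_mem _ _ (Submodule.subset_span ⟨1, rfl⟩)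
    · exact Submodule.smul_mem _ _ (Submodule.subset_span ⟨2, rfl⟩)
  let b : Module.Basis (Fin 3) (ZMod (2 ^ a)) M := Module.Basis.mk hli htop
  have b0 : b 0 = v := by simp [b, Module.Basis.mk_apply]
  have b1 : b 1 = U v := by simp [b, Module.Basis.mk_apply]
  have b2 : b 2 = U (U v) := by simp [b, Module.Basis.mk_apply]
  obtain ⟨al, be, ga, h3⟩ := hS (U (U (U v)))
  have hdetm : (LinearMap.toMatrix b b U).det = 1 := by rw [LinearMap.det_toMatrix, hdet]
  have hal : al = 1 := by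
    have c0 : U (b 0) = b 1 := by rw [b0, b1]
    have c1 : U (b 1) = b 2 := by rw [b1, b2]
    have c2 : U (b 2) = al • b 0 + be • b 1 + ga • b 2 := by rw [b2, h3, b0, b1]
    rw [Matrix.det_fin_three] at hdetm
    simp only [LinearMap.toMatrix_apply, c0, c1, c2, map_add, map_smul, Module.Basis.repr_self] at hdetm
    simpa using hdetm
  subst hal
  have h4 := hU v
  rw [h3] at h4
  simp only [map_add, map_smul] at h4
  rw [h3] at h4
  have h5 : (ga - 1) • v + (1 + be * 0 + ga * be) • U v + (be + ga * ga) • U (U v) = 0 := by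
    have : (ga - 1) • v + (1 + be * 0 + ga * be) • U v + (be + ga * ga) • U (U v) =
        ((1 : ZMod (2 ^ a)) • U v + be • U (U v) + ga • ((1 : ZMod (2 ^ a)) • v + be • U v + ga • U (U v))) - v := by
      module
    rw [this, h4, sub_self]
  obtain ⟨h6, h7, h8⟩ := hI _ _ _ h5
  have hga : ga = 1 := by linear_combination h6
  subst hga
  have hbe : be = -1 := by linear_combination h7
  subst hbe
  obtain ⟨r, s, t, hr⟩ := hS x
  have h9 : (t - r) • v + (r - t - s) • U v + (s + t - t) • U (U v) = 0 := by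
    have h10 : U x - x = 0 := by rw [hx, sub_self]
    rw [hr] at h10
    simp only [map_add, map_smul, h3] at h10
    rw [← h10]
    module
  obtain ⟨h11, h12, h13⟩ := hI _ _ _ h9
  have e1 : s = 0 := by linear_combination h13
  have e2 : t = r := by linear_combination h11
  subst e1 e2
  refine ⟨t • v, ?_⟩
  rw [hr, map_smul, map_smul]
  module

end Core

section Core2

theorem core1 {G M : Type*} [Group G] [AddCommGroup M] (a : ℕ) [Module (ZMod (2 ^ a)) M]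
    (c : G → M → M) (c1 : ∀ x, c 1 x = x)
    (cm : ∀ k l x, c (k * l) x = c k (c l x)) (ca : ∀ k x y, c k (x + y) = c k x + c k y)
    (ha : 1 ≤ a) (g h U : G)
    (hUc : U = ⁅g, h⁆) (v : M)
    (hU : ∀ x, c U (c U (c U (c U x))) = x)
    (hind : ∀ i j k : ℕ, (2 ^ (a - 1) : ℕ) • (i • v + j • (c U v) + k • (c U (c U v))) = 0 →
      2 ∣ i ∧ 2 ∣ j ∧ 2 ∣ k)
    (hsp : ∀ x : M, (2 : ℕ) • x = 0 → ∃ i j k : ℕ,
      x = (2 ^ (a - 1) : ℕ) • (i • v + j • (c U v) + k • (c U (c U v))))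
    (x : M) (hx : c U x = x) : ∃ y : M, x = y + c U (c U y) := by
  classical
  let L : G → (M →ₗ[ZMod (2 ^ a)] M) := fun k =>
    AddMonoidHom.toZModLinearMap (2 ^ a) (AddMonoidHom.mk' (c k) (ca k))
  have hL : ∀ (k : G) (x : M), (L k) x = c k x := fun k x => rfl
  have hL1 : L 1 = LinearMap.id := by
    refine LinearMap.ext fun x => ?_
    rw [hL, c1]
    rfl
  have hLm : ∀ k l : G, L (k * l) = (L k).comp (L l) := by
    intro k l
    refine LinearMap.ext fun x => ?_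
    rw [LinearMap.comp_apply, hL, hL, hL, cm]
  let D : G →* ZMod (2 ^ a) :=
    { toFun := fun k => LinearMap.det (L k)
      map_one' := by rw [hL1]; exact LinearMap.det_id
      map_mul' := fun k l => by rw [hLm]; exact LinearMap.det_comp _ _ }
  have hD : D U = 1 := by
    have h1 : D g * D g⁻¹ = 1 := by rw [← map_mul, mul_inv_cancel, map_one]
    have h2 : D h * D h⁻¹ = 1 := by rw [← map_mul, mul_inv_cancel, map_one]
    rw [hUc, commutatorElement_def, map_mul, map_mul, map_mul]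
    calc D g * D h * D g⁻¹ * D h⁻¹ = (D g * D g⁻¹) * (D h * D h⁻¹) := by ring
      _ = 1 := by rw [h1, h2, one_mul]
  exact core (a := a) (M := M) ha (L U) hD v hU hind hsp x hx

theorem core2 {G Q : Type*} [Group G] [CommGroup Q]
    (c : G →* MulAut Q) (a : ℕ) (ha : 1 ≤ a) (hexp : ∀ x : Q, x ^ (2 ^ a) = 1) (g h U : G)
    (hUc : U = ⁅g, h⁆) (v : Q)
    (hU : ∀ x, c U (c U (c U (c U x))) = x)
    (hind : ∀ i j k : ℕ, (v ^ i * (c U v) ^ j * (c U (c U v)) ^ k) ^ (2 ^ (a - 1)) = 1 →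
      2 ∣ i ∧ 2 ∣ j ∧ 2 ∣ k)
    (hsp : ∀ x : Q, x ^ 2 = 1 → ∃ i j k : ℕ,
      x = (v ^ i * (c U v) ^ j * (c U (c U v)) ^ k) ^ (2 ^ (a - 1)))
    (x : Q) (hx : c U x = x) : ∃ y : Q, x = y * c U (c U y) := by
  letI : Module (ZMod (2 ^ a)) (Additive Q) := AddCommGroup.zmodModule (n := 2 ^ a)
    (fun x => hexp (Additive.toMul x))
  exact core1 (G := G) (M := Additive Q) a (fun k x => Additive.ofMul (c k (Additive.toMul x)))
    (fun x => by rw [map_one]; rfl) (fun k l x => by rw [map_mul]; rfl)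
    (fun k x y => map_mul (c k) (Additive.toMul x) (Additive.toMul y)) ha g h U hUc (Additive.ofMul v) (fun x => hU (Additive.toMul x))
    (fun i j k hh => hind i j k hh) (fun x hx2 => hsp (Additive.toMul x) hx2) (Additive.ofMul x) hx

end Core2

section Choice

def tr {E W : Type*} [Group E] [AddCommGroup W] (f : E ≃ W) (hf : ∀ x y, f (x * y) = f x + f y) (φ : W ≃+ W) :
    MulAut E where
  toFun x := f.symm (φ (f x))
  invFun x := f.symm (φ.symm (f x))
  left_inv x := by simp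
  right_inv x := by simp
  map_mul' x y := by apply f.injective; simp [hf]

theorem tr_apply {E W : Type*} [Group E] [AddCommGroup W] (f : E ≃ W) (hf : ∀ x y, f (x * y) = f x + f y)
    (φ : W ≃+ W) (x : E) : f (tr f hf φ x) = φ (f x) := by
  simp [tr]

theorem tr_inv_apply {E W : Type*} [Group E] [AddCommGroup W] (f : E ≃ W) (hf : ∀ x y, f (x * y) = f x + f y)
    (φ : W ≃+ W) (x : E) : f ((tr f hf φ)⁻¹ x) = φ.symm (f x) := by
  change f (f.symm (φ.symm (f x))) = _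
  simp

def pA : (Fin 3 → ZMod 2) ≃+ (Fin 3 → ZMod 2) where
  toFun w := ![w 2, w 1, w 0]
  invFun w := ![w 2, w 1, w 0]
  left_inv := by decide
  right_inv := by decide
  map_add' := by decide

def pB : (Fin 3 → ZMod 2) ≃+ (Fin 3 → ZMod 2) where
  toFun w := ![w 2, w 0 + w 1, w 1]
  invFun w := ![w 1 + w 2, w 2, w 0]
  left_inv := by decide
  right_inv := by decide
  map_add' := by decide

theorem pB_trans : ∀ w w' : Fin 3 → ZMod 2, w ≠ 0 → w' ≠ 0 → ∃ n : Fin 7, pB^[n] w = w' := by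
  decide +kernel

def pU (w : Fin 3 → ZMod 2) : Fin 3 → ZMod 2 := pA (pB (pA.symm (pB.symm w)))

theorem pU4 : ∀ w, pU (pU (pU (pU w))) = w := by decide

theorem exists_aut {E : Type*} [Group E] [Finite E] (hE : ∀ x : E, x * x = 1) (h8 : Nat.card E = 8) :
    ∃ (α β : MulAut E) (e : E),
      (∀ x, (⁅α, β⁆ (⁅α, β⁆ (⁅α, β⁆ (⁅α, β⁆ x)))) = x) ∧
      (∀ x : E, ∃ i j k : ℕ, x = e ^ i * (⁅α, β⁆ e) ^ j * (⁅α, β⁆ (⁅α, β⁆ e)) ^ k) ∧
      (∀ i j k : ℕ, e ^ i * (⁅α, β⁆ e) ^ j * (⁅α, β⁆ (⁅α, β⁆ e)) ^ k = 1 → 2 ∣ i ∧ 2 ∣ j ∧ 2 ∣ k) ∧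
      (∀ x y : E, x ≠ 1 → y ≠ 1 → ∃ γ : MulAut E, γ x = y) := by
  classical
  have hcomm : ∀ x y : E, x * y = y * x := by
    intro x y
    have h1 := hE (x * y)
    have h2 := hE x
    have h3 := hE y
    have hx : x⁻¹ = x := inv_eq_of_mul_eq_one_right h2
    have hy : y⁻¹ = y := inv_eq_of_mul_eq_one_right h3
    have := inv_eq_of_mul_eq_one_right h1
    rw [mul_inv_rev, hx, hy] at this
    exact this.symm
  letI : CommGroup E := { (inferInstance : Group E) with mul_comm := hcomm }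
  letI : Module (ZMod 2) (Additive E) := AddCommGroup.zmodModule (n := 2)
    (fun x => by rw [two_nsmul]; exact hE (Additive.toMul x))
  have hfr : Module.finrank (ZMod 2) (Additive E) = 3 := by
    have h := Module.natCard_eq_pow_finrank (K := ZMod 2) (V := Additive E)
    have h' : Nat.card (Additive E) = 8 := h8
    rw [h', Nat.card_zmod] at h
    have : (2 : ℕ) ^ 3 = 2 ^ Module.finrank (ZMod 2) (Additive E) := by rw [← h]; norm_num
    exact (Nat.pow_right_injective le_rfl this).symm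
  let b := Module.finBasisOfFinrankEq (ZMod 2) (Additive E) hfr
  let f : E ≃ (Fin 3 → ZMod 2) := Additive.ofMul.trans b.equivFun.toEquiv
  have hf : ∀ x y, f (x * y) = f x + f y := fun x y => map_add b.equivFun (Additive.ofMul x) (Additive.ofMul y)
  have hf1 : f 1 = 0 := map_zero b.equivFun
  have hfp : ∀ (x : E) (n : ℕ), f (x ^ n) = n • f x := fun x n =>
    map_nsmul b.equivFun n (Additive.ofMul x)
  have hu : ∀ x, f (⁅tr f hf pA, tr f hf pB⁆ x) = pU (f x) := by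
    intro x
    rw [commutatorElement_def]
    simp only [MulAut.mul_apply, tr_apply, tr_inv_apply]
    rfl
  refine ⟨tr f hf pA, tr f hf pB, f.symm ![1, 0, 0], ?_, ?_, ?_, ?_⟩
  · intro x
    apply f.injective
    rw [hu, hu, hu, hu, pU4]
  · intro x
    refine ⟨(f x 0).val, (f x 1).val, (f x 2).val, ?_⟩
    apply f.injective
    rw [hf, hf, hfp, hfp, hfp, hu, hu, hu, Equiv.apply_symm_apply]
    generalize f x = w
    revert w
    decide
  · intro i j k h
    have h1 := congrArg f h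
    rw [hf, hf, hfp, hfp, hfp, hu, hu, hu, Equiv.apply_symm_apply, hf1] at h1
    have e1 : pU ![1, 0, 0] = ![0, 1, 0] := by decide
    have e2 : pU ![0, 1, 0] = ![0, 0, 1] := by decide
    rw [e1, e2] at h1
    have g0 := congrFun h1 0
    have g1 := congrFun h1 1
    have g2 := congrFun h1 2
    simp at g0 g1 g2
    exact ⟨(ZMod.natCast_eq_zero_iff i 2).1 g0, (ZMod.natCast_eq_zero_iff j 2).1 g1,
      (ZMod.natCast_eq_zero_iff k 2).1 g2⟩
  · intro x y hx hy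
    have hx' : f x ≠ 0 := fun h => hx (f.injective (h.trans hf1.symm))
    have hy' : f y ≠ 0 := fun h => hy (f.injective (h.trans hf1.symm))
    obtain ⟨n, hn⟩ := pB_trans (f x) (f y) hx' hy'
    refine ⟨(tr f hf pB) ^ (n : ℕ), ?_⟩
    apply f.injective
    rw [← hn]
    generalize (n : ℕ) = m
    clear hn
    induction m with
    | zero => simp
    | succ m ih =>
      rw [pow_succ', MulAut.mul_apply, tr_apply, ih, Function.iterate_succ_apply']

end Choice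

theorem ab {G : Type u} [Group G] [Finite G] (E : Subgroup G) [E.Normal]
    (hE : ∀ x : G, x ∈ E ↔ x * x = 1) (h8 : Nat.card E = 8)
    (hQ : IsPGroup 2 (Subgroup.centralizer (E : Set G)))
    (hA : ∀ φ : E ≃* E, ∃ g : G, ∀ v : E, g * v * g⁻¹ = (φ v : G))
    (hab : ∀ x ∈ Subgroup.centralizer (E : Set G), ∀ y ∈ Subgroup.centralizer (E : Set G), x * y = y * x) :
    False := by
  classical
  obtain ⟨α, β, e, h4, hsp, hind, htr⟩ := exists_aut (E := E)
    (fun x => Subtype.ext ((hE x).1 x.2)) h8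
  obtain ⟨g, hg⟩ := hA α
  obtain ⟨h, hh⟩ := hA β
  set Q : Subgroup G := Subgroup.centralizer (E : Set G) with hQdef
  haveI hQn : Q.Normal := inferInstance
  have hEQ : E ≤ Q := by
    intro x hx
    rw [hQdef, Subgroup.mem_centralizer_iff]
    intro y hy
    have h1 := (hE (x * y)).1 (E.mul_mem hx hy)
    have hx' : x⁻¹ = x := inv_eq_of_mul_eq_one_right ((hE x).1 hx)
    have hy' : y⁻¹ = y := inv_eq_of_mul_eq_one_right ((hE y).1 hy)
    have := inv_eq_of_mul_eq_one_right h1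
    rw [mul_inv_rev, hx', hy'] at this
    exact this
  -- the action on E
  have hρg : MulAut.conjNormal (H := E) g = α := by
    ext v; rw [MulAut.conjNormal_apply]; exact hg v
  have hρh : MulAut.conjNormal (H := E) h = β := by
    ext v; rw [MulAut.conjNormal_apply]; exact hh v
  obtain ⟨U, hUdef⟩ : ∃ U, U = ⁅g, h⁆ := ⟨_, rfl⟩
  have hρ : MulAut.conjNormal (H := E) U = ⁅α, β⁆ := by
    rw [hUdef, map_commutatorElement, hρg, hρh]
  have hρ' : ∀ v : E, U * (v : G) * U⁻¹ = ((⁅α, β⁆ v : E) : G) := by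
    intro v; rw [← hρ, MulAut.conjNormal_apply]
  -- exponent
  have hex : ∃ n : ℕ, ∀ x ∈ Q, x ^ (2 ^ n) = 1 := by
    obtain ⟨n, hn⟩ := IsPGroup.iff_card.1 hQ
    refine ⟨n, fun x hx => ?_⟩
    have := pow_card_eq_one' (x := (⟨x, hx⟩ : Q))
    rw [hn] at this
    simpa using congrArg Subtype.val this
  obtain ⟨a, hafind⟩ : ∃ a, a = Nat.find hex := ⟨_, rfl⟩
  have haexp : ∀ x ∈ Q, x ^ (2 ^ a) = 1 := by rw [hafind]; exact Nat.find_spec hex
  have hne : e ≠ 1 := by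
    intro he
    have := hind 1 0 0 (by simp [he])
    omega
  have ha1 : 1 ≤ a := by
    rcases Nat.eq_zero_or_pos a with h0 | h0
    · exfalso
      rw [h0] at haexp
      exact hne (Subtype.ext (by simpa using haexp e (hEQ e.2)))
    · exact h0
  obtain ⟨x0, hx0Q, hx0⟩ : ∃ x ∈ Q, x ^ (2 ^ (a - 1)) ≠ 1 := by
    have := Nat.find_min hex (m := a - 1) (by omega)
    simp only [not_forall] at this
    obtain ⟨x, hx, hx2⟩ := this
    exact ⟨x, hx, hx2⟩
  have hpow : (2 : ℕ) ^ a = 2 ^ (a - 1) * 2 := by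
    rw [← pow_succ]; congr 1; omega
  have hx0E : x0 ^ (2 ^ (a - 1)) ∈ E := by
    rw [hE, ← pow_two, ← pow_mul, ← hpow]
    exact haexp x0 hx0Q
  -- 2^(a-1)-th powers give all of E
  have hroot : ∀ y : E, ∃ x ∈ Q, x ^ (2 ^ (a - 1)) = (y : G) := by
    intro y
    by_cases hy : y = 1
    · exact ⟨1, Q.one_mem, by simp [hy]⟩
    obtain ⟨γ, hγ⟩ := htr ⟨x0 ^ (2 ^ (a - 1)), hx0E⟩ y (fun h => hx0 (congrArg Subtype.val h)) hy
    obtain ⟨k, hk⟩ := hA γ
    refine ⟨k * x0 * k⁻¹, hQn.conj_mem _ hx0Q _, ?_⟩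
    rw [conj_pow, hk ⟨x0 ^ (2 ^ (a - 1)), hx0E⟩, hγ]
  obtain ⟨v, hvQ, hv⟩ := hroot e
  letI : CommGroup Q := { (inferInstance : Group Q) with mul_comm := fun x y => Subtype.ext (hab x x.2 y y.2) }
  let c : G →* MulAut Q := MulAut.conjNormal (H := Q)
  have hc : ∀ (k : G) (x : Q), ((c k x : Q) : G) = k * x * k⁻¹ := fun k x => MulAut.conjNormal_apply k x
  -- U^4 is in Q
  have hU4 : U * U * U * U ∈ Q := by
    rw [hQdef, Subgroup.mem_centralizer_iff]
    intro y hy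
    have h5 := h4 ⟨y, hy⟩
    have h6 : U * (U * (U * (U * y * U⁻¹) * U⁻¹) * U⁻¹) * U⁻¹ = y := by
      rw [hρ' ⟨y, hy⟩, hρ', hρ', hρ', h5]
    calc y * (U * U * U * U) = (U * (U * (U * (U * y * U⁻¹) * U⁻¹) * U⁻¹) * U⁻¹) * (U * U * U * U) := by rw [h6]
      _ = U * U * U * U * y := by group
  have hcU4 : ∀ x : Q, c U (c U (c U (c U x))) = x := by
    intro x
    apply Subtype.ext
    rw [hc, hc, hc, hc]
    have := hab _ hU4 x x.2
    calc U * (U * (U * (U * (x : G) * U⁻¹) * U⁻¹) * U⁻¹) * U⁻¹ = (U * U * U * U * x) * (U * U * U * U)⁻¹ := by group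
      _ = x := by rw [this]; group
  have hvE : ∀ i j k : ℕ, (((v : G) ^ i * (U * v * U⁻¹) ^ j * (U * (U * v * U⁻¹) * U⁻¹) ^ k) ^ (2 ^ (a - 1))) =
      ((e ^ i * (⁅α, β⁆ e) ^ j * (⁅α, β⁆ (⁅α, β⁆ e)) ^ k : E) : G) := by
    intro i j k
    have q1 : U * v * U⁻¹ ∈ Q := hQn.conj_mem _ hvQ _
    have q2 : U * (U * v * U⁻¹) * U⁻¹ ∈ Q := hQn.conj_mem _ q1 _
    have c1 : Commute (v ^ i * (U * v * U⁻¹) ^ j) ((U * (U * v * U⁻¹) * U⁻¹) ^ k) :=
      hab _ (Q.mul_mem (Q.pow_mem hvQ _) (Q.pow_mem q1 _)) _ (Q.pow_mem q2 _)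
    have c2 : Commute (v ^ i) ((U * v * U⁻¹) ^ j) := hab _ (Q.pow_mem hvQ _) _ (Q.pow_mem q1 _)
    have f1 : (U * v * U⁻¹) ^ (2 ^ (a - 1)) = ((⁅α, β⁆ e : E) : G) := by rw [conj_pow, hv, hρ']
    have f2 : (U * (U * v * U⁻¹) * U⁻¹) ^ (2 ^ (a - 1)) = ((⁅α, β⁆ (⁅α, β⁆ e) : E) : G) := by
      rw [conj_pow, f1, hρ']
    rw [c1.mul_pow, c2.mul_pow, pow_right_comm v i, pow_right_comm _ j, pow_right_comm _ k, hv, f1, f2]
    simp
  obtain ⟨y, hy⟩ := core2 (Q := Q) c a ha1 (fun x => Subtype.ext (by simpa using haexp x x.2)) g h U hUdef ⟨v, hvQ⟩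
    hcU4
    (fun i j k hh => hind i j k (Subtype.ext (by
      rw [← hvE i j k]
      exact congrArg Subtype.val hh)))
    (fun x hx => by
      have hxE : (x : G) ∈ E := by
        rw [hE]
        have := congrArg Subtype.val hx
        simpa [pow_two] using this
      obtain ⟨i, j, k, h7⟩ := hsp ⟨x, hxE⟩
      refine ⟨i, j, k, Subtype.ext ?_⟩
      have h8 := congrArg Subtype.val h7
      rw [← hvE i j k] at h8
      exact h8)
    ⟨U * U * U * U, hU4⟩ (Subtype.ext (by rw [hc]; group))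
  have hy' := congrArg Subtype.val hy
  simp only [Subgroup.coe_mul] at hy'
  rw [hc, hc] at hy'
  -- the involution
  have hw : ((y : G)⁻¹ * (U * U)) * ((y : G)⁻¹ * (U * U)) = 1 := by
    have h9 : (y : G)⁻¹ * (U * U) * ((y : G)⁻¹ * (U * U)) =
        (y : G)⁻¹ * (U * (U * (y : G) * U⁻¹) * U⁻¹)⁻¹ * (U * U * U * U) := by
      simp only [mul_assoc, mul_inv_rev, inv_inv, inv_mul_cancel_left, mul_inv_cancel_left]
    rw [h9, hy']
    have q1 : U * (U * (y : G) * U⁻¹) * U⁻¹ ∈ Q := hQn.conj_mem _ (hQn.conj_mem _ y.2 _) _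
    have := hab _ y.2 _ q1
    rw [this]
    group
  have hwE := (hE _).2 hw
  have hUU : U * U ∈ Q := by
    have : U * U = y * ((y : G)⁻¹ * (U * U)) := by group
    rw [this]
    exact Q.mul_mem y.2 (hEQ hwE)
  have hUe : ⁅α, β⁆ (⁅α, β⁆ e) = e := by
    apply Subtype.ext
    rw [← hρ', ← hρ']
    have := (Subgroup.mem_centralizer_iff.1 hUU) e e.2
    calc U * (U * (e : G) * U⁻¹) * U⁻¹ = (U * U * e) * (U * U)⁻¹ := by group
      _ = e := by rw [← this]; group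
  have := hind 1 0 1 (by
    rw [hUe]
    simp only [pow_one, pow_zero, mul_one]
    exact Subtype.ext ((hE e).1 e.2))
  omega

end Cfsg.Agent.H79.PyrAB

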