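import Mathlib
import Cfsg.Prelude.Def_Blocks
import Cfsg.Agent.Blk.Osima
import Cfsg.Agent.Blk.Orth
import Cfsg.Agent.BlkInd.PPart
import Cfsg.Agent.H4.SecThird
import Cfsg.Agent.H4.NormSum
import Cfsg.Agent.H75.Tools
import Cfsg.Agent.H4.BlkKer
import Cfsg.Agent.Solv.Core
import Cfsg.Agent.S0936

/-!
# Columns of the principal block attached to generalized characters of a `p`-subgroup
-/

set_option autoImplicit false
set_option linter.style.haveILetI false
set_option linter.unusedSectionVars false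

open scoped ComplexConjugate

namespace Cfsg.Agent.H79

open Cfsg Cfsg.Agent.CharBase Cfsg.Agent.Blk

universe u

section col

variable {G : Type u} [Group G] [Finite G]

/-- the column attached to a function on `P` -/
noncomputable def aCol (P : Subgroup G) (θ : P → ℂ) (χ : IrrCharacter G) : ℂ :=
  (Nat.card P : ℂ)⁻¹ * ∑ᶠ y : P, (χ : G → ℂ) (y : G) * θ y⁻¹

theorem aCol_eq_sum (P : Subgroup G) [Fintype P] (θ : P → ℂ) (χ : IrrCharacter G) :
    aCol P θ χ = (Nat.card P : ℂ)⁻¹ * ∑ y : P, (χ : G → ℂ) (y : G) * θ y⁻¹ := by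
  unfold aCol
  rw [finsum_eq_sum_of_fintype]

theorem aCol_int {P : Subgroup G} {θ : P → ℂ} (hθ : IsGeneralizedCharacter P θ) (χ : IrrCharacter G) :
    ∃ k : ℤ, aCol P θ χ = k := by
  classical
  haveI := Fintype.ofFinite P
  obtain ⟨α, β, hα, hβ, rfl⟩ := hθ
  have hr := isCharacter_restrict (irr_isCharacter χ) P
  obtain ⟨n, hn⟩ := classInner_natCast hr hα
  obtain ⟨m, hm⟩ := classInner_natCast hr hβ
  refine ⟨(n : ℤ) - m, ?_⟩
  rw [aCol_eq_sum]
  push_cast
  rw [← hn, ← hm]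
  unfold classInner
  rw [← mul_sub, ← Finset.sum_sub_distrib]
  congr 1
  refine Finset.sum_congr rfl (fun y _ => ?_)
  rw [Pi.sub_apply, isCharacter_inv hα, isCharacter_inv hβ]
  ring

open Classical in
/-- Exchange of summations. -/
theorem sum_aCol_mul_eq_zero [Fintype (IrrCharacter G)] (B : Set (IrrCharacter G)) (P : Subgroup G)
    (θ : P → ℂ) (c : IrrCharacter G → ℂ)
    (h : ∀ y : P, θ y⁻¹ ≠ 0 → ∑ χ : IrrCharacter G, (if χ ∈ B then (χ : G → ℂ) (y : G) * c χ else 0) = 0) :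
    ∑ χ : IrrCharacter G, (if χ ∈ B then aCol P θ χ * c χ else 0) = 0 := by
  haveI := Fintype.ofFinite P
  have h1 : ∀ χ : IrrCharacter G, (if χ ∈ B then aCol P θ χ * c χ else 0) =
      (Nat.card P : ℂ)⁻¹ * ∑ y : P, θ y⁻¹ * (if χ ∈ B then (χ : G → ℂ) (y : G) * c χ else 0) := by
    intro χ
    split_ifs
    · rw [aCol_eq_sum, mul_assoc, Finset.sum_mul]
      congr 1
      exact Finset.sum_congr rfl (fun y _ => by ring)
    · simp
  rw [Finset.sum_congr rfl (fun χ _ => h1 χ), ← Finset.mul_sum, Finset.sum_comm]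
  rw [Finset.sum_eq_zero, mul_zero]
  intro y _
  rw [← Finset.mul_sum]
  by_cases hy : θ y⁻¹ = 0
  · rw [hy, zero_mul]
  · rw [h y hy, mul_zero]

variable {M : Ideal AlgInt} {p : ℕ}

open Classical in
theorem orth_ite [Fintype (IrrCharacter G)] (hM : IsPModular p M) {B : Set (IrrCharacter G)} (hB : IsPBlock M B) {g h x y : G}
    (hx : IsPPart p g x) (hy : IsPPart p h y) (hxy : ¬ IsConj x y) :
    ∑ χ : IrrCharacter G, (if χ ∈ B then (χ : G → ℂ) g * conj ((χ : G → ℂ) h) else 0) = 0 := by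
  haveI := Fintype.ofFinite G
  rw [← finsum_mem_eq_sum_ite B (fun χ => (χ : G → ℂ) g * conj ((χ : G → ℂ) h))]
  exact block_orthogonality hM hB hx hy hxy

theorem isPPart_self {g : G} (hg : ∃ k : ℕ, orderOf g = p ^ k) (hp : p.Prime) : IsPPart p g g :=
  ⟨1, by simp, Commute.one_right g, hg, by rw [orderOf_one]; exact hp.one_lt.ne' ∘ Nat.dvd_one.mp⟩

open Classical in
/-- class multiplication coefficients inside a block. -/
theorem sum_sq_div_eq_zero [Fintype (IrrCharacter G)] (hM : IsPModular p M) {B : Set (IrrCharacter G)} (hB : IsPBlock M B)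
    {t y : G} (hy : ∃ k : ℕ, orderOf y = p ^ k) (ht : t * t = 1)
    (hinv : ∀ g : G, (g * t * g⁻¹) * y * (g * t * g⁻¹)⁻¹ ≠ y⁻¹) :
    ∑ χ : IrrCharacter G, (if χ ∈ B then (χ : G → ℂ) y * ((χ : G → ℂ) t ^ 2 / (χ : G → ℂ) 1) else 0) = 0 := by
  haveI := Fintype.ofFinite G
  have hG : (Nat.card G : ℂ) ≠ 0 := by exact_mod_cast (Nat.card_pos (α := G)).ne'
  have hti : t⁻¹ = t := inv_eq_of_mul_eq_one_right ht
  have h1 : ∀ χ : IrrCharacter G, ∑ a : G, ∑ b : G, (χ : G → ℂ) (a * t * a⁻¹ * (b * t * b⁻¹))⁻¹ =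
      (Nat.card G : ℂ) ^ 2 * ((χ : G → ℂ) t ^ 2 / (χ : G → ℂ) 1) := by
    intro χ
    have h2 : ∀ a b : G, (χ : G → ℂ) (a * t * a⁻¹ * (b * t * b⁻¹))⁻¹ =
        (χ : G → ℂ) (a * t * a⁻¹ * (b * t * b⁻¹)) := by
      intro a b
      have h3 : (a * t * a⁻¹ * (b * t * b⁻¹))⁻¹ = (a * t * a⁻¹)⁻¹ * (a * t * a⁻¹ * (b * t * b⁻¹)) *
          (a * t * a⁻¹) := by
        have h4 : (b * t * b⁻¹)⁻¹ = b * t * b⁻¹ := by
          rw [mul_inv_rev, mul_inv_rev, hti, inv_inv, mul_assoc]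
        have h5 : (a * t * a⁻¹)⁻¹ = a * t * a⁻¹ := by
          rw [mul_inv_rev, mul_inv_rev, hti, inv_inv, mul_assoc]
        rw [mul_inv_rev, h4]
        rw [h5]
        have h6 : a * t * a⁻¹ * (a * t * a⁻¹ * (b * t * b⁻¹)) = b * t * b⁻¹ := by
          calc a * t * a⁻¹ * (a * t * a⁻¹ * (b * t * b⁻¹)) = a * (t * t) * a⁻¹ * (b * t * b⁻¹) := by group
            _ = b * t * b⁻¹ := by rw [ht]; group
        rw [h6]
      rw [h3]
      have h7 := irr_isClassFunction χ (a * t * a⁻¹ * (b * t * b⁻¹)) (a * t * a⁻¹)⁻¹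
      rw [inv_inv] at h7
      exact h7
    simp only [h2]
    rw [Finset.sum_comm]
    have h8 : ∀ b : G, ∑ a : G, (χ : G → ℂ) (a * t * a⁻¹ * (b * t * b⁻¹)) =
        (Nat.card G : ℂ) * (χ : G → ℂ) t * (χ : G → ℂ) t / (χ : G → ℂ) 1 := by
      intro b
      have h9 := CharBase.sum_conj_mul χ.2 (b * t * b⁻¹) t
      have h10 : ∑ a : G, (χ : G → ℂ) (a * t * a⁻¹ * (b * t * b⁻¹)) =
          ∑ a : G, (χ : G → ℂ) (b * t * b⁻¹ * (a * t * a⁻¹)) :=
        Finset.sum_congr rfl (fun a _ => classFun_mul_comm (irr_isClassFunction χ) _ _)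
      rw [h10, h9, irr_isClassFunction χ t b]
    rw [Finset.sum_congr rfl (fun b _ => h8 b), Finset.sum_const, Finset.card_univ, nsmul_eq_mul,
      Nat.card_eq_fintype_card]
    ring
  apply mul_left_cancel₀ (pow_ne_zero 2 hG)
  rw [mul_zero, Finset.mul_sum]
  have h3 : ∀ χ : IrrCharacter G, (Nat.card G : ℂ) ^ 2 *
      (if χ ∈ B then (χ : G → ℂ) y * ((χ : G → ℂ) t ^ 2 / (χ : G → ℂ) 1) else 0) =
      ∑ a : G, ∑ b : G, (if χ ∈ B then (χ : G → ℂ) y *
        conj ((χ : G → ℂ) (a * t * a⁻¹ * (b * t * b⁻¹))) else 0) := by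
    intro χ
    split_ifs
    · simp only [← irr_inv]
      simp only [← Finset.mul_sum]
      rw [h1 χ]; ring
    · simp
  rw [Finset.sum_congr rfl (fun χ _ => h3 χ), Finset.sum_comm]
  refine Finset.sum_eq_zero (fun a _ => ?_)
  rw [Finset.sum_comm]
  refine Finset.sum_eq_zero (fun b _ => ?_)
  obtain ⟨x, hx⟩ := BlkInd.exists_isPPart (p := p) hM.1 (a * t * a⁻¹ * (b * t * b⁻¹))
  refine orth_ite hM hB (isPPart_self hy hM.1) hx (fun hc => ?_)
  obtain ⟨c, hc⟩ := isConj_iff.mp hc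
  obtain ⟨n, hn⟩ := Subgroup.mem_zpowers_iff.mp (BlkInd.isPPart_mem_zpowers hM.1 hx)
  -- x is inverted by s = a t a⁻¹
  have hs : (a * t * a⁻¹) * (a * t * a⁻¹ * (b * t * b⁻¹)) * (a * t * a⁻¹)⁻¹ =
      (a * t * a⁻¹ * (b * t * b⁻¹))⁻¹ := by
    have h4 : (b * t * b⁻¹)⁻¹ = b * t * b⁻¹ := by
      rw [mul_inv_rev, mul_inv_rev, hti, inv_inv, mul_assoc]
    have h5 : (a * t * a⁻¹)⁻¹ = a * t * a⁻¹ := by
      rw [mul_inv_rev, mul_inv_rev, hti, inv_inv, mul_assoc]
    rw [mul_inv_rev (a * t * a⁻¹) (b * t * b⁻¹), h4, h5]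
    calc a * t * a⁻¹ * (a * t * a⁻¹ * (b * t * b⁻¹)) * (a * t * a⁻¹)
        = a * (t * t) * a⁻¹ * (b * t * b⁻¹) * (a * t * a⁻¹) := by group
      _ = b * t * b⁻¹ * (a * t * a⁻¹) := by rw [ht]; group
  have hsx : (a * t * a⁻¹) * x * (a * t * a⁻¹)⁻¹ = x⁻¹ := by
    rw [← hn, ← conj_zpow, hs, inv_zpow]
  apply hinv (c⁻¹ * a)
  have hy' : y = c⁻¹ * x * c := by rw [← hc]; group
  calc (c⁻¹ * a) * t * (c⁻¹ * a)⁻¹ * y * ((c⁻¹ * a) * t * (c⁻¹ * a)⁻¹)⁻¹
      = c⁻¹ * (a * t * a⁻¹) * (c * y * c⁻¹) * (a * t * a⁻¹)⁻¹ * c := by group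
    _ = c⁻¹ * ((a * t * a⁻¹) * x * (a * t * a⁻¹)⁻¹) * c := by rw [hc]; group
    _ = y⁻¹ := by rw [hsx, hy']; group

theorem exists_pow_of_isPGroup {P : Subgroup G} (hP : IsPGroup p P) {y : G} (hy : y ∈ P)
    [Fact p.Prime] : ∃ k : ℕ, orderOf y = p ^ k := by
  obtain ⟨k, hk⟩ := IsPGroup.iff_orderOf.mp hP ⟨y, hy⟩
  exact ⟨k, by rw [← hk, ← Subgroup.orderOf_coe]⟩

open Classical in
/-- The three relations of S4722. -/
theorem three_relations [Fintype (IrrCharacter G)] [Fact p.Prime] (hM : IsPModular p M) {B : Set (IrrCharacter G)} (hB : IsPBlock M B)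
    {P : Subgroup G} (hP : IsPGroup p P) (U : Set G) {t : G} (ht : t * t = 1)
    (htp : ∃ k : ℕ, orderOf t = p ^ k)
    (hinv : ∀ u ∈ U, ∀ g : G, (g * t * g⁻¹) * u * (g * t * g⁻¹)⁻¹ ≠ u⁻¹) (θ : P → ℂ)
    (hθU : ∀ y : P, (y : G) ∉ U → θ y = 0) :
    ∑ χ : IrrCharacter G, (if χ ∈ B then aCol P θ χ * ((χ : G → ℂ) t ^ 2 / (χ : G → ℂ) 1) else 0) = 0 ∧
    ∑ χ : IrrCharacter G, (if χ ∈ B then aCol P θ χ * (χ : G → ℂ) 1 else 0) = 0 ∧
    ∑ χ : IrrCharacter G, (if χ ∈ B then aCol P θ χ * (χ : G → ℂ) t else 0) = 0 := by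
  have hti : t⁻¹ = t := inv_eq_of_mul_eq_one_right ht
  have hy : ∀ y : P, θ y⁻¹ ≠ 0 → ((y : G)⁻¹) ∈ U := by
    intro y hy
    by_contra hne
    exact hy (hθU y⁻¹ (by rw [Subgroup.coe_inv]; exact hne))
  have hinv' : ∀ y : P, θ y⁻¹ ≠ 0 → ∀ g : G, (g * t * g⁻¹) * (y : G) * (g * t * g⁻¹)⁻¹ ≠ (y : G)⁻¹ := by
    intro y hθy g h
    apply hinv _ (hy y hθy) g
    calc g * t * g⁻¹ * (y : G)⁻¹ * (g * t * g⁻¹)⁻¹ = ((g * t * g⁻¹) * (y : G) * (g * t * g⁻¹)⁻¹)⁻¹ := by group
      _ = ((y : G)⁻¹)⁻¹ := by rw [h]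
  refine ⟨?_, ?_, ?_⟩
  · refine sum_aCol_mul_eq_zero B P θ _ (fun y hθy => ?_)
    exact sum_sq_div_eq_zero hM hB (exists_pow_of_isPGroup hP y.2) ht (hinv' y hθy)
  · refine sum_aCol_mul_eq_zero B P θ _ (fun y hθy => ?_)
    have h1 := orth_ite hM hB (isPPart_self (exists_pow_of_isPGroup hP y.2) hM.1)
      (isPPart_self (g := (1 : G)) ⟨0, by simp⟩ hM.1) (fun hc => by
        rw [isConj_one_left] at hc
        apply hinv' y hθy 1
        rw [hc]; group)
    refine Eq.trans ?_ h1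
    refine Finset.sum_congr rfl (fun χ _ => ?_)
    rw [← irr_inv, inv_one]
  · refine sum_aCol_mul_eq_zero B P θ _ (fun y hθy => ?_)
    have h1 := orth_ite hM hB (isPPart_self (exists_pow_of_isPGroup hP y.2) hM.1)
      (isPPart_self htp hM.1) (fun hc => by
        obtain ⟨c, hc⟩ := isConj_iff.mp hc
        apply hinv' y hθy c⁻¹
        have h2 : c⁻¹ * t * c⁻¹⁻¹ = (y : G) := by rw [← hc]; group
        have h3 : (y : G)⁻¹ = y := by
          rw [← h2]
          calc (c⁻¹ * t * c⁻¹⁻¹)⁻¹ = c⁻¹ * t⁻¹ * c := by group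
            _ = c⁻¹ * t * c⁻¹⁻¹ := by rw [hti, inv_inv]
        rw [h2, mul_inv_cancel_right, h3])
    refine Eq.trans ?_ h1
    refine Finset.sum_congr rfl (fun χ _ => ?_)
    rw [← irr_inv, hti]

/-- Principal block characters have `O_{p'}(G)` in the kernel. -/
theorem principal_ker [Fact p.Prime] (hM : IsPModular p M) {χ : IrrCharacter G} (hχ : χ ∈ principalBlock M G) {n : G}
    (hn : n ∈ pPrimeCore p G) : (χ : G → ℂ) n = (χ : G → ℂ) 1 := by
  have hcard : ¬ p ∣ Nat.card (pPrimeCore p G) :=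
    (Nat.Prime.coprime_iff_not_dvd hM.1).mp (Cfsg.Agent.Solv.pPrimeCore_card_coprime p).symm
  have h1 : SameBlock M ((oneIrr G : IrrCharacter G) : G → ℂ) (χ : G → ℂ) := hχ
  exact H4.ker_of_sameBlock hM hcard h1 (fun n _ => rfl) n hn

/-- Cauchy–Schwarz argument with at most one positive coefficient. -/
theorem ratio_const {ι : Type*} [Fintype ι] (S : ι → Prop) [DecidablePred S] (k : ι → ℝ) (d τ : ι → ℝ) (hd : ∀ i, 0 < d i)
    (h1 : ∑ i, (if S i then k i * (τ i ^ 2 / d i) else 0) = 0)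
    (h2 : ∑ i, (if S i then k i * d i else 0) = 0)
    (h3 : ∑ i, (if S i then k i * τ i else 0) = 0)
    (h4 : ∃ i₀, ∀ i, S i → 0 < k i → i = i₀) :
    ∃ c : ℝ, ∀ i, S i → k i ≠ 0 → τ i = c * d i := by
  obtain ⟨i₀, hi₀⟩ := h4
  set c := τ i₀ / d i₀ with hc
  refine ⟨c, ?_⟩
  have h5 : ∑ i, (if S i then k i * d i * (τ i / d i - c) ^ 2 else 0) = 0 := by
    have h6 : ∀ i, (if S i then k i * d i * (τ i / d i - c) ^ 2 else 0) =
        (if S i then k i * (τ i ^ 2 / d i) else 0) - 2 * c * (if S i then k i * τ i else 0) +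
        c ^ 2 * (if S i then k i * d i else 0) := by
      intro i
      have := (hd i).ne'
      split_ifs
      · field_simp
        ring
      · ring
    rw [Finset.sum_congr rfl (fun i _ => h6 i), Finset.sum_add_distrib, Finset.sum_sub_distrib,
      ← Finset.mul_sum, ← Finset.mul_sum, h1, h2, h3]
    ring
  have h7 : ∀ i ∈ Finset.univ, (if S i then k i * d i * (τ i / d i - c) ^ 2 else 0) ≤ 0 := by
    intro i _
    split_ifs with hS
    · by_cases hk : 0 < k i
      · rw [hi₀ i hS hk, ← hc]; simp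
      · push Not at hk
        exact mul_nonpos_of_nonpos_of_nonneg (mul_nonpos_of_nonpos_of_nonneg hk (hd i).le) (sq_nonneg _)
    · exact le_refl _
  have h8 := (Finset.sum_eq_zero_iff_of_nonpos h7).mp h5
  intro i hS hk
  have h9 := h8 i (Finset.mem_univ _)
  rw [if_pos hS] at h9
  have h10 : (τ i / d i - c) ^ 2 = 0 := by
    rcases mul_eq_zero.mp h9 with h | h
    · exact absurd h (mul_ne_zero hk (hd i).ne')
    · exact h
  have h11 : τ i / d i = c := by
    have := pow_eq_zero_iff (two_ne_zero) |>.mp h10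
    linarith
  rw [← h11]
  field_simp [(hd i).ne']

theorem eq_one_of_const [Fintype G] {χ : IrrCharacter G} (h : ∀ g, (χ : G → ℂ) g = (χ : G → ℂ) 1) :
    χ = oneIrr G := by
  by_contra hne
  have h1 := classInner_irr χ (oneIrr G)
  rw [if_neg hne] at h1
  unfold classInner at h1
  have hc : (Nat.card G : ℂ) ≠ 0 := by exact_mod_cast (Nat.card_pos (α := G)).ne'
  have h2 : ∑ g : G, (χ : G → ℂ) g * conj (((oneIrr G : IrrCharacter G) : G → ℂ) g) =
      (Nat.card G : ℂ) * (χ : G → ℂ) 1 := by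
    have : ∀ g : G, (χ : G → ℂ) g * conj (((oneIrr G : IrrCharacter G) : G → ℂ) g) = (χ : G → ℂ) 1 := by
      intro g
      rw [h g]
      show (χ : G → ℂ) 1 * conj (1 : ℂ) = _
      rw [map_one, mul_one]
    rw [Finset.sum_congr rfl (fun g _ => this g), Finset.sum_const, Finset.card_univ, nsmul_eq_mul,
      Nat.card_eq_fintype_card]
  rw [h2, ← mul_assoc, inv_mul_cancel₀ hc, one_mul] at h1
  exact CharBase.irr_one_ne_zero χ.2 h1

open Classical in
/-- The dichotomy of S4722. -/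
theorem column_dichotomy [Fact p.Prime] (hM : IsPModular p M)
    {P : Subgroup G} (hP : IsPGroup p P) (U : Set G) {t : G} (ht : t * t = 1)
    (htp : ∃ k : ℕ, orderOf t = p ^ k)
    (hinv : ∀ u ∈ U, ∀ g : G, (g * t * g⁻¹) * u * (g * t * g⁻¹)⁻¹ ≠ u⁻¹) (θ : P → ℂ)
    (hθ : IsGeneralizedCharacter P θ)
    (hθU : ∀ y : P, (y : G) ∉ U → θ y = 0)
    (hne : (Nat.card P : ℂ)⁻¹ * ∑ᶠ y : P, θ y ≠ 0)
    (hcase : (∃ χ₀ : IrrCharacter G, ∀ χ ∈ principalBlock M G, 0 < (aCol P θ χ).re → χ = χ₀) ∨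
      (∃ χ₀ : IrrCharacter G, ∀ χ ∈ principalBlock M G, (aCol P θ χ).re < 0 → χ = χ₀)) :
    ∃ K : Subgroup G, K.Normal ∧ K ≠ ⊤ ∧ pPrimeCore p G ≤ K ∧ t ∈ K := by
  haveI := isPrime_of_isPModular hM
  haveI := Fintype.ofFinite G
  haveI := Fintype.ofFinite P
  haveI := Fintype.ofFinite (IrrCharacter G)
  have hti : t⁻¹ = t := inv_eq_of_mul_eq_one_right ht
  obtain ⟨h1, h2, h3⟩ := three_relations hM (isPBlock_principalBlock (M := M) (G := G)) hP U ht htp hinv θ hθU
  choose k hk using fun χ : IrrCharacter G => aCol_int hθ χ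
  let d : IrrCharacter G → ℝ := fun χ => (H75.deg χ : ℝ)
  let τ : IrrCharacter G → ℝ := fun χ => ((χ : G → ℂ) t).re
  have hd : ∀ χ, 0 < d χ := fun χ => Nat.cast_pos.mpr (H75.deg_pos χ)
  have hdc : ∀ χ : IrrCharacter G, (χ : G → ℂ) 1 = ((d χ : ℝ) : ℂ) := fun χ => by
    rw [H75.deg_spec]; norm_cast
  have hτc : ∀ χ : IrrCharacter G, (χ : G → ℂ) t = ((τ χ : ℝ) : ℂ) := fun χ => by
    have h4 : conj ((χ : G → ℂ) t) = (χ : G → ℂ) t := by rw [← irr_inv, hti]
    exact (Complex.conj_eq_iff_re.mp h4).symm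
  have h1' : ∑ χ : IrrCharacter G, (if χ ∈ principalBlock M G then (k χ : ℝ) * (τ χ ^ 2 / d χ) else 0) = 0 := by
    have h5 : ((∑ χ : IrrCharacter G, (if χ ∈ principalBlock M G then (k χ : ℝ) * (τ χ ^ 2 / d χ) else 0) : ℝ) : ℂ) = 0 := by
      rw [← h1, Complex.ofReal_sum]
      refine Finset.sum_congr rfl (fun χ _ => ?_)
      split_ifs
      · rw [hk, hdc, hτc]; push_cast; ring
      · simp
    exact_mod_cast h5
  have h2' : ∑ χ : IrrCharacter G, (if χ ∈ principalBlock M G then (k χ : ℝ) * d χ else 0) = 0 := by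
    have h5 : ((∑ χ : IrrCharacter G, (if χ ∈ principalBlock M G then (k χ : ℝ) * d χ else 0) : ℝ) : ℂ) = 0 := by
      rw [← h2, Complex.ofReal_sum]
      refine Finset.sum_congr rfl (fun χ _ => ?_)
      split_ifs
      · rw [hk, hdc]; push_cast; ring
      · simp
    exact_mod_cast h5
  have h3' : ∑ χ : IrrCharacter G, (if χ ∈ principalBlock M G then (k χ : ℝ) * τ χ else 0) = 0 := by
    have h5 : ((∑ χ : IrrCharacter G, (if χ ∈ principalBlock M G then (k χ : ℝ) * τ χ else 0) : ℝ) : ℂ) = 0 := by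
      rw [← h3, Complex.ofReal_sum]
      refine Finset.sum_congr rfl (fun χ _ => ?_)
      split_ifs
      · rw [hk, hτc]; push_cast; ring
      · simp
    exact_mod_cast h5
  have hre : ∀ χ : IrrCharacter G, (aCol P θ χ).re = (k χ : ℝ) := fun χ => by rw [hk]; simp
  have hc : ∃ c : ℝ, ∀ χ : IrrCharacter G, χ ∈ principalBlock M G → (k χ : ℝ) ≠ 0 → τ χ = c * d χ := by
    rcases hcase with ⟨χ₀, hχ₀⟩ | ⟨χ₀, hχ₀⟩
    · refine ratio_const (fun χ : IrrCharacter G => χ ∈ principalBlock M G) (fun χ => (k χ : ℝ)) d τ hd h1' h2' h3' ⟨χ₀, ?_⟩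
      intro χ hχ hpos
      exact hχ₀ χ hχ (by rw [hre]; exact hpos)
    · have hneg : ∀ f : IrrCharacter G → ℝ, ∑ χ : IrrCharacter G, (if χ ∈ principalBlock M G then (k χ : ℝ) * f χ else 0) = 0 →
          ∑ χ : IrrCharacter G, (if χ ∈ principalBlock M G then (-(k χ : ℝ)) * f χ else 0) = 0 := by
        intro f hf
        rw [← neg_eq_zero, ← Finset.sum_neg_distrib]
        refine Eq.trans ?_ hf
        refine Finset.sum_congr rfl (fun χ _ => ?_)
        split_ifs <;> ring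
      obtain ⟨c, hc⟩ := ratio_const (fun χ : IrrCharacter G => χ ∈ principalBlock M G)
        (fun χ => -(k χ : ℝ)) d τ hd (hneg _ h1') (hneg _ h2') (hneg _ h3') ⟨χ₀, by
          intro χ hχ hpos
          exact hχ₀ χ hχ (by rw [hre]; linarith)⟩
      exact ⟨c, fun χ hχ h => hc χ hχ (neg_ne_zero.mpr h)⟩
  obtain ⟨c, hc⟩ := hc
  -- the trivial character
  have hone : (k (oneIrr G) : ℝ) ≠ 0 := by
    intro h0
    apply hne
    have h5 : aCol P θ (oneIrr G) = 0 := by rw [hk]; exact_mod_cast congrArg (fun x : ℝ => (x : ℂ)) h0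
    rw [aCol_eq_sum] at h5
    rw [finsum_eq_sum_of_fintype, ← h5]
    congr 1
    apply Fintype.sum_equiv (Equiv.inv P)
    intro y
    show θ y = 1 * θ (y⁻¹)⁻¹
    rw [inv_inv, one_mul]
  have hmem1 : oneIrr G ∈ principalBlock M G := oneIrr_mem_principalBlock
  have hc1 : c = 1 := by
    have h5 := hc _ hmem1 hone
    have h6 : τ (oneIrr G) = 1 := by
      show (((oneIrr G : IrrCharacter G) : G → ℂ) t).re = 1
      show (1 : ℂ).re = 1
      simp
    have h7 : d (oneIrr G) = 1 := by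
      have h8 := hdc (oneIrr G)
      have h9 : ((oneIrr G : IrrCharacter G) : G → ℂ) 1 = 1 := rfl
      rw [h9] at h8
      exact_mod_cast h8.symm
    rw [h6, h7, mul_one] at h5
    exact h5.symm
  -- the subgroup
  let S : Set (IrrCharacter G) := {χ | χ ∈ principalBlock M G ∧ k χ ≠ 0}
  refine ⟨H4.blockKerSubgroup S, H4.blockKerSubgroup_normal S, ?_, ?_, ?_⟩
  · intro htop
    -- another character with nonzero coefficient
    have h5 : ∃ χ : IrrCharacter G, χ ≠ oneIrr G ∧ χ ∈ S := by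
      by_contra hcon
      push Not at hcon
      rw [Finset.sum_eq_single (oneIrr G), if_pos hmem1] at h2'
      · exact (mul_ne_zero hone (hd _).ne') h2'
      · intro χ _ hχ
        by_cases hB : χ ∈ principalBlock M G
        · have h6 : k χ = 0 := by
            by_contra h7
            exact hcon χ hχ ⟨hB, h7⟩
          rw [if_pos hB, h6]; simp
        · rw [if_neg hB]
      · intro h; exact absurd (Finset.mem_univ _) h
    obtain ⟨χ, hχ1, hχS⟩ := h5
    apply hχ1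
    apply eq_one_of_const
    intro g
    have : g ∈ H4.blockKerSubgroup S := by rw [htop]; trivial
    exact H4.mem_blockKerSubgroup.mp this χ hχS
  · intro n hn
    rw [H4.mem_blockKerSubgroup]
    intro χ hχ
    exact principal_ker hM hχ.1 hn
  · rw [H4.mem_blockKerSubgroup]
    intro χ hχ
    rw [hτc, hdc, hc χ hχ.1 (by exact_mod_cast hχ.2), hc1, one_mul]

open Classical in
theorem card_conj_fiber (N : Subgroup G) [Fintype N] (y z : G) :
    ((Finset.univ : Finset N).filter (fun n : N => (n : G) * y * (n : G)⁻¹ = z)).card =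
      if ∃ n ∈ N, n * y * n⁻¹ = z then Nat.card (N ⊓ Subgroup.centralizer ({y} : Set G) : Subgroup G) else 0 := by
  haveI := Fintype.ofFinite G
  split_ifs with h
  · obtain ⟨n₀, hn₀, hz⟩ := h
    rw [Nat.card_eq_fintype_card, ← Finset.card_univ]
    symm
    refine Finset.card_bij (fun (c : (N ⊓ Subgroup.centralizer ({y} : Set G) : Subgroup G)) _ =>
      (⟨n₀ * c, N.mul_mem hn₀ c.2.1⟩ : N)) ?_ ?_ ?_
    · intro c _
      rw [Finset.mem_filter]
      refine ⟨Finset.mem_univ _, ?_⟩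
      have hc := Subgroup.mem_centralizer_singleton_iff.mp c.2.2
      show n₀ * (c : G) * y * (n₀ * (c : G))⁻¹ = z
      calc n₀ * (c : G) * y * (n₀ * (c : G))⁻¹ = n₀ * ((c : G) * y) * (c : G)⁻¹ * n₀⁻¹ := by group
        _ = n₀ * y * n₀⁻¹ := by rw [hc]; group
        _ = z := hz
    · intro a _ b _ hab
      have : n₀ * (a : G) = n₀ * (b : G) := congrArg Subtype.val hab
      exact Subtype.ext (mul_left_cancel this)
    · intro n hn
      rw [Finset.mem_filter] at hn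
      refine ⟨⟨n₀⁻¹ * n, N.mul_mem (N.inv_mem hn₀) n.2, ?_⟩, Finset.mem_univ _, ?_⟩
      · show n₀⁻¹ * (n : G) ∈ Subgroup.centralizer ({y} : Set G)
        rw [Subgroup.mem_centralizer_singleton_iff]
        have h1 : (n : G) * y = z * n := by rw [← hn.2]; group
        calc n₀⁻¹ * (n : G) * y = n₀⁻¹ * ((n : G) * y) := by group
          _ = y * (n₀⁻¹ * (n : G)) := by rw [h1, ← hz]; group
      · apply Subtype.ext
        show n₀ * (n₀⁻¹ * (n : G)) = n
        group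
  · rw [Finset.card_eq_zero, Finset.filter_eq_empty_iff]
    intro n _ hn
    exact h ⟨n, n.2, hn⟩

theorem extendByZero_apply {P : Subgroup G} (η : P → ℂ) {g : G} (hg : g ∈ P) :
    extendByZero P η g = η ⟨g, hg⟩ := by
  unfold extendByZero
  exact Subtype.val_injective.extend_apply η 0 ⟨g, hg⟩

theorem aCol_eq_sum' (P : Subgroup G) [Fintype P] (θ : P → ℂ) (χ : IrrCharacter G) :
    aCol P θ χ = (Nat.card P : ℂ)⁻¹ * ∑ y : P, conj ((χ : G → ℂ) (y : G)) * θ y := by
  rw [aCol_eq_sum]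
  congr 1
  apply Fintype.sum_equiv (Equiv.inv P)
  intro y
  show (χ : G → ℂ) y * θ y⁻¹ = conj ((χ : G → ℂ) ((y⁻¹ : P) : G)) * θ y⁻¹
  rw [← irr_inv]
  simp

open Classical in
/-- The inner product formula. -/
theorem column_inner [Fact p.Prime] (hM : IsPModular p M) {P N : Subgroup G} (hP : IsPGroup p P)
    (hNN : N ≤ Subgroup.normalizer (P : Set G)) (U : Set G)
    (hfus : ∀ u ∈ U, ∀ g : G, g * u * g⁻¹ ∈ (P : Set G) → ∃ n ∈ N, n * u * n⁻¹ = g * u * g⁻¹) (w : ℚ)
    (hw : ∀ y ∈ U, ((∑ᶠ ψ ∈ principalBlock M ↥(Subgroup.centralizer ({y} : Set G)),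
      charDegree (ψ : ↥(Subgroup.centralizer ({y} : Set G)) → ℂ) ^ 2) : ℚ) =
        w * Nat.card ↥(N ⊓ Subgroup.centralizer ({y} : Set G))) (θ η : P → ℂ)
    (hθU : ∀ y : P, (y : G) ∉ U → θ y = 0) :
    ∑ᶠ χ ∈ principalBlock M G, aCol P θ χ * conj (aCol P η χ) =
      ((w : ℂ) / ((Nat.card P : ℂ) ^ 2)) *
        ∑ᶠ y : P, θ y * conj (∑ᶠ x : N, extendByZero P η ((x : G) * (y : G) * (x : G)⁻¹)) := by
  haveI := isPrime_of_isPModular hM
  haveI := Fintype.ofFinite G
  haveI := Fintype.ofFinite P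
  haveI := Fintype.ofFinite N
  haveI := Fintype.ofFinite (IrrCharacter G)
  have hPc : (Nat.card P : ℂ) ≠ 0 := by exact_mod_cast (Nat.card_pos (α := P)).ne'
  set B := principalBlock M G with hB
  have hBb : IsPBlock M B := isPBlock_principalBlock
  -- the kernel
  have hker : ∀ y z : P, (y : G) ∈ U → ∑ χ : IrrCharacter G,
      (if χ ∈ B then (χ : G → ℂ) (y : G) * conj ((χ : G → ℂ) (z : G)) else 0) =
      (w : ℂ) * (((Finset.univ : Finset N).filter (fun n : N => (n : G) * y * (n : G)⁻¹ = z)).card : ℂ) := by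
    intro y z hy
    have hyp := exists_pow_of_isPGroup hP y.2
    haveI := Fintype.ofFinite (IrrCharacter ↥(Subgroup.centralizer ({(y : G)} : Set G)))
    rw [card_conj_fiber]
    split_ifs with h
    · obtain ⟨n, hn, hz⟩ := h
      have h1 := H4.principal_kernel_eq (x := (y : G)) hM hyp
        (H4.thirdAt_of_forall hM hyp fun b hb => Cfsg.Agent.S0936.result p M hM _ b hb) 1 1
        (by rw [orderOf_one]; exact hM.1.one_lt.ne' ∘ Nat.dvd_one.mp)
        (by rw [orderOf_one]; exact hM.1.one_lt.ne' ∘ Nat.dvd_one.mp)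
      have h2 : ∀ χ : IrrCharacter G, (χ : G → ℂ) (z : G) = (χ : G → ℂ) (y : G) := by
        intro χ
        rw [← hz, irr_isClassFunction χ]
      simp only [OneMemClass.coe_one, mul_one] at h1
      rw [Finset.sum_congr rfl (fun χ _ => by rw [h2 χ])]
      rw [h1]
      have h3 := hw y hy
      rw [finsum_mem_def, finsum_eq_sum_of_fintype] at h3
      have h4 : ((∑ a : IrrCharacter ↥(Subgroup.centralizer ({(y : G)} : Set G)),
          (principalBlock M ↥(Subgroup.centralizer ({(y : G)} : Set G))).indicator (fun ψ =>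
          ((charDegree (ψ : ↥(Subgroup.centralizer ({(y : G)} : Set G)) → ℂ) : ℚ) ^ 2)) a : ℚ) : ℂ) =
          (w : ℂ) * (Nat.card ↥(N ⊓ Subgroup.centralizer ({(y : G)} : Set G)) : ℂ) := by
        rw [h3]; push_cast; rfl
      rw [← h4, Rat.cast_sum]
      refine Finset.sum_congr rfl (fun ψ _ => ?_)
      by_cases hψ : ψ ∈ principalBlock M ↥(Subgroup.centralizer ({(y : G)} : Set G))
      · rw [if_pos hψ, Set.indicator_of_mem hψ, H75.deg_spec, H75.charDegree_eq_deg]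
        rw [Complex.conj_natCast]; push_cast; ring
      · rw [if_neg hψ, Set.indicator_of_notMem hψ, Rat.cast_zero]
    · rw [Nat.cast_zero, mul_zero]
      refine orth_ite hM hBb (isPPart_self hyp hM.1)
        (isPPart_self (exists_pow_of_isPGroup hP z.2) hM.1) (fun hc => ?_)
      obtain ⟨g, hg⟩ := isConj_iff.mp hc
      obtain ⟨n, hn, hn2⟩ := hfus y hy g (by rw [hg]; exact z.2)
      exact h ⟨n, hn, by rw [hn2, hg]⟩
  rw [finsum_mem_eq_sum_ite B (fun χ => aCol P θ χ * conj (aCol P η χ))]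
  have h1 : ∀ χ : IrrCharacter G, (if χ ∈ B then aCol P θ χ * conj (aCol P η χ) else 0) =
      ((Nat.card P : ℂ) ^ 2)⁻¹ * ∑ y : P, ∑ z : P, θ y * conj (η z) *
        conj (if χ ∈ B then (χ : G → ℂ) (y : G) * conj ((χ : G → ℂ) (z : G)) else 0) := by
    intro χ
    split_ifs
    · rw [aCol_eq_sum', aCol_eq_sum', map_mul, map_sum, map_inv₀, Complex.conj_natCast]
      rw [mul_mul_mul_comm, Finset.sum_mul_sum, ← mul_inv, ← pow_two]
      congr 1
      refine Finset.sum_congr rfl (fun y _ => Finset.sum_congr rfl (fun z _ => ?_))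
      simp only [map_mul, Complex.conj_conj]
      ring
    · simp
  rw [Finset.sum_congr rfl (fun χ _ => h1 χ), ← Finset.mul_sum, Finset.sum_comm]
  rw [div_eq_inv_mul, mul_assoc]
  congr 1
  rw [finsum_eq_sum_of_fintype, Finset.mul_sum]
  refine Finset.sum_congr rfl (fun y _ => ?_)
  by_cases hy : (y : G) ∈ U
  · rw [Finset.sum_comm, finsum_eq_sum_of_fintype]
    have h2 : ∀ z : P, ∑ χ : IrrCharacter G, θ y * conj (η z) *
        conj (if χ ∈ B then (χ : G → ℂ) (y : G) * conj ((χ : G → ℂ) (z : G)) else 0) =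
        θ y * conj (η z) * ((w : ℂ) * (((Finset.univ : Finset N).filter
          (fun n : N => (n : G) * y * (n : G)⁻¹ = z)).card : ℂ)) := by
      intro z
      rw [← Finset.mul_sum, ← map_sum, hker y z hy, map_mul, Complex.conj_natCast, map_ratCast]
    rw [Finset.sum_congr rfl (fun z _ => h2 z)]
    have h3 : ∑ x : N, extendByZero P η ((x : G) * (y : G) * (x : G)⁻¹) =
        ∑ z : P, (((Finset.univ : Finset N).filter
          (fun n : N => (n : G) * y * (n : G)⁻¹ = z)).card : ℂ) * η z := by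
      have h4 : ∀ x : N, extendByZero P η ((x : G) * (y : G) * (x : G)⁻¹) =
          ∑ z : P, if (x : G) * y * (x : G)⁻¹ = z then η z else 0 := by
        intro x
        have hx : (x : G) * y * (x : G)⁻¹ ∈ P := (Subgroup.mem_normalizer_iff.mp (hNN x.2) y).mp y.2
        rw [extendByZero_apply η hx, Finset.sum_eq_single (⟨_, hx⟩ : P)]
        · rw [if_pos rfl]
        · intro z _ hz
          rw [if_neg (fun h => hz (Subtype.ext h.symm))]
        · intro h; exact absurd (Finset.mem_univ _) h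
      rw [Finset.sum_congr rfl (fun x _ => h4 x), Finset.sum_comm]
      refine Finset.sum_congr rfl (fun z _ => ?_)
      rw [← Finset.sum_filter, Finset.sum_const, nsmul_eq_mul]
    rw [h3, map_sum, Finset.mul_sum, Finset.mul_sum]
    refine Finset.sum_congr rfl (fun z _ => ?_)
    rw [map_mul, Complex.conj_natCast]
    ring
  · rw [hθU y hy]
    simp

end col

end Cfsg.Agent.H79
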