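import Cfsg.Agent.H79.AbelDual
import Cfsg.Agent.H79.Columns
import Cfsg.Agent.Char.Linear
import Cfsg.Agent.H78.Exceptional
import Cfsg.Agent.S0942

/-!
# The principal block of a group with abelian Sylow `p`-subgroup and Frobenius-like normalizer
-/

set_option autoImplicit false
set_option linter.unusedSectionVars false
set_option linter.style.haveILetI false
set_option linter.unusedVariables false

namespace Cfsg.Agent.H79

open Cfsg Cfsg.Agent.CharBase Cfsg.Agent.Blk Cfsg.Agent.H25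
open scoped ComplexConjugate

universe u

section reps

variable {G : Type u} [Group G] [Finite G] {P : Subgroup G} {m : ℕ}

theorem card_dual (hab : ∀ a ∈ P, ∀ b ∈ P, a * b = b * a) : Nat.card (P →* ℂˣ) = Nat.card P := by
  letI : CommGroup P := { (inferInstance : Group P) with
    mul_comm := fun a b => Subtype.ext (hab a a.2 b b.2) }
  exact CommGroup.card_monoidHom_of_hasEnoughRootsOfUnity P ℂ

theorem sum_dual (hab : ∀ a ∈ P, ∀ b ∈ P, a * b = b * a) [Fintype (P →* ℂˣ)] {y : P} (hy : y ≠ 1) :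
    ∑ φ : P →* ℂˣ, ((φ y : ℂˣ) : ℂ) = 0 := by
  classical
  have h1 := sum_dual_trivialOn (W := P) (fun a b => Subtype.ext (hab a a.2 b b.2)) ⊥
    (v := y) (by rwa [Subgroup.mem_bot])
  rw [Finset.filter_true_of_mem] at h1
  · exact h1
  · intro φ _ w hw
    rw [Subgroup.mem_bot] at hw
    rw [hw, map_one]

/-- representatives of the nontrivial linear characters -/
theorem FrobAb.exists_reps (h : FrobAb P m) :
    ∃ (r : ℕ) (ψ : Fin r → (P →* ℂˣ)), m * r + 1 = Nat.card P ∧ (∀ i, ψ i ≠ 1) ∧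
      (∀ φ : P →* ℂˣ, φ ≠ 1 → ∃ i, Rel φ (ψ i)) ∧ (∀ i j, Rel (ψ i) (ψ j) → i = j) := by
  classical
  have := finite_dual (P := P)
  have := Fintype.ofFinite (P →* ℂˣ)
  let S : Setoid {φ : P →* ℂˣ // φ ≠ 1} :=
    { r := fun a b => Rel a.1 b.1
      iseqv := ⟨fun a => Rel.refl _, fun h => h.symm, fun h h' => h.trans h'⟩ }
  have hfin : Finite (Quotient S) := inferInstance
  let e : Quotient S ≃ Fin (Nat.card (Quotient S)) := Finite.equivFin _
  have := Fintype.ofFinite (Quotient S)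
  have hout : ∀ q : Quotient S, (Quotient.mk S q.out) = q := fun q => Quotient.out_eq q
  refine ⟨Nat.card (Quotient S), fun i => (e.symm i).out.1, ?_, fun i => (e.symm i).out.2, ?_, ?_⟩
  · have h1 : Nat.card {φ : P →* ℂˣ // φ ≠ 1} = m * Nat.card (Quotient S) := by
      rw [Nat.card_congr (Equiv.sigmaFiberEquiv (fun a : {φ : P →* ℂˣ // φ ≠ 1} =>
        (Quotient.mk S a))).symm, Nat.card_sigma]
      have h2 : ∀ q : Quotient S, Nat.card {a : {φ : P →* ℂˣ // φ ≠ 1} // Quotient.mk S a = q} = m := by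
        intro q
        rw [← h.card_orbit q.out.2]
        refine Nat.card_congr
          { toFun := fun a => ⟨a.1.1, ?_⟩
            invFun := fun φ => ⟨⟨φ.1, φ.2.ne_one q.out.2⟩, ?_⟩
            left_inv := fun a => rfl
            right_inv := fun a => rfl }
        · have h3 : Quotient.mk S a.1 = Quotient.mk S q.out := by rw [a.2, hout]
          exact Quotient.exact h3
        · have h3 : Quotient.mk S ⟨φ.1, φ.2.ne_one q.out.2⟩ = Quotient.mk S q.out :=
            Quotient.sound φ.2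
          rw [h3, hout]
      rw [Finset.sum_congr rfl (fun q _ => h2 q), Finset.sum_const, smul_eq_mul, Finset.card_univ,
        ← Nat.card_eq_fintype_card, mul_comm]
    have h4 : Nat.card {φ : P →* ℂˣ // φ ≠ 1} + 1 = Nat.card (P →* ℂˣ) := by
      have h5 : Nat.card {φ : P →* ℂˣ // φ ≠ 1} = (Finset.univ.erase (1 : P →* ℂˣ)).card := by
        rw [Nat.card_eq_fintype_card, Fintype.card_subtype]
        congr 1
        ext φ; simp
      rw [h5, Finset.card_erase_of_mem (Finset.mem_univ _), Finset.card_univ,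
        Nat.card_eq_fintype_card]
      have : 0 < Fintype.card (P →* ℂˣ) := Fintype.card_pos
      omega
    rw [← h1, h4, card_dual h.hab]
  · intro φ hφ
    refine ⟨e (Quotient.mk S ⟨φ, hφ⟩), ?_⟩
    beta_reduce
    rw [Equiv.symm_apply_apply]
    have h3 : Quotient.mk S ⟨φ, hφ⟩ = Quotient.mk S (Quotient.mk S ⟨φ, hφ⟩).out := (hout _).symm
    exact Quotient.exact h3
  · intro i j hij
    have h3 : Quotient.mk S (e.symm i).out = Quotient.mk S (e.symm j).out := Quotient.sound hij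
    rw [hout, hout] at h3
    exact e.symm.injective h3

theorem isCharacter_lin (φ : P →* ℂˣ) : IsCharacter P (lin φ) :=
  Cfsg.Agent.Char.isCharacter_of_hom ((Units.coeHom ℂ).comp φ)

theorem isGen_lin (φ : P →* ℂˣ) : IsGeneralizedCharacter P (lin φ) :=
  ⟨lin φ + lin φ, lin φ, by
    obtain h := isCharacter_lin φ
    exact isCharacter_add h h, isCharacter_lin φ, by simp⟩

end reps

section col

variable {G : Type u} [Group G] [Finite G] {P : Subgroup G} {m p : ℕ}

/-- multiplicity of `φ` in the restriction of `χ` -/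
noncomputable def cc (P : Subgroup G) (χ : IrrCharacter G) (φ : P →* ℂˣ) : ℤ :=
  Classical.choose (aCol_int (isGen_lin φ) χ)

theorem cc_spec (χ : IrrCharacter G) (φ : P →* ℂˣ) : aCol P (lin φ) χ = cc P χ φ :=
  Classical.choose_spec (aCol_int (isGen_lin φ) χ)

open Classical in
/-- the expected inner products -/
noncomputable def jj (m : ℕ) (φ η : P →* ℂˣ) : ℤ :=
  if η = 1 then (if φ = 1 then m else 0) else (if Rel φ η then 1 else 0)

theorem FrobAb.fib_eq (h : FrobAb P m) (φ η : P →* ℂˣ) :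
    (fib φ η : ℤ) = Nat.card (Subgroup.centralizer (P : Set G)) * jj m φ η := by
  unfold jj
  by_cases hη : η = 1
  · subst hη
    by_cases hφ : φ = 1
    · subst hφ
      rw [fib_one_one, h.card_N]; simp [mul_comm]
    · rw [fib_one_right hφ]; simp [hφ]
  · by_cases hr : Rel φ η
    · rw [h.fib_of_rel hη hr]; simp [hη, hr]
    · rw [fib_of_not_rel hr]; simp [hη, hr]

/-- `χ` restricted to `P` in terms of the multiplicities -/
theorem eq_sum_cc (hab : ∀ a ∈ P, ∀ b ∈ P, a * b = b * a) [Fintype (P →* ℂˣ)] (χ : IrrCharacter G)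
    (y : P) : (χ : G → ℂ) y = ∑ φ : P →* ℂˣ, (cc P χ φ : ℂ) * ((φ y : ℂˣ) : ℂ) := by
  classical
  have := Fintype.ofFinite P
  have hPc : (Nat.card P : ℂ) ≠ 0 := by exact_mod_cast (Nat.card_pos (α := P)).ne'
  have h1 : ∀ φ : P →* ℂˣ, (cc P χ φ : ℂ) * ((φ y : ℂˣ) : ℂ) =
      (Nat.card P : ℂ)⁻¹ * ∑ z : P, (χ : G → ℂ) z * ((φ (z⁻¹ * y) : ℂˣ) : ℂ) := by
    intro φ
    rw [← cc_spec, aCol_eq_sum, mul_assoc, Finset.sum_mul]
    congr 1
    refine Finset.sum_congr rfl fun z _ => ?_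
    rw [lin_apply, map_mul, Units.val_mul, mul_assoc]
  rw [Finset.sum_congr rfl (fun φ _ => h1 φ), ← Finset.mul_sum, Finset.sum_comm]
  rw [Finset.sum_eq_single y]
  · have : ∀ φ : P →* ℂˣ, (χ : G → ℂ) y * ((φ (y⁻¹ * y) : ℂˣ) : ℂ) = (χ : G → ℂ) y := by
      intro φ; rw [inv_mul_cancel, map_one, Units.val_one, mul_one]
    rw [Finset.sum_congr rfl (fun φ _ => this φ), Finset.sum_const, Finset.card_univ,
      ← Nat.card_eq_fintype_card, card_dual hab, nsmul_eq_mul, ← mul_assoc, inv_mul_cancel₀ hPc,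
      one_mul]
  · intro z _ hz
    rw [← Finset.mul_sum, sum_dual hab, mul_zero]
    intro h
    apply hz
    rw [inv_mul_eq_one] at h
    exact h
  · intro h; exact absurd (Finset.mem_univ _) h

/-- invariance of multiplicities -/
theorem cc_rel (χ : IrrCharacter G) {φ η : P →* ℂˣ} (h : Rel φ η) : cc P χ φ = cc P χ η := by
  classical
  have := Fintype.ofFinite P
  obtain ⟨x, rfl⟩ := h
  have h1 : aCol P (lin (pull x η)) χ = aCol P (lin η) χ := by
    rw [aCol_eq_sum, aCol_eq_sum]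
    congr 1
    have hbij : Function.Bijective (cN x) := by
      apply Function.Injective.bijective_of_finite
      intro a b hab
      have h2 := congrArg Subtype.val hab
      simp only [cN_coe] at h2
      exact Subtype.ext (by simpa using h2)
    refine Fintype.sum_bijective (cN x) hbij _ _ fun y => ?_
    rw [cN_coe, irr_isClassFunction χ, lin_apply, lin_apply, pull_apply, map_inv (cN x)]
  rw [cc_spec, cc_spec] at h1
  exact_mod_cast h1

variable {M : Ideal AlgInt}

/-- standing hypotheses -/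
structure AbSyl (p : ℕ) (M : Ideal AlgInt) (P : Subgroup G) (m : ℕ) : Prop extends FrobAb P m where
  pg : IsPGroup p P
  fus : ∀ u ∈ P, ∀ g : G, g * u * g⁻¹ ∈ P →
    ∃ n ∈ Subgroup.normalizer (P : Set G), n * u * n⁻¹ = g * u * g⁻¹
  wt : ∀ y ∈ P, y ≠ 1 → ((∑ᶠ ψ ∈ principalBlock M ↥(Subgroup.centralizer ({y} : Set G)),
      charDegree (ψ : ↥(Subgroup.centralizer ({y} : Set G)) → ℂ) ^ 2) : ℚ) = Nat.card P
  sect : ∀ y ∈ P, y ≠ 1 → ∀ z : G, IsPPart p z y → ∀ χ ∈ principalBlock M G,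
    (χ : G → ℂ) z = (χ : G → ℂ) y

theorem aCol_sub (θ θ' : P → ℂ) (χ : IrrCharacter G) :
    aCol P (θ - θ') χ = aCol P θ χ - aCol P θ' χ := by
  have := Fintype.ofFinite P
  rw [aCol_eq_sum, aCol_eq_sum, aCol_eq_sum, ← mul_sub, ← Finset.sum_sub_distrib]
  congr 1
  refine Finset.sum_congr rfl fun y _ => ?_
  rw [Pi.sub_apply]; ring

open Classical in
/-- the Gram relation -/
theorem AbSyl.gram [Fact p.Prime] [Fintype (IrrCharacter G)] (h : AbSyl p M P m)
    (hM : IsPModular p M) (φ₁ φ₂ η : P →* ℂˣ) :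
    ∑ χ : IrrCharacter G, (if χ ∈ principalBlock M G then
      (cc P χ φ₁ - cc P χ φ₂) * cc P χ η else 0) = jj m φ₁ η - jj m φ₂ η := by
  have := Fintype.ofFinite G
  have := Fintype.ofFinite P
  have := Fintype.ofFinite (Subgroup.normalizer (P : Set G))
  have hPc : (Nat.card P : ℂ) ≠ 0 := by exact_mod_cast (Nat.card_pos (α := P)).ne'
  have hCc : (Nat.card (Subgroup.centralizer (P : Set G)) : ℂ) ≠ 0 := by
    exact_mod_cast (Nat.card_pos (α := Subgroup.centralizer (P : Set G))).ne'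
  have hCq : (Nat.card (Subgroup.centralizer (P : Set G)) : ℚ) ≠ 0 := by
    exact_mod_cast (Nat.card_pos (α := Subgroup.centralizer (P : Set G))).ne'
  set w : ℚ := (Nat.card P : ℚ) / (Nat.card (Subgroup.centralizer (P : Set G)) : ℚ) with hw
  have h1 := column_inner hM h.pg (N := Subgroup.normalizer (P : Set G)) le_rfl
    {y : G | y ∈ P ∧ y ≠ 1} (fun u hu g hg => h.fus u hu.1 g hg) w (by
      rintro y ⟨hy, hy1⟩
      rw [h.wt y hy hy1, inf_comm, h.frob y hy hy1, hw, div_mul_cancel₀ _ hCq])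
    (lin φ₁ - lin φ₂) (lin η) (by
      intro y hy
      have : y = 1 := by
        by_contra hne
        exact hy ⟨y.2, fun h2 => hne (Subtype.ext h2)⟩
      rw [this]; simp)
  rw [finsum_mem_eq_sum_ite (principalBlock M G)
    (fun χ => aCol P (lin φ₁ - lin φ₂) χ * conj (aCol P (lin η) χ))] at h1
  have h2 : ∑ᶠ y : P, (lin φ₁ - lin φ₂) y * conj (∑ᶠ x : Subgroup.normalizer (P : Set G),
      extendByZero P (lin η) ((x : G) * (y : G) * (x : G)⁻¹)) =
      (Nat.card P : ℂ) * ((fib φ₁ η : ℂ) - (fib φ₂ η : ℂ)) := by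
    rw [finsum_eq_sum_of_fintype]
    have h3 : ∀ y : P, (lin φ₁ - lin φ₂) y * conj (∑ᶠ x : Subgroup.normalizer (P : Set G),
        extendByZero P (lin η) ((x : G) * (y : G) * (x : G)⁻¹)) =
        ∑ x : Subgroup.normalizer (P : Set G),
          (lin φ₁ y * conj (lin (pull x η) y) - lin φ₂ y * conj (lin (pull x η) y)) := by
      intro y
      rw [finsum_eq_sum_of_fintype, map_sum, Finset.mul_sum]
      refine Finset.sum_congr rfl fun x _ => ?_
      have hmem : (x : G) * (y : G) * (x : G)⁻¹ ∈ P := (cN x y).2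
      rw [extendByZero_apply _ hmem, Pi.sub_apply, sub_mul]
      rfl
    rw [Finset.sum_congr rfl (fun y _ => h3 y), Finset.sum_comm]
    have h4 : ∀ (φ : P →* ℂˣ) (x : Subgroup.normalizer (P : Set G)),
        ∑ y : P, lin φ y * conj (lin (pull x η) y) =
          (Nat.card P : ℂ) * (if pull x η = φ then 1 else 0) := by
      intro φ x
      have h5 := ci_lin φ (pull x η)
      unfold classInner at h5
      rw [inv_mul_eq_iff_eq_mul₀ hPc] at h5
      rw [h5]
      congr 1
      by_cases hc : φ = pull x η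
      · rw [if_pos hc, if_pos hc.symm]
      · rw [if_neg hc, if_neg (fun h => hc h.symm)]
    have h6 : ∀ x : Subgroup.normalizer (P : Set G), ∑ y : P,
        (lin φ₁ y * conj (lin (pull x η) y) - lin φ₂ y * conj (lin (pull x η) y)) =
        (Nat.card P : ℂ) * (if pull x η = φ₁ then 1 else 0) -
        (Nat.card P : ℂ) * (if pull x η = φ₂ then 1 else 0) := by
      intro x
      rw [Finset.sum_sub_distrib, h4, h4]
    rw [Finset.sum_congr rfl (fun x _ => h6 x), Finset.sum_sub_distrib, ← Finset.mul_sum,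
      ← Finset.mul_sum, ← mul_sub]
    congr 1
    have h7 : ∀ φ : P →* ℂˣ, ∑ x : Subgroup.normalizer (P : Set G),
        (if pull x η = φ then (1 : ℂ) else 0) = (fib φ η : ℂ) := by
      intro φ
      rw [Finset.sum_boole]
      unfold fib
      rw [Nat.card_eq_fintype_card, Fintype.card_subtype]
    rw [h7, h7]
  rw [h2] at h1
  have h8 : ∀ φ : P →* ℂˣ, (fib φ η : ℂ) =
      (Nat.card (Subgroup.centralizer (P : Set G)) : ℂ) * (jj m φ η : ℂ) := by
    intro φ
    have := h.toFrobAb.fib_eq φ η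
    exact_mod_cast congrArg (fun z : ℤ => (z : ℂ)) this
  have h9 : ((w : ℚ) : ℂ) = (Nat.card P : ℂ) / (Nat.card (Subgroup.centralizer (P : Set G)) : ℂ) := by
    rw [hw]; push_cast; rfl
  have h10 : ((∑ χ : IrrCharacter G, (if χ ∈ principalBlock M G then
      (cc P χ φ₁ - cc P χ φ₂) * cc P χ η else 0) : ℤ) : ℂ) = ((jj m φ₁ η - jj m φ₂ η : ℤ) : ℂ) := by
    have h11 : ((jj m φ₁ η - jj m φ₂ η : ℤ) : ℂ) = (w : ℂ) / (Nat.card P : ℂ) ^ 2 *
        ((Nat.card P : ℂ) * ((fib φ₁ η : ℂ) - (fib φ₂ η : ℂ))) := by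
      rw [h8, h8, h9]
      push_cast
      field_simp
    rw [h11, ← h1, Int.cast_sum]
    refine Finset.sum_congr rfl fun χ _ => ?_
    split_ifs
    · rw [aCol_sub, cc_spec, cc_spec, cc_spec, map_intCast]
      push_cast; rfl
    · simp
  exact_mod_cast h10

open Classical in
/-- the columns are orthogonal to `p`-regular columns -/
theorem AbSyl.reg [Fact p.Prime] [Fintype (IrrCharacter G)] (h : AbSyl p M P m)
    (hM : IsPModular p M) (φ₁ φ₂ : P →* ℂˣ) {g : G} (hg : ¬ p ∣ orderOf g) :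
    ∑ χ : IrrCharacter G, (if χ ∈ principalBlock M G then
      ((cc P χ φ₁ - cc P χ φ₂ : ℤ) : ℂ) * (χ : G → ℂ) g else 0) = 0 := by
  haveI := isPrime_of_isPModular hM
  have h1 := sum_aCol_mul_eq_zero (principalBlock M G) P (lin φ₁ - lin φ₂)
    (fun χ => (χ : G → ℂ) g) (by
      intro y hy
      have hy1 : y ≠ 1 := by
        rintro rfl
        apply hy; simp
      have h2 := orth_ite hM (isPBlock_principalBlock (M := M) (G := G))
        (isPPart_self (exists_pow_of_isPGroup h.pg y.2) hM.1)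
        (h := g⁻¹) (y := 1) ⟨g⁻¹, by simp, Commute.one_left _, ⟨0, by simp⟩, by
          rwa [orderOf_inv]⟩ (fun hc => by
          rw [isConj_comm, isConj_one_right] at hc
          exact hy1 (Subtype.ext hc))
      refine Eq.trans ?_ h2
      refine Finset.sum_congr rfl fun χ _ => ?_
      rw [← irr_inv, inv_inv])
  refine Eq.trans ?_ h1
  refine Finset.sum_congr rfl fun χ _ => ?_
  rw [aCol_sub, cc_spec, cc_spec]
  push_cast; rfl

section core

variable [Fact p.Prime] [Fintype (IrrCharacter G)]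

theorem ci_comb [Fintype G] (a : IrrCharacter G → ℂ) (ψ : IrrCharacter G) :
    classInner (∑ χ : IrrCharacter G, a χ • (χ : G → ℂ)) (ψ : G → ℂ) = a ψ := by
  classical
  rw [ci_sum_left, Finset.sum_eq_single ψ]
  · rw [ci_smul_left, classInner_irr, if_pos rfl, mul_one]
  · intro χ _ hχ
    rw [ci_smul_left, classInner_irr, if_neg hχ, mul_zero]
  · intro h; exact absurd (Finset.mem_univ _) h

theorem ci_comb_comb [Fintype G] (a b : IrrCharacter G → ℤ) :
    classInner (∑ χ : IrrCharacter G, (a χ : ℂ) • (χ : G → ℂ))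
      (∑ χ : IrrCharacter G, (b χ : ℂ) • (χ : G → ℂ)) = ((∑ χ : IrrCharacter G, a χ * b χ : ℤ) : ℂ) := by
  rw [ci_sum_right]
  push_cast
  refine Finset.sum_congr rfl fun χ _ => ?_
  rw [ci_smul_right, ci_comb, map_intCast, mul_comm]

theorem comb_apply (a : IrrCharacter G → ℂ) (g : G) :
    (∑ χ : IrrCharacter G, a χ • (χ : G → ℂ)) g = ∑ χ : IrrCharacter G, a χ * (χ : G → ℂ) g := by
  rw [Finset.sum_apply]
  rfl

theorem isGen_comb (a : IrrCharacter G → ℤ) :
    IsGeneralizedCharacter G (∑ χ : IrrCharacter G, (a χ : ℂ) • (χ : G → ℂ)) := by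
  have := Fintype.ofFinite G
  rw [isGeneralizedCharacter_iff]
  refine ⟨?_, fun χ => ⟨a χ, ci_comb _ χ⟩⟩
  intro g h
  rw [comb_apply, comb_apply]
  refine Finset.sum_congr rfl fun χ _ => ?_
  rw [irr_isClassFunction χ]

open Classical in
theorem AbSyl.core (h : AbSyl p M P m) (hM : IsPModular p M) {r : ℕ} (hr : 2 ≤ r)
    (ψ : Fin r → (P →* ℂˣ)) (hψ1 : ∀ i, ψ i ≠ 1) (hψ : ∀ i j, Rel (ψ i) (ψ j) → i = j) :
    ∃ (ε : ℤ) (μ : Fin r → IrrCharacter G) (A E : ℤ), (ε = 1 ∨ ε = -1) ∧ Function.Injective μ ∧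
      (∀ i, μ i ∈ principalBlock M G) ∧
      (∀ χ ∈ principalBlock M G, ∀ i j, cc P χ (ψ i) - cc P χ (ψ j) =
        ε * ((if χ = μ i then 1 else 0) - (if χ = μ j then 1 else 0))) ∧
      (∀ i, cc P (μ i) 1 = A) ∧ ∀ i k, cc P (μ i) (ψ k) = E + ε * (if i = k then 1 else 0) := by
  haveI := isPrime_of_isPModular hM
  have := Fintype.ofFinite G
  set B := principalBlock M G with hB
  let i₀ : Fin r := ⟨0, by omega⟩
  have hjj : ∀ i j, jj m (ψ i) (ψ j) = if i = j then 1 else 0 := by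
    intro i j
    unfold jj
    rw [if_neg (hψ1 j)]
    by_cases hij : i = j
    · subst hij; rw [if_pos (Rel.refl _), if_pos rfl]
    · rw [if_neg (fun h2 => hij (hψ i j h2)), if_neg hij]
  let a : Fin r → IrrCharacter G → ℤ := fun i χ =>
    if χ ∈ B then cc P χ (ψ i) - cc P χ (ψ i₀) else 0
  let τ : Fin r → (G → ℂ) := fun i => ∑ χ : IrrCharacter G, (a i χ : ℂ) • (χ : G → ℂ)
  obtain ⟨ε, hε, μ, hμ, hinj, hτ⟩ := H78.exists_irr_of_gram r i₀ τ (by
      change ∑ χ : IrrCharacter G, (a i₀ χ : ℂ) • (χ : G → ℂ) = 0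
      refine Finset.sum_eq_zero fun χ _ => ?_
      have : a i₀ χ = 0 := by
        change (if χ ∈ B then cc P χ (ψ i₀) - cc P χ (ψ i₀) else 0) = 0
        rw [sub_self, ite_self]
      rw [this]; simp) (fun i => isGen_comb _) (by
      intro i
      change (∑ χ : IrrCharacter G, (a i χ : ℂ) • (χ : G → ℂ)) 1 = 0
      rw [comb_apply]
      have h1 := h.reg hM (ψ i) (ψ i₀) (g := 1) (by
        rw [orderOf_one]; exact hM.1.one_lt.ne' ∘ Nat.dvd_one.mp)
      refine Eq.trans ?_ h1
      refine Finset.sum_congr rfl fun χ _ => ?_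
      change ((if χ ∈ B then cc P χ (ψ i) - cc P χ (ψ i₀) else 0 : ℤ) : ℂ) * _ = _
      split_ifs
      · rfl
      · simp) (by
      intro i j hi hj
      change classInner (∑ χ : IrrCharacter G, (a i χ : ℂ) • (χ : G → ℂ))
        (∑ χ : IrrCharacter G, (a j χ : ℂ) • (χ : G → ℂ)) = _
      rw [ci_comb_comb]
      have h1 := h.gram hM (ψ i) (ψ i₀) (ψ j)
      have h2 := h.gram hM (ψ i) (ψ i₀) (ψ i₀)
      have h3 : ∑ χ : IrrCharacter G, a i χ * a j χ =
          (jj m (ψ i) (ψ j) - jj m (ψ i₀) (ψ j)) - (jj m (ψ i) (ψ i₀) - jj m (ψ i₀) (ψ i₀)) := by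
        rw [← h1, ← h2, ← Finset.sum_sub_distrib]
        refine Finset.sum_congr rfl fun χ _ => ?_
        change (if χ ∈ B then cc P χ (ψ i) - cc P χ (ψ i₀) else 0) *
          (if χ ∈ B then cc P χ (ψ j) - cc P χ (ψ i₀) else 0) = _
        split_ifs
        · ring
        · simp
      rw [h3, hjj, hjj, hjj, hjj, if_neg hi, if_neg (show ¬ i₀ = j from fun h2 => hj h2.symm),
        if_pos (rfl : i₀ = i₀)]
      by_cases hij : i = j
      · rw [if_pos hij, if_pos hij]; norm_num
      · rw [if_neg hij, if_neg hij]; norm_num)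
  let μ' : Fin r → IrrCharacter G := fun i => ⟨μ i, hμ i⟩
  have hμ'c : ∀ i, ((μ' i : IrrCharacter G) : G → ℂ) = μ i := fun i => rfl
  have hinj' : Function.Injective μ' := fun i j hij => hinj (congrArg (fun x : IrrCharacter G => (x : G → ℂ)) hij)
  obtain ⟨ε', hε', hεc⟩ : ∃ ε' : ℤ, (ε' = 1 ∨ ε' = -1) ∧ ε = (ε' : ℂ) := by
    rcases hε with h1 | h1
    · exact ⟨1, Or.inl rfl, by rw [h1]; norm_num⟩
    · exact ⟨-1, Or.inr rfl, by rw [h1]; norm_num⟩
  have hdiff : ∀ (χ : IrrCharacter G) (i : Fin r), a i χ =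
      ε' * ((if χ = μ' i then 1 else 0) - (if χ = μ' i₀ then 1 else 0)) := by
    intro χ i
    have h1 : classInner (τ i) (χ : G → ℂ) = (a i χ : ℂ) := ci_comb _ χ
    rw [hτ i, ci_smul_left, ci_sub_left, ← hμ'c i, ← hμ'c i₀, classInner_irr, classInner_irr,
      hεc] at h1
    have h2 : ((ε' * ((if μ' i = χ then 1 else 0) - (if μ' i₀ = χ then 1 else 0)) : ℤ) : ℂ) =
        ((a i χ : ℤ) : ℂ) := by
      rw [← h1]; push_cast; rfl
    have h3 := Int.cast_injective h2
    rw [← h3]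
    congr 2
    · simp only [eq_comm]
    · simp only [eq_comm]
  -- membership
  let i₁ : Fin r := ⟨1, by omega⟩
  have hi01 : i₁ ≠ i₀ := by
    intro h1
    have := congrArg Fin.val h1
    simp [i₁, i₀] at this
  have hε0 : ε' ≠ 0 := by rcases hε' with h1 | h1 <;> rw [h1] <;> norm_num
  have hmem : ∀ i, μ' i ∈ B := by
    have haux : ∀ (χ : IrrCharacter G) (i : Fin r), a i χ ≠ 0 → χ ∈ B := by
      intro χ i h1
      by_contra h2
      exact h1 (if_neg h2)
    intro i
    by_cases hi : i = i₀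
    · apply haux _ i₁
      rw [hdiff, hi, if_neg (fun h1 => hi01 (hinj' h1).symm), if_pos rfl]
      simpa using hε0
    · apply haux _ i
      rw [hdiff, if_pos rfl, if_neg (fun h1 => hi (hinj' h1))]
      simpa using hε0
  have hdiff' : ∀ χ ∈ B, ∀ i j, cc P χ (ψ i) - cc P χ (ψ j) =
      ε' * ((if χ = μ' i then 1 else 0) - (if χ = μ' j then 1 else 0)) := by
    intro χ hχ i j
    have h1 := hdiff χ i
    have h2 := hdiff χ j
    have h3 : ∀ k, a k χ = cc P χ (ψ k) - cc P χ (ψ i₀) := fun k => if_pos hχ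
    rw [h3] at h1 h2
    linear_combination h1 - h2
  -- Gram relation against arbitrary `η`
  have hsum : ∀ (i j : Fin r) (η : P →* ℂˣ), ε' * (cc P (μ' i) η - cc P (μ' j) η) =
      jj m (ψ i) η - jj m (ψ j) η := by
    intro i j η
    rw [← h.gram hM (ψ i) (ψ j) η]
    have h1 : ∀ χ : IrrCharacter G, (if χ ∈ B then (cc P χ (ψ i) - cc P χ (ψ j)) * cc P χ η else 0) =
        (if χ = μ' i then ε' * cc P χ η else 0) - (if χ = μ' j then ε' * cc P χ η else 0) := by
      intro χ
      by_cases hχ : χ ∈ B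
      · rw [if_pos hχ, hdiff' χ hχ]
        split_ifs <;> ring
      · rw [if_neg hχ, if_neg (show ¬ χ = μ' i from fun h2 => hχ (by rw [h2]; exact hmem i)),
          if_neg (show ¬ χ = μ' j from fun h2 => hχ (by rw [h2]; exact hmem j)), sub_self]
    rw [Finset.sum_congr rfl (fun χ _ => h1 χ), Finset.sum_sub_distrib, Finset.sum_ite_eq',
      Finset.sum_ite_eq', if_pos (Finset.mem_univ _), if_pos (Finset.mem_univ _)]
    ring
  refine ⟨ε', μ', cc P (μ' i₀) 1, cc P (μ' i₀) (ψ i₀) - ε', hε', hinj', hmem, ?_, ?_, ?_⟩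
  · intro χ hχ i j
    rw [hdiff' χ hχ i j]
    congr!
  · intro i
    have h1 := hsum i i₀ 1
    have h2 : ∀ j, jj m (ψ j) (1 : P →* ℂˣ) = 0 := by
      intro j
      unfold jj
      rw [if_pos rfl, if_neg (hψ1 j)]
    rw [h2, h2, sub_self] at h1
    have h3 := (mul_eq_zero.1 h1).resolve_left hε0
    linarith
  · intro i k
    have h1 := hsum i i₀ (ψ k)
    rw [hjj, hjj] at h1
    have h2 := hdiff' (μ' i₀) (hmem i₀) k i₀
    rw [if_pos rfl] at h2
    have h4 : (if μ' i₀ = μ' k then (1 : ℤ) else 0) = if i₀ = k then 1 else 0 := by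
      by_cases hk : i₀ = k
      · rw [if_pos hk, if_pos (by rw [hk])]
      · rw [if_neg hk, if_neg (fun h5 => hk (hinj' h5))]
    rw [h4] at h2
    have hee : ε' * ε' = 1 := by rcases hε' with h5 | h5 <;> rw [h5] <;> norm_num
    have h5 : cc P (μ' i) (ψ k) - cc P (μ' i₀) (ψ k) =
        ε' * ((if i = k then 1 else 0) - (if i₀ = k then 1 else 0)) := by
      rw [← h1, ← mul_assoc, hee, one_mul]
    linear_combination h5 + h2

end core

end col

end Cfsg.Agent.H79
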