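import Mathlib
import Cfsg.Agent.H25.LinChar

/-!
# The dual of an abelian `p`-subgroup with a fixed point free action of `N/C`
-/

set_option autoImplicit false
set_option linter.unusedSectionVars false
set_option linter.style.haveILetI false
set_option linter.unusedVariables false

namespace Cfsg.Agent.H79

open Cfsg Cfsg.Agent.H25
open scoped ComplexConjugate

universe u

section

variable {G : Type u} [Group G]

/-- `N_G(P)/C_G(P)` has order `m` and acts fixed point freely on the abelian group `P`. -/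
structure FrobAb (P : Subgroup G) (m : ℕ) : Prop where
  hab : ∀ a ∈ P, ∀ b ∈ P, a * b = b * a
  frob : ∀ y ∈ P, y ≠ 1 → Subgroup.centralizer ({y} : Set G) ⊓ Subgroup.normalizer (P : Set G) =
    Subgroup.centralizer (P : Set G)
  idx : (Subgroup.centralizer (P : Set G)).relIndex (Subgroup.normalizer (P : Set G)) = m

variable {P : Subgroup G} {m : ℕ}

/-- conjugation by an element of the normalizer -/
def cN (x : Subgroup.normalizer (P : Set G)) : P →* P where
  toFun w := ⟨x * w * (x : G)⁻¹, (Subgroup.mem_normalizer_iff.1 x.2 w).1 w.2⟩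
  map_one' := Subtype.ext (by simp)
  map_mul' a b := Subtype.ext (by push_cast; group)

@[simp] theorem cN_coe (x : Subgroup.normalizer (P : Set G)) (w : P) :
    ((cN x w : P) : G) = x * w * (x : G)⁻¹ := rfl

/-- pull back a linear character -/
def pull (x : Subgroup.normalizer (P : Set G)) (η : P →* ℂˣ) : P →* ℂˣ := η.comp (cN x)

@[simp] theorem pull_apply (x : Subgroup.normalizer (P : Set G)) (η : P →* ℂˣ) (w : P) :
    pull x η w = η (cN x w) := rfl

theorem pull_mul (x y : Subgroup.normalizer (P : Set G)) (η : P →* ℂˣ) :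
    pull (x * y) η = pull y (pull x η) := by
  apply MonoidHom.ext; intro w
  simp only [pull_apply]
  congr 1
  apply Subtype.ext
  simp only [cN_coe]
  push_cast
  group

@[simp] theorem pull_one (η : P →* ℂˣ) : pull 1 η = η := by
  apply MonoidHom.ext; intro w
  simp only [pull_apply]
  congr 1
  apply Subtype.ext
  simp

@[simp] theorem pull_one_right (x : Subgroup.normalizer (P : Set G)) :
    pull x (1 : P →* ℂˣ) = 1 := by
  apply MonoidHom.ext; intro w
  simp

theorem pull_eq_one_iff (x : Subgroup.normalizer (P : Set G)) (η : P →* ℂˣ) :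
    pull x η = 1 ↔ η = 1 := by
  constructor
  · intro h
    have h1 := pull_mul x x⁻¹ η
    rw [h, pull_one_right, mul_inv_cancel, pull_one] at h1
    exact h1
  · rintro rfl; exact pull_one_right x

/-- conjugacy of linear characters under the normalizer -/
def Rel (φ η : P →* ℂˣ) : Prop := ∃ x : Subgroup.normalizer (P : Set G), pull x η = φ

theorem Rel.refl (φ : P →* ℂˣ) : Rel φ φ := ⟨1, pull_one φ⟩

theorem Rel.symm {φ η : P →* ℂˣ} (h : Rel φ η) : Rel η φ := by
  obtain ⟨x, rfl⟩ := h
  exact ⟨x⁻¹, by rw [← pull_mul, mul_inv_cancel, pull_one]⟩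

theorem Rel.trans {φ η ψ : P →* ℂˣ} (h : Rel φ η) (h' : Rel η ψ) : Rel φ ψ := by
  obtain ⟨x, rfl⟩ := h
  obtain ⟨y, rfl⟩ := h'
  exact ⟨y * x, pull_mul _ _ _⟩

theorem Rel.ne_one {φ η : P →* ℂˣ} (h : Rel φ η) (hη : η ≠ 1) : φ ≠ 1 := by
  obtain ⟨x, rfl⟩ := h
  rwa [Ne, pull_eq_one_iff]

theorem rel_iff (φ η : P →* ℂˣ) : Rel φ η ↔
    ∃ n : G, n ∈ Subgroup.normalizer (P : Set G) ∧ ∀ w w' : P, (w' : G) = n * w * n⁻¹ → η w' = φ w := by
  constructor
  · rintro ⟨x, rfl⟩
    refine ⟨x, x.2, fun w w' h => ?_⟩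
    rw [pull_apply]
    congr 1
    exact Subtype.ext h
  · rintro ⟨n, hn, h⟩
    refine ⟨⟨n, hn⟩, ?_⟩
    apply MonoidHom.ext; intro w
    exact h w _ rfl

variable [Finite G]

/-- the stabilizer of a nontrivial linear character is the centralizer -/
theorem FrobAb.pull_eq_self_iff (h : FrobAb P m) {η : P →* ℂˣ} (hη : η ≠ 1)
    (x : Subgroup.normalizer (P : Set G)) :
    pull x η = η ↔ (x : G) ∈ Subgroup.centralizer (P : Set G) := by
  constructor
  · intro hx
    by_contra hxC
    apply hη
    -- the commutator map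
    let f : P →* P :=
      { toFun := fun w => cN x w * w⁻¹
        map_one' := by simp
        map_mul' := fun a b => by
          have hc : ∀ a b : P, a * b = b * a := fun a b => Subtype.ext (h.hab a a.2 b b.2)
          calc cN x (a * b) * (a * b)⁻¹ = cN x a * ((cN x b * b⁻¹) * a⁻¹) := by
                rw [map_mul, mul_inv_rev]; simp only [mul_assoc]
            _ = cN x a * (a⁻¹ * (cN x b * b⁻¹)) := by rw [hc _ a⁻¹]
            _ = cN x a * a⁻¹ * (cN x b * b⁻¹) := by simp only [mul_assoc] }
    have hinj : Function.Injective f := by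
      rw [injective_iff_map_eq_one]
      intro w hw
      by_contra hw1
      apply hxC
      have h1 : cN x w = w := mul_inv_eq_one.1 hw
      have h2 : (x : G) * w * (x : G)⁻¹ = w := congrArg Subtype.val h1
      rw [← h.frob w w.2 (fun h3 => hw1 (Subtype.ext h3))]
      refine ⟨?_, x.2⟩
      change (x : G) ∈ Subgroup.centralizer ({(w : G)} : Set G)
      rw [Subgroup.mem_centralizer_singleton_iff]
      exact mul_inv_eq_iff_eq_mul.1 h2
    have hsurj : Function.Surjective f := Finite.surjective_of_injective hinj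
    apply MonoidHom.ext; intro w
    obtain ⟨v, rfl⟩ := hsurj w
    change η (cN x v * v⁻¹) = 1
    have h3 : η (cN x v) = η v := by
      have := DFunLike.congr_fun hx v
      rwa [pull_apply] at this
    rw [map_mul, h3, map_inv, mul_inv_cancel]
  · intro hx
    apply MonoidHom.ext; intro w
    rw [pull_apply]
    congr 1
    apply Subtype.ext
    rw [cN_coe, mul_inv_eq_iff_eq_mul]
    exact (Subgroup.mem_centralizer_iff.1 hx w w.2).symm

theorem FrobAb.card_N (h : FrobAb P m) : Nat.card (Subgroup.normalizer (P : Set G)) =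
    m * Nat.card (Subgroup.centralizer (P : Set G)) := by
  have hle : Subgroup.centralizer (P : Set G) ≤ Subgroup.normalizer (P : Set G) :=
    Subgroup.centralizer_le_normalizer _
  rw [← h.idx, mul_comm, Subgroup.relIndex, ← Nat.card_congr (Subgroup.subgroupOfEquivOfLe hle).toEquiv,
    Subgroup.card_mul_index]

theorem FrobAb.m_pos (h : FrobAb P m) : 0 < m := by
  have h1 := h.card_N
  rcases Nat.eq_zero_or_pos m with h0 | h0
  · rw [h0, zero_mul] at h1
    exact absurd h1 Nat.card_pos.ne'
  · exact h0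

/-- the number of `x` with `pull x η = φ` -/
noncomputable def fib (φ η : P →* ℂˣ) : ℕ :=
  Nat.card {x : Subgroup.normalizer (P : Set G) // pull x η = φ}

theorem FrobAb.fib_of_rel (h : FrobAb P m) {φ η : P →* ℂˣ} (hη : η ≠ 1) (hr : Rel φ η) :
    fib φ η = Nat.card (Subgroup.centralizer (P : Set G)) := by
  obtain ⟨x₀, rfl⟩ := hr
  have hle : Subgroup.centralizer (P : Set G) ≤ Subgroup.normalizer (P : Set G) :=
    Subgroup.centralizer_le_normalizer _
  refine Nat.card_congr
    { toFun := fun x => ⟨((x.1 * x₀⁻¹ : Subgroup.normalizer (P : Set G)) : G), ?_⟩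
      invFun := fun c => ⟨⟨(c : G), hle c.2⟩ * x₀, ?_⟩
      left_inv := fun x => ?_
      right_inv := fun c => ?_ }
  · rw [← h.pull_eq_self_iff hη, pull_mul, x.2, ← pull_mul, mul_inv_cancel, pull_one]
  · rw [pull_mul]
    congr 1
    rw [h.pull_eq_self_iff hη]
    exact c.2
  · apply Subtype.ext
    apply Subtype.ext
    simp
  · apply Subtype.ext
    simp

theorem fib_of_not_rel {φ η : P →* ℂˣ} (hr : ¬ Rel φ η) : fib φ η = 0 := by
  have : IsEmpty {x : Subgroup.normalizer (P : Set G) // pull x η = φ} :=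
    ⟨fun x => hr ⟨x.1, x.2⟩⟩
  exact Nat.card_of_isEmpty

theorem fib_one_one : fib (1 : P →* ℂˣ) 1 = Nat.card (Subgroup.normalizer (P : Set G)) := by
  refine Nat.card_congr (Equiv.subtypeUnivEquiv fun x => pull_one_right x)

theorem fib_one_right {φ : P →* ℂˣ} (h : φ ≠ 1) : fib φ 1 = 0 := by
  apply fib_of_not_rel
  rintro ⟨x, hx⟩
  rw [pull_one_right] at hx
  exact h hx.symm

theorem fib_one_left {η : P →* ℂˣ} (h : η ≠ 1) : fib 1 η = 0 := by
  apply fib_of_not_rel
  rintro ⟨x, hx⟩
  rw [pull_eq_one_iff] at hx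
  exact h hx

theorem finite_dual : Finite (P →* ℂˣ) := by
  have : Finite {z : ℂˣ // z ^ Nat.card P = 1} := by
    have h0 : Nat.card P ≠ 0 := Nat.card_pos.ne'
    have : NeZero (Nat.card P) := ⟨h0⟩
    exact (inferInstance : Finite (rootsOfUnity (Nat.card P) ℂ))
  refine Finite.of_injective (β := P → {z : ℂˣ // z ^ Nat.card P = 1})
    (fun φ w => ⟨φ w, by rw [← map_pow, pow_card_eq_one', map_one]⟩) ?_
  intro φ ψ h
  apply MonoidHom.ext; intro w
  exact congrArg Subtype.val (congrFun h w)

/-- the size of an orbit -/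
theorem FrobAb.card_orbit (h : FrobAb P m) {η : P →* ℂˣ} (hη : η ≠ 1) :
    Nat.card {φ : P →* ℂˣ // Rel φ η} = m := by
  classical
  have := finite_dual (P := P)
  have := Fintype.ofFinite (P →* ℂˣ)
  have := Fintype.ofFinite (Subgroup.normalizer (P : Set G))
  have := Fintype.ofFinite {φ : P →* ℂˣ // Rel φ η}
  have h1 : Nat.card (Subgroup.normalizer (P : Set G)) =
      ∑ φ : {φ : P →* ℂˣ // Rel φ η}, fib φ.1 η := by
    rw [Nat.card_congr (Equiv.sigmaFiberEquiv
      (fun x : Subgroup.normalizer (P : Set G) =>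
        (⟨pull x η, x, rfl⟩ : {φ : P →* ℂˣ // Rel φ η}))).symm]
    rw [Nat.card_sigma]
    refine Finset.sum_congr rfl fun φ _ => ?_
    unfold fib
    refine Nat.card_congr (Equiv.subtypeEquivRight fun x => ?_)
    rw [Subtype.ext_iff]
  have h2 : ∀ φ : {φ : P →* ℂˣ // Rel φ η}, fib φ.1 η = Nat.card (Subgroup.centralizer (P : Set G)) :=
    fun φ => h.fib_of_rel hη φ.2
  rw [Finset.sum_congr rfl (fun φ _ => h2 φ), Finset.sum_const, smul_eq_mul, Finset.card_univ,
    ← Nat.card_eq_fintype_card, h.card_N] at h1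
  exact (Nat.eq_of_mul_eq_mul_right Nat.card_pos h1).symm

end

end Cfsg.Agent.H79
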