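import Cfsg.Agent.H79.AbelCol
import Cfsg.Agent.Transfer.NPC
import Cfsg.Agent.BG.Core

/-!
# Abelian Sylow subgroups with Frobenius-like normalizers: the principal block
-/

set_option autoImplicit false
set_option linter.unusedSectionVars false
set_option linter.style.haveILetI false
set_option linter.unusedVariables false

namespace Cfsg.Agent.H79

open Cfsg Cfsg.Agent.CharBase Cfsg.Agent.Blk Cfsg.Agent.H25
open scoped ComplexConjugate

universe u

section sylow

variable {G : Type u} [Group G] [Finite G] {p m : ℕ} [Fact p.Prime] {M : Ideal AlgInt}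

theorem npc_centralizer {P : Sylow p G} (h : FrobAb (P : Subgroup G) m) {y : G} (hy : y ∈ P)
    (hy1 : y ≠ 1) : ∃ k : ℕ, (pPrimeCore p (Subgroup.centralizer ({y} : Set G))).index = p ^ k := by
  have hle : (P : Subgroup G) ≤ Subgroup.centralizer ({y} : Set G) := by
    intro x hx
    rw [Subgroup.mem_centralizer_singleton_iff]
    exact h.hab x hx y hy
  let Q := P.subtype hle
  have hN : Subgroup.normalizer (Q : Set ↥(Subgroup.centralizer ({y} : Set G))) ≤
      Subgroup.centralizer (Q : Set ↥(Subgroup.centralizer ({y} : Set G))) := by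
    intro x hx
    have hxN : (x : G) ∈ Subgroup.normalizer ((P : Subgroup G) : Set G) := by
      rw [Subgroup.mem_normalizer_iff]
      intro w
      change x ∈ Subgroup.normalizer (((Q : Subgroup ↥(Subgroup.centralizer ({y} : Set G))) :
        Set ↥(Subgroup.centralizer ({y} : Set G)))) at hx
      rw [Subgroup.mem_normalizer_iff] at hx
      constructor
      · intro hw
        have h1 := (hx ⟨w, hle hw⟩).1 (Subgroup.mem_subgroupOf.2 hw)
        exact Subgroup.mem_subgroupOf.1 h1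
      · intro hw
        have hwC : w ∈ Subgroup.centralizer ({y} : Set G) := by
          have h2 : w = (x : G)⁻¹ * ((x : G) * w * (x : G)⁻¹) * x := by group
          rw [h2]
          exact Subgroup.mul_mem _ (Subgroup.mul_mem _ (Subgroup.inv_mem _ x.2) (hle hw)) x.2
        have h1 := (hx ⟨w, hwC⟩).2 (Subgroup.mem_subgroupOf.2 hw)
        exact Subgroup.mem_subgroupOf.1 h1
    have hxC : (x : G) ∈ Subgroup.centralizer ((P : Subgroup G) : Set G) := by
      rw [← h.frob y hy hy1]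
      exact ⟨x.2, hxN⟩
    rw [Subgroup.mem_centralizer_iff]
    intro w hw
    apply Subtype.ext
    exact Subgroup.mem_centralizer_iff.1 hxC w (Subgroup.mem_subgroupOf.1 hw)
  have hc := MonoidHom.ker_transferSylow_isComplement' Q hN
  obtain ⟨h1, k, hk⟩ := Transfer.card_index_of_isComplement' hc
  have hle' := Cfsg.Agent.Solv.le_pPrimeCore (MonoidHom.normal_ker _) h1
  have h2 : (pPrimeCore p (Subgroup.centralizer ({y} : Set G))).index ∣ p ^ k :=
    hk ▸ Subgroup.index_dvd_of_le hle'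
  obtain ⟨j, -, hj⟩ := (Nat.dvd_prime_pow (Fact.out : p.Prime)).mp h2
  exact ⟨j, hj⟩

theorem factorization_centralizer {P : Sylow p G} (h : FrobAb (P : Subgroup G) m) {y : G}
    (hy : y ∈ P) : p ^ (Nat.card (Subgroup.centralizer ({y} : Set G))).factorization p =
      Nat.card P := by
  have hle : (P : Subgroup G) ≤ Subgroup.centralizer ({y} : Set G) := by
    intro x hx
    rw [Subgroup.mem_centralizer_singleton_iff]
    exact h.hab x hx y hy
  rw [← Sylow.card_eq_multiplicity (P.subtype hle)]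
  exact BG.card_subgroupOf_of_le hle

theorem AbSyl.of_sylow (hM : IsPModular p M) {P : Sylow p G} (h : FrobAb (P : Subgroup G) m) :
    AbSyl p M (P : Subgroup G) m where
  toFrobAb := h
  pg := P.2
  fus := by
    intro u hu g hg
    have : IsMulCommutative P := ⟨⟨fun a b => Subtype.ext (h.hab a a.2 b b.2)⟩⟩
    obtain ⟨n, hn, h2⟩ := Sylow.conj_eq_normalizer_conj_of_mem P u g⁻¹ hu (by rw [inv_inv]; exact hg)
    refine ⟨n⁻¹, Subgroup.inv_mem _ hn, ?_⟩
    rw [inv_inv] at h2 ⊢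
    rw [h2]
  wt := by
    classical
    intro y hy hy1
    obtain ⟨k, hk⟩ := npc_centralizer h hy hy1
    have := Fintype.ofFinite (IrrCharacter (Subgroup.centralizer ({y} : Set G)))
    have h1 := H4.norm_sum_npc hM hk (y := 1) (by
      rw [orderOf_one]; exact hM.1.one_lt.ne' ∘ Nat.dvd_one.mp)
    rw [factorization_centralizer h hy, H4.finsum_mem_real_eq_sum_ite] at h1
    rw [finsum_mem_def, finsum_eq_sum_of_fintype]
    have h2 : ((∑ a : IrrCharacter ↥(Subgroup.centralizer ({y} : Set G)),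
        (principalBlock M ↥(Subgroup.centralizer ({y} : Set G))).indicator (fun ψ =>
          ((charDegree (ψ : ↥(Subgroup.centralizer ({y} : Set G)) → ℂ) : ℚ) ^ 2)) a : ℚ) : ℝ) =
        ((Nat.card P : ℚ) : ℝ) := by
      push_cast
      rw [← h1]
      refine Finset.sum_congr rfl fun ψ _ => ?_
      by_cases hψ : ψ ∈ principalBlock M ↥(Subgroup.centralizer ({y} : Set G))
      · rw [if_pos hψ, Set.indicator_of_mem hψ, H75.deg_spec, H75.charDegree_eq_deg]
        rw [Complex.norm_natCast]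
        push_cast; rfl
      · rw [if_neg hψ, Set.indicator_of_notMem hψ, Rat.cast_zero]
    exact_mod_cast h2
  sect := by
    rintro y hy hy1 z ⟨v, hv1, hv2, hv3, hv4⟩ χ hχ
    obtain ⟨k, hk⟩ := npc_centralizer h hy hy1
    have hvC : v ∈ Subgroup.centralizer ({y} : Set G) := by
      rw [Subgroup.mem_centralizer_singleton_iff]
      exact hv2.symm.eq
    rw [← hv1]
    refine Cfsg.Agent.S0942.result p M hM y hv3 v ?_ χ hχ
    refine ⟨⟨v, hvC⟩, ?_, rfl⟩
    exact H4.mem_of_regular_of_index hk (by rwa [Subgroup.orderOf_mk])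

end sylow

section values

variable {G : Type u} [Group G] [Finite G] {P : Subgroup G} {m p : ℕ} [Fact p.Prime]
  {M : Ideal AlgInt}

/-- the `N`-orbit sum of a linear character -/
noncomputable def orbSum (ψ : P →* ℂˣ) (y : P) : ℂ :=
  ∑ᶠ ψ' ∈ {ψ' : P →* ℂˣ | Rel ψ ψ'}, ((ψ' y : ℂˣ) : ℂ)

theorem orbSum_eq [Fintype (P →* ℂˣ)] (ψ : P →* ℂˣ) (y : P) [DecidablePred fun ψ' : P →* ℂˣ => Rel ψ' ψ] :
    orbSum ψ y = ∑ φ : P →* ℂˣ, if Rel φ ψ then ((φ y : ℂˣ) : ℂ) else 0 := by
  classical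
  unfold orbSum
  rw [finsum_mem_def, finsum_eq_sum_of_fintype]
  refine Finset.sum_congr rfl fun φ _ => ?_
  by_cases hr : Rel φ ψ
  · rw [if_pos hr, Set.indicator_of_mem (show φ ∈ {ψ' | Rel ψ ψ'} from hr.symm)]
  · rw [if_neg hr, Set.indicator_of_notMem (show φ ∉ {ψ' | Rel ψ ψ'} from fun h => hr (Rel.symm h))]

/-- a character with constant multiplicities is constant on `P \ {1}` -/
theorem value_of_const (hab : ∀ a ∈ P, ∀ b ∈ P, a * b = b * a) {χ : IrrCharacter G} {c : ℤ}
    (hc : ∀ φ : P →* ℂˣ, φ ≠ 1 → cc P χ φ = c) {y : P} (hy : y ≠ 1) :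
    (χ : G → ℂ) y = ((cc P χ 1 - c : ℤ) : ℂ) := by
  classical
  have := finite_dual (P := P)
  have := Fintype.ofFinite (P →* ℂˣ)
  rw [eq_sum_cc hab χ y]
  have h1 : ∀ φ : P →* ℂˣ, (cc P χ φ : ℂ) * ((φ y : ℂˣ) : ℂ) =
      (c : ℂ) * ((φ y : ℂˣ) : ℂ) + (if φ = 1 then ((cc P χ 1 - c : ℤ) : ℂ) else 0) := by
    intro φ
    by_cases hφ : φ = 1
    · subst hφ
      rw [if_pos rfl]
      simp
    · rw [if_neg hφ, hc φ hφ, add_zero]
  rw [Finset.sum_congr rfl (fun φ _ => h1 φ), Finset.sum_add_distrib, ← Finset.mul_sum,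
    sum_dual hab hy, mul_zero, zero_add, Finset.sum_ite_eq', if_pos (Finset.mem_univ _)]

theorem value_of_exc (hab : ∀ a ∈ P, ∀ b ∈ P, a * b = b * a) {χ : IrrCharacter G} {A E ε : ℤ}
    {ψ : P →* ℂˣ} (hψ : ψ ≠ 1) (h1 : cc P χ 1 = A) [DecidablePred fun ψ' : P →* ℂˣ => Rel ψ' ψ]
    (hc : ∀ φ : P →* ℂˣ, φ ≠ 1 → cc P χ φ = E + ε * (if Rel φ ψ then 1 else 0)) {y : P}
    (hy : y ≠ 1) :
    (χ : G → ℂ) y = ((A - E : ℤ) : ℂ) + (ε : ℂ) * orbSum ψ y := by
  classical
  have := finite_dual (P := P)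
  have := Fintype.ofFinite (P →* ℂˣ)
  rw [eq_sum_cc hab χ y, orbSum_eq]
  have h2 : ∀ φ : P →* ℂˣ, (cc P χ φ : ℂ) * ((φ y : ℂˣ) : ℂ) =
      (E : ℂ) * ((φ y : ℂˣ) : ℂ) + (if φ = 1 then ((A - E : ℤ) : ℂ) else 0) +
        (ε : ℂ) * (if Rel φ ψ then ((φ y : ℂˣ) : ℂ) else 0) := by
    intro φ
    by_cases hφ : φ = 1
    · subst hφ
      rw [if_pos rfl, if_neg (fun h => h.ne_one hψ rfl), h1]
      simp
    · rw [if_neg hφ, hc φ hφ, add_zero]
      split_ifs
      · push_cast; ring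
      · push_cast; ring
  rw [Finset.sum_congr rfl (fun φ _ => h2 φ), Finset.sum_add_distrib, Finset.sum_add_distrib,
    ← Finset.mul_sum, ← Finset.mul_sum,
    sum_dual hab hy, mul_zero, zero_add, Finset.sum_ite_eq', if_pos (Finset.mem_univ _)]

end values

end Cfsg.Agent.H79
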