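import Cfsg.Agent.H79.AvgFixC
import Cfsg.Agent.S4090
import Cfsg.Agent.H11.PQHall
import Mathlib

/-!
# Average number of fixed points of a `p`-group, part D: `p`-solvable groups
-/

set_option autoImplicit false
set_option linter.style.haveILetI false
set_option linter.unusedSectionVars false

namespace Cfsg.Agent.H79.AvgFix

open Subgroup

universe u v

theorem cc_eq {G : Type u} [Group G] [Finite G] (H A B : Subgroup G) [hA : A.Normal] (hle : A ≤ B) :
    Nat.card {u : G // u ∈ B ∧ ∀ h ∈ H, h * u * h⁻¹ * u⁻¹ ∈ A} / Nat.card A =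
      Nat.card ↥(B.map (QuotientGroup.mk' A) ⊓
        centralizer ((H.map (QuotientGroup.mk' A) : Subgroup (G ⧸ A)) : Set (G ⧸ A))) := by
  set K : Subgroup (G ⧸ A) := B.map (QuotientGroup.mk' A) ⊓
        centralizer ((H.map (QuotientGroup.mk' A) : Subgroup (G ⧸ A)) : Set (G ⧸ A)) with hK
  have hC : ∀ u, u ∈ K.comap (QuotientGroup.mk' A) ↔ u ∈ B ∧ ∀ h ∈ H, h * u * h⁻¹ * u⁻¹ ∈ A := by
    intro u
    rw [hK, Subgroup.comap_inf, Subgroup.mem_inf, Subgroup.comap_map_eq, QuotientGroup.ker_mk',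
      sup_eq_left.2 hle, Subgroup.mem_comap, Subgroup.mem_centralizer_iff]
    refine and_congr_right (fun _ => ?_)
    constructor
    · intro h1 h hh
      have h2 := h1 (QuotientGroup.mk' A h) ⟨h, hh, rfl⟩
      rw [← map_mul, ← map_mul] at h2
      have h3 := QuotientGroup.eq.1 h2
      have h4 := hA.conj_mem _ h3 (h * u)
      have h5 := inv_mem h4
      have h6 : (h * u * ((h * u)⁻¹ * (u * h)) * (h * u)⁻¹)⁻¹ = h * u * h⁻¹ * u⁻¹ := by group
      rwa [h6] at h5
    · rintro h1 _ ⟨h, hh, rfl⟩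
      rw [← map_mul, ← map_mul]
      apply QuotientGroup.eq.2
      have h4 := hA.conj_mem _ (inv_mem (h1 h hh)) (h * u)⁻¹
      have h6 : (h * u)⁻¹ * (h * u * h⁻¹ * u⁻¹)⁻¹ * (h * u)⁻¹⁻¹ = (h * u)⁻¹ * (u * h) := by group
      rwa [h6] at h4
  have h2 : Nat.card (K.comap (QuotientGroup.mk' A)) =
      Nat.card {u : G // u ∈ B ∧ ∀ h ∈ H, h * u * h⁻¹ * u⁻¹ ∈ A} :=
    Nat.card_congr (Equiv.subtypeEquivRight hC)
  rw [← h2, H11.PQ.card_comap_mk', Nat.mul_div_cancel_left _ Nat.card_pos]

/-- the number of elements conjugating `H` into `P` -/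
noncomputable def mm {G : Type u} [Group G] (P H : Subgroup G) : ℕ :=
  Nat.card {g : G // H.map (MulAut.conj g).toMonoidHom ≤ P}

theorem main_prod {G : Type u} [Group G] [Finite G] (p : ℕ) [hp : Fact p.Prime]
    (hG : Cfsg.IsPSolvable p G) (P : Sylow p G) [Fintype (P : Subgroup G)] :
    (∏ x : (P : Subgroup G), mm (P : Subgroup G) (zpowers (x : G))) ^ p ≤
      mm (P : Subgroup G) ⊥ ^ Nat.card (P : Subgroup G) *
        mm (P : Subgroup G) (P : Subgroup G) ^ ((p - 1) * Nat.card (P : Subgroup G)) := by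
  classical
  obtain ⟨n, M, h0, hn, hmono, hnormal, hfac⟩ := id hG
  set cc : Subgroup G → Fin n → ℕ := fun H i => (if ((M i.castSucc).relIndex (M i.succ)).Coprime p then
          Nat.card {u : G // u ∈ M i.succ ∧ ∀ h ∈ H, h * u * h⁻¹ * u⁻¹ ∈ M i.castSucc} / Nat.card (M i.castSucc)
          else 1) with hcc
  have hmm : ∀ H : Subgroup G, H ≤ (P : Subgroup G) →
      mm (P : Subgroup G) H = Nat.card (P : Subgroup G) * ∏ i : Fin n, cc H i := by
    intro H hH
    have hHp : IsPGroup p H := P.isPGroup'.to_le hH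
    rw [mm, ← Cfsg.Agent.S4090.card_subnormalizer_eq p H hHp P]
    exact Cfsg.Agent.S4090.result p hG H hHp P n M h0 hn hmono hnormal hfac
  have hzle : ∀ x : (P : Subgroup G), zpowers (x : G) ≤ (P : Subgroup G) := fun x => by
    rw [zpowers_le]; exact x.2
  have hcci : ∀ i : Fin n, (∏ x : (P : Subgroup G), cc (zpowers (x : G)) i) ^ p ≤
      cc ⊥ i ^ Nat.card (P : Subgroup G) * cc (P : Subgroup G) i ^ ((p - 1) * Nat.card (P : Subgroup G)) := by
    intro i
    by_cases hi : ((M i.castSucc).relIndex (M i.succ)).Coprime p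
    swap
    · simp only [hcc, if_neg hi, Finset.prod_const_one, one_pow, mul_one, le_refl]
    simp only [hcc, if_pos hi]
    set A := M i.castSucc with hA
    set B := M i.succ with hB
    haveI : A.Normal := hnormal _
    haveI : B.Normal := hnormal _
    have hle : A ≤ B := hmono i.castSucc_le_succ
    simp only [cc_eq _ A B hle]
    set F : Subgroup (G ⧸ A) := B.map (QuotientGroup.mk' A) with hF
    let φ : (P : Subgroup G) →* G ⧸ A := (QuotientGroup.mk' A).comp (P : Subgroup G).subtype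
    have e1 : ∀ x : (P : Subgroup G), (zpowers (x : G)).map (QuotientGroup.mk' A) = zpowers (φ x) :=
      fun x => MonoidHom.map_zpowers _ _
    have e2 : (P : Subgroup G).map (QuotientGroup.mk' A) = φ.range := by
      rw [MonoidHom.range_comp, Subgroup.range_subtype]
    have e3 : F ⊓ centralizer (((⊥ : Subgroup G).map (QuotientGroup.mk' A) : Subgroup (G ⧸ A)) : Set (G ⧸ A)) = F := by
      rw [Subgroup.map_bot]
      apply le_antisymm inf_le_left
      refine le_inf le_rfl ?_
      intro x _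
      rw [mem_centralizer_iff]
      intro y hy
      rw [mem_bot.1 hy, one_mul, mul_one]
    have e4 : Nat.card F = A.relIndex B := by
      have h1 : F.comap (QuotientGroup.mk' A) = B := by
        rw [hF, Subgroup.comap_map_eq, QuotientGroup.ker_mk', sup_eq_left.2 hle]
      have h2 := H11.PQ.card_comap_mk' A F
      have h3 := Subgroup.card_mul_index (A.subgroupOf B)
      rw [Nat.card_congr (Subgroup.subgroupOfEquivOfLe hle).toEquiv] at h3
      rw [h1, ← h3] at h2
      exact (Nat.eq_of_mul_eq_mul_left Nat.card_pos h2).symm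
    haveI : F.Normal := Subgroup.Normal.map inferInstance _ (QuotientGroup.mk'_surjective A)
    rw [Finset.prod_congr rfl (fun x _ => by rw [e1 x]), e2, e3]
    exact pprime_le P.isPGroup' φ F (by rw [Subgroup.normalizer_eq_top]; exact le_top) (by rw [e4]; exact hi)
  rw [Finset.prod_congr rfl (fun x _ => hmm _ (hzle x)), hmm ⊥ bot_le, hmm _ le_rfl, Finset.prod_mul_distrib,
    Finset.prod_comm, mul_pow, mul_pow, mul_pow,
    Finset.prod_const, Finset.card_univ, ← Nat.card_eq_fintype_card, ← pow_mul]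
  have h1 := Finset.prod_le_prod' (s := Finset.univ) (fun i _ => hcci i)
  rw [Finset.prod_mul_distrib, Finset.prod_pow, Finset.prod_pow, Finset.prod_pow] at h1
  have hp1 := hp.out.one_le
  have hpN : ∀ a : ℕ, a * p = a + (p - 1) * a := by
    intro a
    have h2 : (p - 1) + 1 = p := by omega
    calc a * p = a * ((p - 1) + 1) := by rw [h2]
      _ = _ := by ring
  rw [hpN, pow_add]
  refine (Nat.mul_le_mul_left _ h1).trans (le_of_eq ?_)
  ring

theorem mm_bot {G : Type u} [Group G] (P : Subgroup G) : mm P ⊥ = Nat.card G := by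
  rw [mm]
  refine Nat.card_congr (Equiv.subtypeUnivEquiv (fun g => ?_))
  rw [Subgroup.map_bot]; exact bot_le

theorem mm_self {G : Type u} [Group G] [Finite G] (p : ℕ) [hp : Fact p.Prime] (P : Sylow p G) :
    Nat.card (Sylow p G) * mm (P : Subgroup G) (P : Subgroup G) = Nat.card G := by
  have h1 : mm (P : Subgroup G) (P : Subgroup G) = Nat.card (normalizer ((P : Subgroup G) : Set G)) := by
    rw [mm]
    refine Nat.card_congr (Equiv.subtypeEquivRight (fun g => ?_))
    constructor
    · intro h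
      have h2 : (P : Subgroup G).map (MulAut.conj g).toMonoidHom = (P : Subgroup G) := by
        apply Subgroup.eq_of_le_of_card_ge h
        rw [Subgroup.card_map_of_injective (MulAut.conj g).injective]
      rw [mem_normalizer_iff]
      intro x
      constructor
      · intro hx
        exact h ⟨x, hx, rfl⟩
      · intro hx
        rw [← h2] at hx
        obtain ⟨y, hy, hyx⟩ := hx
        have : y = x := (MulAut.conj g).injective hyx
        rwa [← this]
    · rintro h _ ⟨x, hx, rfl⟩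
      exact (mem_normalizer_iff.1 h x).1 hx
  rw [h1, Sylow.card_eq_index_normalizer P]
  exact Subgroup.index_mul_card _

/-- counting `p`-elements -/
theorem count_u {G : Type u} [Group G] [Finite G] (p : ℕ) [hp : Fact p.Prime] (P : Sylow p G)
    [Fintype (P : Subgroup G)] :
    (Nat.card {g : G // ∃ k : ℕ, orderOf g = p ^ k} : ℝ) =
      Nat.card G * ∑ x : (P : Subgroup G), ((mm (P : Subgroup G) (zpowers (x : G)) : ℝ))⁻¹ := by
  classical
  haveI := Fintype.ofFinite G
  have hmmiff : ∀ y g : G, (zpowers y).map (MulAut.conj g).toMonoidHom ≤ (P : Subgroup G) ↔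
      g * y * g⁻¹ ∈ (P : Subgroup G) := by
    intro y g
    rw [MonoidHom.map_zpowers, zpowers_le]
    rfl
  have hmm : ∀ y : G, mm (P : Subgroup G) (zpowers y) =
      (Finset.univ.filter (fun g => g * y * g⁻¹ ∈ (P : Subgroup G))).card := by
    intro y
    rw [mm, Nat.card_eq_fintype_card, Fintype.card_subtype]
    congr 1
    ext g
    simp only [Finset.mem_filter, Finset.mem_univ, true_and, hmmiff]
  have hinv : ∀ y h : G, mm (P : Subgroup G) (zpowers (h * y * h⁻¹)) = mm (P : Subgroup G) (zpowers y) := by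
    intro y h
    rw [hmm, hmm]
    apply Finset.card_bij (fun g _ => g * h)
    · intro g hg
      simp only [Finset.mem_filter, Finset.mem_univ, true_and] at hg ⊢
      have e : g * h * y * (g * h)⁻¹ = g * (h * y * h⁻¹) * g⁻¹ := by group
      rw [e]; exact hg
    · intro a _ b _ hab
      exact mul_right_cancel hab
    · intro g hg
      refine ⟨g * h⁻¹, ?_, by group⟩
      simp only [Finset.mem_filter, Finset.mem_univ, true_and] at hg ⊢
      have e : g * h⁻¹ * (h * y * h⁻¹) * (g * h⁻¹)⁻¹ = g * y * g⁻¹ := by group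
      rw [e]; exact hg
  have hpel : ∀ y : G, (∃ k : ℕ, orderOf y = p ^ k) ↔ mm (P : Subgroup G) (zpowers y) ≠ 0 := by
    intro y
    rw [hmm, Finset.card_ne_zero]
    constructor
    · rintro ⟨k, hk⟩
      have h1 : IsPGroup p (zpowers y) := by
        rw [IsPGroup.iff_card]
        exact ⟨k, by rw [Nat.card_zpowers, hk]⟩
      obtain ⟨Q, hQ⟩ := h1.exists_le_sylow
      obtain ⟨g, hg⟩ := MulAction.exists_smul_eq G Q P
      refine ⟨g, ?_⟩
      simp only [Finset.mem_filter, Finset.mem_univ, true_and]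
      rw [← hg]
      exact Subgroup.smul_mem_pointwise_smul _ _ _ (hQ (mem_zpowers y))
    · rintro ⟨g, hg⟩
      simp only [Finset.mem_filter, Finset.mem_univ, true_and] at hg
      obtain ⟨k, hk⟩ := IsPGroup.iff_orderOf.1 P.isPGroup' ⟨_, hg⟩
      refine ⟨k, ?_⟩
      rw [← hk, ← Subgroup.orderOf_coe]
      exact ((MulAut.conj g).orderOf_eq y).symm
  have hterm : ∀ y : G, (∃ k : ℕ, orderOf y = p ^ k) →
      ∑ g : G, (if g * y * g⁻¹ ∈ (P : Subgroup G) then ((mm (P : Subgroup G) (zpowers y) : ℝ))⁻¹ else 0) = 1 := by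
    intro y hy
    rw [← Finset.sum_filter, Finset.sum_const, ← hmm, nsmul_eq_mul]
    apply mul_inv_cancel₀
    exact_mod_cast (hpel y).1 hy
  have h1 : (Nat.card {g : G // ∃ k : ℕ, orderOf g = p ^ k} : ℝ) =
      ∑ y ∈ Finset.univ.filter (fun y : G => ∃ k : ℕ, orderOf y = p ^ k),
        ∑ g : G, (if g * y * g⁻¹ ∈ (P : Subgroup G) then ((mm (P : Subgroup G) (zpowers y) : ℝ))⁻¹ else 0) := by
    rw [Finset.sum_congr rfl (fun y hy => hterm y (Finset.mem_filter.1 hy).2), Finset.sum_const, nsmul_eq_mul, mul_one,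
      Nat.card_eq_fintype_card, Fintype.card_subtype]
  rw [h1, Finset.sum_comm]
  have h2 : ∀ g : G, ∑ y ∈ Finset.univ.filter (fun y : G => ∃ k : ℕ, orderOf y = p ^ k),
        (if g * y * g⁻¹ ∈ (P : Subgroup G) then ((mm (P : Subgroup G) (zpowers y) : ℝ))⁻¹ else 0) =
      ∑ x : (P : Subgroup G), ((mm (P : Subgroup G) (zpowers (x : G)) : ℝ))⁻¹ := by
    intro g
    rw [← Finset.sum_filter, Finset.filter_filter]
    refine Finset.sum_bij' (fun y hy => (⟨g * y * g⁻¹, (Finset.mem_filter.1 hy).2.2⟩ : ↥(P : Subgroup G)))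
      (fun (x : ↥(P : Subgroup G)) _ => g⁻¹ * (x : G) * g) ?_ ?_ ?_ ?_ ?_
    · intro y _; exact Finset.mem_univ _
    · intro x _
      have e : g * (g⁻¹ * (x : G) * g) * g⁻¹ = x := by group
      have hx : g * (g⁻¹ * (x : G) * g) * g⁻¹ ∈ (P : Subgroup G) := by rw [e]; exact x.2
      refine Finset.mem_filter.2 ⟨Finset.mem_univ _, ?_, hx⟩
      rw [hpel, hmm, Finset.card_ne_zero]
      exact ⟨g, Finset.mem_filter.2 ⟨Finset.mem_univ _, hx⟩⟩
    · intro y _
      simp only
      group
    · intro x _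
      apply Subtype.ext
      simp only
      group
    · intro y _
      rw [hinv]
  rw [Finset.sum_congr rfl (fun g _ => h2 g), Finset.sum_const, Finset.card_univ, nsmul_eq_mul,
    ← Nat.card_eq_fintype_card]

/-- the arithmetic-geometric mean inequality -/
theorem amgm {ι : Type*} [Fintype ι] [Nonempty ι] (z : ι → ℝ) (hz : ∀ i, 0 ≤ z i) :
    (Fintype.card ι : ℝ) ^ (Fintype.card ι) * ∏ i, z i ≤ (∑ i, z i) ^ (Fintype.card ι) := by
  have hN : 0 < (Fintype.card ι : ℝ) := by exact_mod_cast Fintype.card_pos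
  have h1 := Real.geom_mean_le_arith_mean (Finset.univ : Finset ι) (fun _ => (1 : ℝ)) z (fun _ _ => zero_le_one)
    (by rw [Finset.sum_const, Finset.card_univ, nsmul_eq_mul, mul_one]; exact hN) (fun i _ => hz i)
  simp only [Real.rpow_one, one_mul, Finset.sum_const, Finset.card_univ, nsmul_eq_mul, mul_one] at h1
  have h2 : 0 ≤ ∏ i, z i := Finset.prod_nonneg (fun i _ => hz i)
  have h3 := pow_le_pow_left₀ (Real.rpow_nonneg h2 _) h1 (Fintype.card ι)
  rw [← Real.rpow_natCast, ← Real.rpow_mul h2, inv_mul_cancel₀ hN.ne', Real.rpow_one, div_pow,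
    le_div_iff₀ (pow_pos hN _)] at h3
  rw [mul_comm]; exact h3

theorem main {G : Type u} [Group G] [Finite G] (p : ℕ) [hp : Fact p.Prime]
    (hG : Cfsg.IsPSolvable p G) (P : Sylow p G) :
    Nat.card (P : Subgroup G) ^ p * Nat.card (Sylow p G) ^ (p - 1) ≤
      Nat.card {g : G // ∃ k : ℕ, orderOf g = p ^ k} ^ p := by
  classical
  haveI := Fintype.ofFinite (P : Subgroup G)
  haveI : Nonempty (P : Subgroup G) := ⟨1⟩
  set N := Nat.card (P : Subgroup G) with hN
  have hNF : Fintype.card (P : Subgroup G) = N := Nat.card_eq_fintype_card.symm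
  have hNpos : 0 < N := Nat.card_pos
  set u := Nat.card {g : G // ∃ k : ℕ, orderOf g = p ^ k} with hu
  set n := Nat.card (Sylow p G) with hn
  set g := Nat.card G with hg
  have hgpos : 0 < g := Nat.card_pos
  set m : ↥(P : Subgroup G) → ℕ := fun x => mm (P : Subgroup G) (zpowers (x : G)) with hm
  have hmpos : ∀ x, 0 < m x := by
    intro x
    rw [Nat.pos_iff_ne_zero]
    intro h0
    have h1 : Nat.card {g : G // (zpowers (x : G)).map (MulAut.conj g).toMonoidHom ≤ (P : Subgroup G)} = 0 := h0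
    rw [Nat.card_eq_zero] at h1
    rcases h1 with h1 | h1
    · exact h1.false ⟨1, by
        rw [MonoidHom.map_zpowers, zpowers_le]
        have : (MulAut.conj (1 : G)).toMonoidHom (x : G) = x := by simp
        rw [this]; exact x.2⟩
    · exact (not_finite_iff_infinite.2 h1) inferInstance
  have h1 := main_prod p hG P
  rw [mm_bot, ← hg] at h1
  have h2 : n * mm (P : Subgroup G) (P : Subgroup G) = g := mm_self p P
  have h3 := count_u p P
  have h4 := amgm (fun x : (P : Subgroup G) => ((m x : ℝ))⁻¹) (fun x => by positivity)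
  rw [hNF] at h4
  have h5 : (u : ℝ) = g * ∑ x : (P : Subgroup G), ((m x : ℝ))⁻¹ := h3
  -- `(g N)^N ≤ u^N * ∏ m`
  have h6 : ((g : ℝ) * N) ^ N ≤ (u : ℝ) ^ N * ∏ x, (m x : ℝ) := by
    rw [h5, mul_pow, mul_pow, mul_assoc]
    apply mul_le_mul_of_nonneg_left _ (by positivity)
    have h7 : 0 < ∏ x, (m x : ℝ) := Finset.prod_pos (fun x _ => by exact_mod_cast hmpos x)
    rw [Finset.prod_inv_distrib, ← div_eq_mul_inv, div_le_iff₀ h7] at h4
    exact h4
  have h6' : (g * N) ^ N ≤ u ^ N * ∏ x, m x := by exact_mod_cast h6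
  have h7 : (∏ x, m x) ^ p * n ^ ((p - 1) * N) ≤ g ^ (p * N) := by
    have hp1 := hp.out.one_le
    have hpN : ∀ a : ℕ, p * a = a + (p - 1) * a := by
      intro a
      have h2 : (p - 1) + 1 = p := by omega
      calc p * a = ((p - 1) + 1) * a := by rw [h2]
        _ = _ := by ring
    calc (∏ x, m x) ^ p * n ^ ((p - 1) * N) ≤
        (g ^ N * mm (P : Subgroup G) (P : Subgroup G) ^ ((p - 1) * N)) * n ^ ((p - 1) * N) :=
          Nat.mul_le_mul_right _ h1
      _ = g ^ N * (n * mm (P : Subgroup G) (P : Subgroup G)) ^ ((p - 1) * N) := by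
          rw [mul_pow, mul_assoc, mul_comm (n ^ _)]
      _ = g ^ (p * N) := by rw [h2, hpN, pow_add]
  have h8 : (g * N) ^ (N * p) * n ^ ((p - 1) * N) ≤ u ^ (N * p) * g ^ (p * N) := by
    calc (g * N) ^ (N * p) * n ^ ((p - 1) * N) ≤ (u ^ N * ∏ x, m x) ^ p * n ^ ((p - 1) * N) := by
          rw [pow_mul]
          exact Nat.mul_le_mul_right _ (Nat.pow_le_pow_left h6' p)
      _ = u ^ (N * p) * ((∏ x, m x) ^ p * n ^ ((p - 1) * N)) := by rw [mul_pow, pow_mul]; ring
      _ ≤ _ := Nat.mul_le_mul_left _ h7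
  have h9 : (N ^ p * n ^ (p - 1)) ^ N ≤ (u ^ p) ^ N := by
    have h10 : g ^ (p * N) * (N ^ p * n ^ (p - 1)) ^ N ≤ g ^ (p * N) * (u ^ p) ^ N := by
      calc g ^ (p * N) * (N ^ p * n ^ (p - 1)) ^ N = (g * N) ^ (N * p) * n ^ ((p - 1) * N) := by
            rw [mul_pow, mul_pow, ← pow_mul, ← pow_mul, mul_comm N p]; ring
        _ ≤ u ^ (N * p) * g ^ (p * N) := h8
        _ = _ := by rw [← pow_mul, mul_comm N p]; ring
    exact Nat.le_of_mul_le_mul_left h10 (pow_pos hgpos _)
  exact (Nat.pow_le_pow_iff_left hNpos.ne').1 h9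

end Cfsg.Agent.H79.AvgFix
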