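import Cfsg.Agent.Star.Count
import Cfsg.Agent.Star.Loc
import Cfsg.Agent.H4.AbelCount

/-!
# Traces of `*`-multiplication by stable linear characters, abelian defect groups
(owner: helper79)
-/

set_option autoImplicit false
set_option linter.unusedSectionVars false
set_option linter.style.haveILetI false

universe u

namespace Cfsg.Agent.H79

open scoped ComplexConjugate
open MonoidAlgebra Cfsg Cfsg.Agent.Blk Cfsg.Agent.CharBase Cfsg.Agent.BlkC Cfsg.Agent.BlkF
  Cfsg.Agent.Star Cfsg.Agent.H4 Cfsg.Agent.BlkInd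

section orb

/-- sums over a `G`-set with a finite set of representatives permuted by `T` -/
theorem sum_orbits_t {G X Y : Type*} [Group G] [Fintype G] [Fintype Y] (T : Subgroup G)
    [Fintype T] (a : G → X → X) (hmul : ∀ g h x, a (g * h) x = a g (a h x))
    (ha1 : ∀ x, a 1 x = x) (s : Finset X) (hs : ∀ g x, x ∈ s → a g x ∈ s)
    (b : T → Y → Y) (hbmul : ∀ g h y, b (g * h) y = b g (b h y)) (hb1 : ∀ y, b 1 y = y)
    (ι : Y → X) (hι : ∀ u, ι u ∈ s) (K : Y → Subgroup G)
    (hstab : ∀ (u : Y) g, a g (ι u) = ι u ↔ g ∈ K u) (KT : Y → Subgroup T)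
    (hKT : ∀ (u : Y) t, b t u = u ↔ t ∈ KT u)
    (hfus : ∀ (u u' : Y) g, a g (ι u) = ι u' → ∃ x : T, u' = b x u)
    (hιx : ∀ (x : T) (u : Y), a x (ι u) = ι (b x u))
    (F : X → ℂ) (hF : ∀ g x, x ∈ s → F (a g x) = F x)
    (hsupp : ∀ x ∈ s, F x ≠ 0 → ∃ g u, x = a g (ι u)) :
    ∑ x ∈ s, F x = (Nat.card G : ℂ) * ((Nat.card T : ℂ)⁻¹ * ∑ u : Y,
      (Nat.card (KT u) : ℂ) / (Nat.card (K u) : ℂ) * F (ι u)) := by
  classical
  have hPc : (Nat.card T : ℂ) ≠ 0 := by exact_mod_cast Nat.card_pos.ne'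
  obtain ⟨c, hc⟩ : ∃ c : Y → ℂ, c = fun u => (Nat.card (KT u) : ℂ) / (Nat.card (K u) : ℂ) :=
    ⟨_, rfl⟩
  -- the number of transporting elements
  have hA : ∀ u0 : Y, ∑ u : Y, ∑ g : G, (if a g (ι u) = ι u0 then c u else 0) = Nat.card T := by
    intro u0
    have h1 : ∀ u : Y, ∑ g : G, (if a g (ι u) = ι u0 then c u else 0) =
        ∑ y : T, (if b y u = u0 then (1 : ℂ) else 0) := by
      intro u
      rw [← Finset.sum_filter, Finset.sum_const, ← Finset.sum_filter, Finset.sum_const,
        nsmul_eq_mul, nsmul_eq_mul, mul_one]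
      by_cases hex : ∃ y : T, b y u = u0
      · obtain ⟨y, rfl⟩ := hex
        rw [← hιx, card_transporter a hmul (ι u) _ (hstab u) (y : G)]
        have h2 := card_transporter (H := T) (X := Y) b hbmul u (KT u) (hKT u) y
        rw [h2, hc]
        have h3 : (Nat.card (K u) : ℂ) ≠ 0 := by
          exact_mod_cast Nat.card_pos.ne'
        field_simp
      · have h2 : Finset.univ.filter (fun g : G => a g (ι u) = ι u0) = ∅ := by
          rw [Finset.filter_eq_empty_iff]
          intro g _ hg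
          obtain ⟨x, hx⟩ := hfus u u0 g hg
          exact hex ⟨x, hx.symm⟩
        have h3 : Finset.univ.filter (fun y : T => b y u = u0) = ∅ := by
          rw [Finset.filter_eq_empty_iff]
          intro y _ hy
          exact hex ⟨y, hy⟩
        rw [h2, h3]; simp
    rw [Finset.sum_congr rfl fun u _ => h1 u, Finset.sum_comm]
    have h2 : ∀ y : T, ∑ u : Y, (if b y u = u0 then (1 : ℂ) else 0) = 1 := by
      intro y
      rw [Finset.sum_eq_single (b y⁻¹ u0)]
      · rw [if_pos (by rw [← hbmul, mul_inv_cancel, hb1])]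
      · intro u _ hu
        rw [if_neg]
        rintro rfl
        exact hu (by rw [← hbmul, inv_mul_cancel, hb1])
      · intro h; exact absurd (Finset.mem_univ _) h
    rw [Finset.sum_congr rfl fun y _ => h2 y, Finset.sum_const, Finset.card_univ,
      Nat.card_eq_fintype_card, nsmul_eq_mul, mul_one]
  have hA' : ∀ (h : G) (u0 : Y),
      ∑ u : Y, ∑ g : G, (if a g (ι u) = a h (ι u0) then c u else 0) = Nat.card T := by
    intro h u0
    rw [← hA u0]
    refine Finset.sum_congr rfl fun u _ => ?_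
    apply Fintype.sum_equiv (Equiv.mulLeft h⁻¹)
    intro g
    rw [Equiv.coe_mulLeft, hmul]
    have h1 : a g (ι u) = a h (ι u0) ↔ a h⁻¹ (a g (ι u)) = ι u0 := by
      constructor
      · intro h2; rw [h2, ← hmul, inv_mul_cancel, ha1]
      · intro h2; rw [← h2, ← hmul, mul_inv_cancel, ha1]
    by_cases h2 : a g (ι u) = a h (ι u0)
    · rw [if_pos h2, if_pos (h1.1 h2)]
    · rw [if_neg h2, if_neg (fun h3 => h2 (h1.2 h3))]
  have hR : (Nat.card G : ℂ) * ∑ u : Y, c u * F (ι u) =
      ∑ x ∈ s, F x * ∑ u : Y, ∑ g : G, (if a g (ι u) = x then c u else 0) := by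
    calc (Nat.card G : ℂ) * ∑ u : Y, c u * F (ι u)
        = ∑ u : Y, ∑ g : G, c u * F (a g (ι u)) := by
          rw [Finset.mul_sum]
          refine Finset.sum_congr rfl fun u _ => ?_
          rw [Finset.sum_congr rfl fun g _ => by rw [hF g _ (hι u)], Finset.sum_const,
            Finset.card_univ, Nat.card_eq_fintype_card, nsmul_eq_mul]
      _ = ∑ u : Y, ∑ g : G, ∑ x ∈ s, F x * (if a g (ι u) = x then c u else 0) := by
          refine Finset.sum_congr rfl fun u _ => Finset.sum_congr rfl fun g _ => ?_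
          rw [Finset.sum_eq_single (a g (ι u))]
          · rw [if_pos rfl, mul_comm]
          · intro x _ hx
            rw [if_neg (Ne.symm hx), mul_zero]
          · intro h; exact absurd (hs g _ (hι u)) h
      _ = _ := by
          have h1 : ∀ u : Y, ∑ g : G, ∑ x ∈ s, F x * (if a g (ι u) = x then c u else 0) =
              ∑ x ∈ s, F x * ∑ g : G, (if a g (ι u) = x then c u else 0) := by
            intro u
            rw [Finset.sum_comm]
            exact Finset.sum_congr rfl fun x _ => by rw [Finset.mul_sum]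
          rw [Finset.sum_congr rfl fun u _ => h1 u, Finset.sum_comm]
          exact Finset.sum_congr rfl fun x _ => by rw [Finset.mul_sum]
  have hR2 : ∑ x ∈ s, F x * ∑ u : Y, ∑ g : G, (if a g (ι u) = x then c u else 0) =
      (Nat.card T : ℂ) * ∑ x ∈ s, F x := by
    rw [Finset.mul_sum]
    refine Finset.sum_congr rfl fun x hx => ?_
    by_cases h0 : F x = 0
    · rw [h0, zero_mul, mul_zero]
    · obtain ⟨g, u, rfl⟩ := hsupp x hx h0
      rw [hA', mul_comm]
  have h5 := hR.trans hR2
  have h6 : ∑ u : Y, (Nat.card (KT u) : ℂ) / (Nat.card (K u) : ℂ) * F (ι u) =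
        ∑ u : Y, c u * F (ι u) := by rw [hc]
  rw [h6, mul_left_comm, h5, ← mul_assoc, inv_mul_cancel₀ hPc, one_mul]

end orb

section fus

variable {k : Type*} [Field k] {G : Type*} [Group G] [Fintype G]
variable {p : ℕ} [hp : Fact p.Prime] [CharP k p]

/-- Fusion of elements of an abelian `P` is controlled by the stabilizer. -/
theorem exists_stab_conj {P : Subgroup G} {e : MonoidAlgebra k G} (hmax : MMax p P e)
    (hab : ∀ x ∈ P, ∀ y ∈ P, x * y = y * x) {u h : G} {f : MonoidAlgebra k G}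
    (hf : MLe p (Subgroup.zpowers u) f P e)
    (hf' : MLe p (Subgroup.zpowers (h * u * h⁻¹)) (Blk.cj h f) P e) :
    ∃ t ∈ stab (Subgroup.normalizer (P : Set G)) e, t * u * t⁻¹ = h * u * h⁻¹ := by
  obtain ⟨v, huv'⟩ : ∃ v, v = h * u * h⁻¹ := ⟨_, rfl⟩
  obtain ⟨fv, hfv⟩ : ∃ fv, fv = Blk.cj h f := ⟨_, rfl⟩
  rw [← huv', ← hfv] at hf'
  have hle1 := hf.cj h
  rw [show (Subgroup.zpowers u).map (MulAut.conj h).toMonoidHom =
    Subgroup.zpowers v by rw [huv']; exact cjS_zpowers _ _, ← hfv] at hle1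
  have hPCu := le_centralizer_of_comm hab hf.le
  have hPCv := le_centralizer_of_comm hab hf'.le
  have hP'C : cjS h P ≤ Subgroup.centralizer ((Subgroup.zpowers v : Subgroup G) : Set G) := by
    have h1 := map_conj_mono hPCu h
    rw [map_conj_centralizer, show (Subgroup.zpowers u).map (MulAut.conj h).toMonoidHom =
      Subgroup.zpowers v by rw [huv']; exact cjS_zpowers _ _] at h1
    exact h1
  have hn : MNorm p (Subgroup.zpowers v) fv P e :=
    MLe.mnorm hf' hmax.1 (hPCv.trans (Blk.centralizer_le_normalizer _))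
  have hn' : MNorm p (Subgroup.zpowers v) fv (cjS h P) (Blk.cj h e) :=
    MLe.mnorm hle1 (hmax.1.cj h) (hP'C.trans (Blk.centralizer_le_normalizer _))
  obtain ⟨c, hc, hle2⟩ := exists_conj_in_centralizer hn.left hPCv hP'C hn hn'
    (isDef_centralizer_of_comm hmax hab hf')
  have h1 : cjS c (cjS h P) = P := by
    refine Subgroup.eq_of_le_of_card_ge hle2.le ?_
    rw [Blk.card_map_conj, Blk.card_map_conj]
  have h2 : Blk.cj c (Blk.cj h e) = e := by
    have h3 := hle2
    rw [h1] at h3
    exact h3.eq_of_eq hmax.1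
  rw [cjS_cjS] at h1
  rw [cj_cj] at h2
  refine ⟨c * h, ⟨mem_normalizer_of_cjS_eq h1, h2⟩, ?_⟩
  rw [centralizer_zpowers_eq, Subgroup.mem_centralizer_singleton_iff] at hc
  calc c * h * u * (c * h)⁻¹ = c * (h * u * h⁻¹) * c⁻¹ := by group
    _ = c * v * c⁻¹ := by rw [huv']
    _ = v := by rw [hc]; group
    _ = h * u * h⁻¹ := huv'

end fus

section tr

variable {p : ℕ} [hp : Fact p.Prime] {M : Ideal AlgInt} [hMp : M.IsPrime]
  {G : Type u} [Group G] [Fintype G]

/-- a function on `P` invariant under `T` is stable -/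
theorem stableF_of_inv (hM : IsPModular p M) {P : Subgroup G} {e : MonoidAlgebra (kM M) G}
    (hmax : haveI := charP_kM hM; MMax p P e) (hab : ∀ x ∈ P, ∀ y ∈ P, x * y = y * x) {η : G → ℂ}
    (hη : ∀ t ∈ stab (Subgroup.normalizer (P : Set G)) e, ∀ u ∈ P, η (t * u * t⁻¹) = η u) :
    StableF p P e η := by
  haveI := charP_kM hM
  intro u g f h1 h2
  obtain ⟨t, ht, htu⟩ := exists_stab_conj hmax hab h1 h2
  rw [← htu]
  exact hη t ht u (h1.le (Subgroup.mem_zpowers u))

/-- the centralizer in `T` of an element -/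
def cT (T : Subgroup G) (u : G) : Subgroup T :=
  (Subgroup.centralizer ({u} : Set G)).subgroupOf T

theorem mem_cT {T : Subgroup G} {u : G} {t : T} : t ∈ cT T u ↔ (t : G) * u = u * t := by
  rw [cT, Subgroup.mem_subgroupOf, Subgroup.mem_centralizer_singleton_iff]

/-- **The inner product of a Broué–Puig product**, abelian defect group -/
theorem classInner_wstar_abel (hM : IsPModular p M)
    {P : Subgroup G} [Fintype P] {e : MonoidAlgebra (kM M) G} (he : MMax p P e)
    (hab : ∀ x ∈ P, ∀ y ∈ P, x * y = y * x)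
    (E : P → MonoidAlgebra (kM M) G)
    (hE : ∀ u : P, MLe p (Subgroup.zpowers (u : G)) (E u) P e)
    {η : G → ℂ} (hst : StableF p P e η) {χ ψ : G → ℂ} (hχ : IsClassFunction G χ)
    (hψ : IsClassFunction G ψ) :
    classInner (wstar p (wt p P e η) χ) ψ =
      (Nat.card (stab (Subgroup.normalizer (P : Set G)) e) : ℂ)⁻¹ * ∑ u : P,
      (Nat.card (cT (stab (Subgroup.normalizer (P : Set G)) e) (u : G)) : ℂ) /
        (Nat.card (Subgroup.centralizer ({(u : G)} : Set G)) : ℂ) *
          (η u * SS p (u : G) (E u) χ ψ) := by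
  classical
  have := charP_kM hM
  have hG : (Nat.card G : ℂ) ≠ 0 := by exact_mod_cast Nat.card_pos.ne'
  rw [classInner_wstar_eq]
  have hpel : ∀ u : P, ∃ k : ℕ, orderOf (u : G) = p ^ k := by
    intro u
    obtain ⟨k, hk⟩ := (IsPGroup.iff_orderOf.1 he.1.isPGroup) u
    exact ⟨k, by rw [Subgroup.orderOf_coe, hk]⟩
  obtain ⟨T, hT⟩ : ∃ T, T = stab (Subgroup.normalizer (P : Set G)) e := ⟨_, rfl⟩
  rw [← hT]
  have hTN : ∀ t ∈ T, ∀ u ∈ P, t * u * t⁻¹ ∈ P := by
    intro t ht u hu
    rw [hT] at ht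
    exact (Subgroup.mem_normalizer_iff.1 ht.1 u).1 hu
  have := Fintype.ofFinite T
  have key := sum_orbits_t (X := Σ _ : G, MonoidAlgebra (kM M) G) (Y := P) T
    (fun g x => ⟨g * x.1 * g⁻¹, cj g x.2⟩)
    (fun g h x => by
      refine Sigma.ext (by simp only; group) (heq_of_eq ?_)
      simp only [cj_cj])
    (fun x => by
      refine Sigma.ext (by simp) (heq_of_eq ?_)
      simp only [cj_one_left])
    ((Finset.univ.filter (fun v : G => ∃ k : ℕ, orderOf v = p ^ k)).sigma
      (fun v => blks (kM M) (Subgroup.centralizer (Subgroup.zpowers v : Set G))))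
    (fun g x hx => by
      rw [Finset.mem_sigma, Finset.mem_filter, mem_blks] at hx ⊢
      refine ⟨⟨Finset.mem_univ _, ?_⟩, ?_⟩
      · have h1 : orderOf (g * x.1 * g⁻¹) = orderOf x.1 := MulEquiv.orderOf_eq (MulAut.conj g) x.1
        simp only [h1]; exact hx.1.2
      · simp only [cent_zpowers_conj]; exact hx.2.cj g)
    (fun t u => ⟨(t : G) * u * (t : G)⁻¹, hTN t t.2 u u.2⟩)
    (fun g h y => Subtype.ext (by simp only [Subgroup.coe_mul]; group))
    (fun y => Subtype.ext (by simp))
    (fun u => ⟨(u : G), E u⟩)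
    (fun u => by
      rw [Finset.mem_sigma, Finset.mem_filter, mem_blks]
      exact ⟨⟨Finset.mem_univ _, hpel u⟩, ((hE u).left_pair he.1).blk⟩)
    (fun u => Subgroup.centralizer ({(u : G)} : Set G))
    (fun u g => by
      rw [Subgroup.mem_centralizer_singleton_iff]
      constructor
      · intro h
        have h1 := congrArg Sigma.fst h
        simp only at h1
        rwa [mul_inv_eq_iff_eq_mul] at h1
      · intro h
        have h1 : g * (u : G) * g⁻¹ = u := by rw [h]; group
        refine Sigma.ext h1 (heq_of_eq ?_)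
        exact ((hE u).left_pair he.1).blk.fixed g (mem_cent_zpowers.2 h.symm))
    (fun u => cT T (u : G))
    (fun u t => by
      rw [mem_cT, Subtype.ext_iff, mul_inv_eq_iff_eq_mul])
    (fun u u' g h => by
      have h1 : g * (u : G) * g⁻¹ = u' := congrArg Sigma.fst h
      have h2 : cj g (E u) = E u' := eq_of_heq (by
        have := (Sigma.mk.inj_iff.1 h).2
        exact this)
      obtain ⟨x, hx, hxu⟩ := exists_stab_conj he hab (hE u) (by rw [h1, h2]; exact hE u')
      rw [← hT] at hx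
      exact ⟨⟨x, hx⟩, Subtype.ext (h1.symm.trans hxu.symm)⟩)
    (fun x u => by
      refine Sigma.ext rfl (heq_of_eq ?_)
      have h1 := (hE u).cj (x : G)
      have hx : (x : G) ∈ stab (Subgroup.normalizer (P : Set G)) e := by rw [← hT]; exact x.2
      have h2 : P.map (MulAut.conj (x : G)).toMonoidHom = P :=
        map_conj_of_mem_normalizer hx.1
      have h3 : cj (x : G) e = e := hx.2
      rw [h2, h3, ← zpowers_conj] at h1
      exact MLe.unique he.1 _ _ _ h1 (hE ⟨(x : G) * u * (x : G)⁻¹, hTN x x.2 u u.2⟩))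
    (fun x => wt p P e η x.1 x.2 * SS p x.1 x.2 χ ψ)
    (fun g x hx => by
      rw [Finset.mem_sigma, mem_blks] at hx
      simp only [wt_conj hst, SS_cj hx.2 hχ hψ])
    (fun x hx h => by
      have h1 : wt p P e η x.1 x.2 ≠ 0 := fun h0 => h (by simp only [h0, zero_mul])
      have h2 : ∃ g : G, MLe p (Subgroup.zpowers (g * x.1 * g⁻¹)) (cj g x.2) P e := by
        by_contra hcon
        exact h1 (wt_of_not hcon)
      obtain ⟨g, hg⟩ := h2
      have h3 : g * x.1 * g⁻¹ ∈ P := hg.le (Subgroup.mem_zpowers _)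
      refine ⟨g⁻¹, ⟨g * x.1 * g⁻¹, h3⟩, ?_⟩
      have h4 : E ⟨g * x.1 * g⁻¹, h3⟩ = cj g x.2 :=
        MLe.unique he.1 _ _ _ (hE ⟨g * x.1 * g⁻¹, h3⟩) hg
      refine Sigma.ext ?_ (heq_of_eq ?_)
      · simp only; group
      · simp only [h4, cj_cj, inv_mul_cancel, cj_one_left])
  rw [Finset.sum_sigma] at key
  simp only at key
  rw [key, ← mul_assoc, inv_mul_cancel₀ hG, one_mul]
  congr 1
  refine Finset.sum_congr rfl fun u _ => ?_
  rw [wt_of_mle hst (hE u)]

end tr

end Cfsg.Agent.H79
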