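import Cfsg.Agent.H79.PSolvK
import Cfsg.Agent.H76.AlperinDade2
import Cfsg.Agent.S0887
import Cfsg.Agent.S4435
import Cfsg.Agent.S4436
import Cfsg.Agent.Char.CentralChar

/-!
# Heights of characters of `p`-solvable groups
-/

set_option autoImplicit false
set_option linter.unusedSectionVars false
set_option linter.style.haveILetI false
set_option linter.unusedVariables false

namespace Cfsg.Agent.H79

open Cfsg Cfsg.Agent.CharBase Cfsg.Agent.Blk Cfsg.Agent.Char
open scoped commutatorElement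

universe u

/-- degrees over an invariant character of a normal `p'`-subgroup with abelian `p`-quotient -/
theorem degree_of_abelian_quotient {L : Type u} [Group L] [Fintype L] {p : ℕ} [Fact p.Prime]
    (N : Subgroup L) [Fintype N] [hN : N.Normal] (hNp : ¬ p ∣ Nat.card N)
    (hidx : ∃ k, N.index = p ^ k) (hcomm : ∀ x y : L, ⁅x, y⁆ ∈ N) {θ : N → ℂ}
    (hθ : IsIrrCharacter N θ) (hinv : ∀ g : L, cj N g θ = θ) {χ : L → ℂ}
    (hχ : IsIrrCharacter L χ) (h : classInner (fun n : N => χ n) θ ≠ 0) : χ 1 = θ 1 := by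
  classical
  have h1 := BlkC.charDegree_spec (⟨θ, hθ⟩ : IrrCharacter N)
  have h2 : ¬ p ∣ charDegree θ := fun h => hNp (h.trans (BlkC.charDegree_dvd_card ⟨θ, hθ⟩))
  obtain ⟨η, hη, hηθ⟩ := H76.exists_extension_of_pGroup_quotient N hidx hθ hinv h1 h2
    (o := Nat.card N) hNp (fun μ n => by rw [← map_pow, pow_card_eq_one', map_one])
  obtain ⟨β, hβ, hβη⟩ := H76.exists_gallagher N hθ hη hηθ hχ h
  have h3 := CC.degree_one_of_commutator β.2 (fun x y => hβ _ (hcomm x y))
  rw [hβη, Pi.mul_apply, h3, one_mul]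
  exact hηθ 1

section main

variable {G : Type u} [Group G] [Fintype G] {p : ℕ} [Fact p.Prime]

/-- exponents of degrees over an invariant character -/
theorem nu_le_of_invariant (N L : Subgroup G) [hN : N.Normal] [Fintype N] [hL : L.Normal]
    (hNL : N ≤ L) (hNp : ¬ p ∣ Nat.card N) (hidx : ∃ k, N.relIndex L = p ^ k)
    (hcomm : ∀ x ∈ L, ∀ y ∈ L, ⁅x, y⁆ ∈ N) (θ : IrrCharacter N)
    (hinv : ∀ g : G, cj N g (θ : N → ℂ) = θ) (χ : IrrCharacter G)
    (h : classInner (fun n : N => (χ : G → ℂ) n) (θ : N → ℂ) ≠ 0) :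
    (charDegree (χ : G → ℂ)).factorization p ≤ L.index.factorization p := by
  classical
  have := Fintype.ofFinite L
  have := Fintype.ofFinite (IrrCharacter L)
  have hresT : IsCharacter L (fun t : L => (χ : G → ℂ) t) :=
    isCharacter_restrict (irr_isCharacter χ) L
  have hsum := classInner_restrict_le_eq_sum hNL (isClassFunction_of_isCharacter hresT)
    (θ : N → ℂ)
  have h1 : ∑ ξ : IrrCharacter L, classInner (fun t : L => (χ : G → ℂ) t) (ξ : L → ℂ)
        * classInner (fun n : N => (ξ : L → ℂ) ⟨n, hNL n.2⟩) (θ : N → ℂ) ≠ 0 := by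
    rw [← hsum]
    exact h
  obtain ⟨η, -, hη⟩ := Finset.exists_ne_zero_of_sum_ne_zero h1
  have hη1 := left_ne_zero_of_mul hη
  have hη2 := right_ne_zero_of_mul hη
  -- transport to `N.subgroupOf L`
  let e : N.subgroupOf L ≃* N := Subgroup.subgroupOfEquivOfLe hNL
  have : Fintype (N.subgroupOf L) := Fintype.ofFinite _
  have hN' : (N.subgroupOf L).Normal := Subgroup.normal_subgroupOf
  let θ' : N.subgroupOf L → ℂ := fun n => (θ : N → ℂ) (e n)
  have hθ' : IsIrrCharacter (N.subgroupOf L) θ' :=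
    isIrrCharacter_comp_surjective θ.2 e.toMonoidHom e.surjective
  have h2 : classInner (fun n : N.subgroupOf L => (η : L → ℂ) n) θ'
      = classInner (fun n : N => (η : L → ℂ) ⟨n, hNL n.2⟩) (θ : N → ℂ) :=
    classInner_comp_equiv e (fun n : N => (η : L → ℂ) ⟨n, hNL n.2⟩) (θ : N → ℂ)
  have hinv' : ∀ g : L, cj (N.subgroupOf L) g θ' = θ' := by
    intro g
    funext n
    exact congrFun (hinv (g : G)) (e n)
  have hcard : Nat.card (N.subgroupOf L) = Nat.card N := Nat.card_congr e.toEquiv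
  have h3 : (η : L → ℂ) 1 = θ' 1 := by
    refine degree_of_abelian_quotient (p := p) (N.subgroupOf L) (by rw [hcard]; exact hNp) hidx
      (fun x y => ?_) hθ' hinv' η.2 (by rw [h2]; exact hη2)
    rw [Subgroup.mem_subgroupOf]
    exact hcomm x x.2 y y.2
  have h4 : θ' 1 = (charDegree (θ : N → ℂ) : ℂ) := by
    change (θ : N → ℂ) (e 1) = _
    rw [map_one]; exact BlkC.charDegree_spec θ
  have h5 : ¬ p ∣ charDegree (θ : N → ℂ) := fun h => hNp (h.trans (BlkC.charDegree_dvd_card θ))
  obtain ⟨h6, h7⟩ := Cfsg.Agent.S0887.result L (χ : G → ℂ) χ.2 (η : L → ℂ) η.2 hη1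
    (charDegree (χ : G → ℂ)) (charDegree (θ : N → ℂ)) (BlkC.charDegree_spec χ) (h3.trans h4)
  obtain ⟨k, hk⟩ := h6
  have hd0 : 0 < charDegree (θ : N → ℂ) := BlkC.charDegree_pos θ
  have hc0 : 0 < charDegree (χ : G → ℂ) := BlkC.charDegree_pos χ
  rw [hk, Nat.mul_div_cancel_left _ hd0] at h7
  have hk0 : k ≠ 0 := by
    rintro rfl
    rw [hk, mul_zero] at hc0
    exact lt_irrefl _ hc0
  rw [hk, Nat.factorization_mul hd0.ne' hk0, Finsupp.add_apply,
    Nat.factorization_eq_zero_of_not_dvd h5, zero_add]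
  exact (Nat.factorization_le_iff_dvd hk0 Subgroup.index_ne_zero_of_finite).2 h7 p

theorem nu_le_of_invariant_psolvable (hsolv : IsPSolvable p G) (N : Subgroup G) [hNn : N.Normal]
    [Fintype N] (hN : N = pPrimeCore p G) (θ : IrrCharacter N)
    (hinv : ∀ g : G, cj N g (θ : N → ℂ) = θ) {P : Subgroup G}
    (hPp : IsPGroup p P) (hP : Nat.card P = p ^ (Nat.card G).factorization p)
    (χ : IrrCharacter G)
    (h : classInner (fun n : N => (χ : G → ℂ) n) (θ : N → ℂ) ≠ 0) :
    (charDegree (χ : G → ℂ)).factorization p ≤ ((Subgroup.center P).index).factorization p := by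
  classical
  have hp : p.Prime := Fact.out
  obtain ⟨K, hKn, hNK, hKp, hC⟩ := exists_K_of_psolvable hsolv
  rw [← hN] at hNK hKp hC
  have hNp : ¬ p ∣ Nat.card N := by rw [hN]; exact not_dvd_pPrimeCore
  -- `Q = P ∩ K`
  obtain ⟨hsup, hcent⟩ := hC (P ⊓ K) inf_le_right (hPp.to_le inf_le_left)
    (fun S hSK hS => card_le_of_sylow_inf hPp hP hS hSK)
  -- `L`
  set L : Subgroup G := K ⊓ (Subgroup.centralizer
    ((K.map (QuotientGroup.mk' N) : Subgroup (G ⧸ N)) : Set (G ⧸ N))).comap (QuotientGroup.mk' N)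
    with hL
  have hKmn : (K.map (QuotientGroup.mk' N)).Normal :=
    hKn.map _ (QuotientGroup.mk'_surjective N)
  have hLn : L.Normal := by
    have : (Subgroup.centralizer
      ((K.map (QuotientGroup.mk' N) : Subgroup (G ⧸ N)) : Set (G ⧸ N))).Normal := inferInstance
    have h2 := this.comap (QuotientGroup.mk' N)
    exact Subgroup.normal_inf_normal _ _
  have hNL : N ≤ L := by
    intro n hn
    refine ⟨hNK hn, ?_⟩
    change QuotientGroup.mk' N n ∈ Subgroup.centralizer _
    rw [QuotientGroup.mk'_apply, (QuotientGroup.eq_one_iff n).2 hn]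
    exact Subgroup.one_mem _
  have hLK : L ≤ K := inf_le_left
  have hcomm : ∀ x ∈ L, ∀ y ∈ L, ⁅x, y⁆ ∈ N := by
    intro x hx y hy
    have h1 := Subgroup.mem_centralizer_iff.1 hx.2 (QuotientGroup.mk' N y)
      ⟨y, hLK hy, rfl⟩
    have h2 : ((⁅x, y⁆ : G) : G ⧸ N) = 1 := by
      change QuotientGroup.mk' N ⁅x, y⁆ = 1
      rw [map_commutatorElement, commutatorElement_eq_one_iff_mul_comm]
      exact h1.symm
    exact (QuotientGroup.eq_one_iff _).1 h2
  have hidx : ∃ k, N.relIndex L = p ^ k := by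
    obtain ⟨k, hk⟩ := hKp
    have h1 := Subgroup.relIndex_mul_relIndex N L K hNL hLK
    have h2 : N.relIndex L ∣ p ^ k := ⟨_, by rw [← hk, h1]⟩
    obtain ⟨j, -, hj⟩ := (Nat.dvd_prime_pow hp).1 h2
    exact ⟨j, hj⟩
  -- `Z(P) ≤ L`
  set Z : Subgroup G := (Subgroup.center P).map P.subtype with hZ
  have hZP : Z ≤ P := Subgroup.map_subtype_le _
  have hZc : ∀ z ∈ Z, ∀ x ∈ P, x * z = z * x := by
    rintro _ ⟨z, hz, rfl⟩ x hx
    have := Subgroup.mem_center_iff.1 hz ⟨x, hx⟩
    exact congrArg Subtype.val this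
  have hZK : Z ≤ K := fun z hz => hcent (by
    rw [Subgroup.mem_centralizer_iff]
    intro q hq
    exact hZc z hz q hq.1)
  have hZL : Z ≤ L := by
    intro z hz
    refine ⟨hZK hz, ?_⟩
    change QuotientGroup.mk' N z ∈ Subgroup.centralizer _
    rw [Subgroup.mem_centralizer_iff]
    rintro _ ⟨x, hx, rfl⟩
    rw [← hsup, SetLike.mem_coe, ← SetLike.mem_coe, Subgroup.normal_mul] at hx
    obtain ⟨n, hn, q, hq, rfl⟩ := Set.mem_mul.1 hx
    have h1 : (QuotientGroup.mk' N) n = 1 := by
      rw [QuotientGroup.mk'_apply]; exact (QuotientGroup.eq_one_iff n).2 hn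
    rw [map_mul, h1, one_mul, ← map_mul, ← map_mul, hZc z hz q hq.1]
  refine (nu_le_of_invariant N L hNL hNp hidx hcomm θ hinv χ h).trans ?_
  -- indices
  have h1 := Subgroup.card_mul_index L
  have h2 := Subgroup.card_mul_index (Subgroup.center P)
  have h3 : Nat.card (Subgroup.center P) ∣ Nat.card L := by
    have h4 : Nat.card (Subgroup.center P) = Nat.card Z :=
      Nat.card_congr ((Subgroup.center P).equivMapOfInjective _ P.subtype_injective).toEquiv
    rw [h4]
    exact Subgroup.card_dvd_of_le hZL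
  have h5 : (Nat.card (Subgroup.center P)).factorization p ≤ (Nat.card L).factorization p :=
    (Nat.factorization_le_iff_dvd Nat.card_pos.ne' Nat.card_pos.ne').2 h3 p
  have h6 : (Nat.card G).factorization p = (Nat.card L).factorization p +
      L.index.factorization p := by
    rw [← h1, Nat.factorization_mul Nat.card_pos.ne' Subgroup.index_ne_zero_of_finite]
    rfl
  have h7 : (Nat.card P).factorization p = (Nat.card (Subgroup.center P)).factorization p +
      (Subgroup.center P).index.factorization p := by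
    rw [← h2, Nat.factorization_mul Nat.card_pos.ne' Subgroup.index_ne_zero_of_finite]
    rfl
  have h8 : (Nat.card P).factorization p = (Nat.card G).factorization p := by
    rw [hP, hp.factorization_pow, Finsupp.single_eq_same]
  omega

end main

theorem index_center_congr {P Q : Type*} [Group P] [Group Q] [Finite P] [Finite Q] (e : P ≃* Q) :
    (Subgroup.center P).index = (Subgroup.center Q).index := by
  have h1 := Subgroup.card_mul_index (Subgroup.center P)
  have h2 := Subgroup.card_mul_index (Subgroup.center Q)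
  have h3 : Nat.card P = Nat.card Q := Nat.card_congr e.toEquiv
  have h4 : Nat.card (Subgroup.center P) = Nat.card (Subgroup.center Q) :=
    Nat.card_congr (Subgroup.centerCongr e).toEquiv
  rw [h4, h3, ← h2] at h1
  exact Nat.eq_of_mul_eq_mul_left Nat.card_pos h1

theorem induced_unique {G : Type u} [Group G] [Fintype G] {M : Ideal AlgInt} [M.IsPrime]
    {H : Subgroup G} {b : Set (IrrCharacter H)}
    {B B' : Set (IrrCharacter G)} (h : IsInducedBlock M H b B) (h' : IsInducedBlock M H b B') :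
    B = B' := by
  obtain ⟨ξ, hξ⟩ := isPBlock_nonempty h.1
  obtain ⟨χ, hχ⟩ := isPBlock_nonempty h.2.1
  obtain ⟨χ', hχ'⟩ := isPBlock_nonempty h'.2.1
  rw [isPBlock_eq_blockOf h.2.1 hχ, isPBlock_eq_blockOf h'.2.1 hχ']
  apply blockOf_eq_of_sameBlock
  intro g
  exact mli_trans (mli_symm (h.2.2 ξ hξ χ hχ g)) (h'.2.2 ξ hξ χ' hχ' g)

/-- heights of characters of `p`-solvable groups -/
theorem height_le_psolvable {p : ℕ} [Fact p.Prime] {M : Ideal AlgInt} (hM : IsPModular p M) (n : ℕ) :
    ∀ {G : Type u} [Group G] [Fintype G], Nat.card G = n → IsPSolvable p G →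
      ∀ (B : Set (IrrCharacter G)), IsPBlock M B → ∀ (P : Subgroup G), IsDefectGroup p M B P →
      ∀ χ ∈ B, blockHeight p B (χ : G → ℂ) ≤ ((Subgroup.center P).index).factorization p := by
  classical
  haveI := isPrime_of_isPModular hM
  haveI := charP_kM hM
  induction n using Nat.strong_induction_on with
  | _ n ih =>
  intro G _ _ hGn hsolv B hB P hP χ hχ
  set N := pPrimeCore p G with hN
  have hNn : N.Normal := inferInstance
  have hNp : ¬ p ∣ Nat.card N := not_dvd_pPrimeCore
  have := Fintype.ofFinite N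
  obtain ⟨θ, hθ⟩ : ∃ θ : IrrCharacter N,
      classInner (fun n : N => (χ : G → ℂ) n) (θ : N → ℂ) ≠ 0 := by
    obtain ⟨θ, h1, h2⟩ := exists_constituent_restrict N (irr_isCharacter χ) (irr_one_ne_zero χ.2)
    exact ⟨⟨θ, h1⟩, h2⟩
  by_cases hinv : ∀ g : G, cj N g (θ : N → ℂ) = θ
  · obtain ⟨K, hKn, hNK, hKp, hC⟩ := exists_K_of_psolvable hsolv
    obtain ⟨B₀, hB₀, hmem, hD⟩ := fong_core hM hNp hinv hNK hKp (fun Q h1 h2 h3 => (hC Q h1 h2 h3).2)
    have hBB : B = B₀ := by
      rw [isPBlock_eq_blockOf hB hχ, isPBlock_eq_blockOf hB₀ ((hmem χ).2 hθ)]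
    subst hBB
    have h1 := nu_le_of_invariant_psolvable hsolv N hN θ hinv (BlkInd.isPGroup_of_isDefectGroup hP)
      (hD P hP) χ hθ
    exact (Nat.sub_le _ _).trans h1
  · push Not at hinv
    obtain ⟨g₀, hg₀⟩ := hinv
    set b : Set (IrrCharacter N) := {θ} with hb
    have hbB : IsPBlock M b := isPBlock_singleton hM hNp θ
    set T := H76.blockStab N b with hT
    have := Fintype.ofFinite T
    have hTG : Nat.card T < Nat.card G := by
      rcases lt_or_eq_of_le (Subgroup.card_le_card_group T) with h1 | h1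
      · exact h1
      · exfalso
        have h2 : T = ⊤ := Subgroup.eq_top_of_card_eq T h1
        have h3 : g₀ ∈ T := by rw [h2]; exact Subgroup.mem_top _
        have h4 := h3 θ rfl ⟨cj N g₀ θ, Char.isIrrCharacter_cj N g₀ θ.2⟩ rfl
        exact hg₀ (congrArg Subtype.val h4)
    have hTm : ∀ g : G, g ∈ T ↔ ∀ θ ∈ b, ∀ θ' : Cfsg.IrrCharacter N,
        (∀ n : N, (θ' : N → ℂ) n = (θ : N → ℂ) ⟨g * n * g⁻¹, hNn.conj_mem n n.2 g⟩) → θ' ∈ b :=
      fun g => H76.mem_blockStab
    obtain ⟨-, -, h3⟩ := Cfsg.Agent.S4435.result p M hM N b hbB T hTm (H76.le_blockStab N b)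
    obtain ⟨B', hB', hcov, hind⟩ := h3 B hB ⟨χ, hχ, θ, rfl, hθ⟩
    obtain ⟨h4, h5⟩ := Cfsg.Agent.S4436.result p M hM N b hbB T hTm (H76.le_blockStab N b)
      B' hB' hcov B hind
    obtain ⟨B₁, hB₁, -, -, hmem⟩ := (Cfsg.Agent.S4435.result p M hM N b hbB T hTm
      (H76.le_blockStab N b)).1 B' hB' hcov
    have hBB : B = B₁ := induced_unique hind hB₁
    subst hBB
    obtain ⟨ψ, hψ, hψχ⟩ := (hmem χ).1 hχ
    obtain ⟨χ', hχ', hχψ', hht⟩ := h5 ψ hψ
    have hχχ : χ' = χ := Subtype.ext (hχψ'.trans hψχ.symm)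
    subst hχχ
    obtain ⟨D, hD⟩ := BlkInd.exists_defectGroup hM hB'
    have h6 := ih (Nat.card T) (by rw [← hGn]; exact hTG) rfl (H76.isPSolvable_subgroup T hsolv)
      B' hB' D hD ψ hψ
    have hDG := h4 D hD
    obtain ⟨x, hx⟩ := BlkInd.defectGroup_conj hM hB hDG hP
    have e1 : D ≃* D.map T.subtype := D.equivMapOfInjective _ T.subtype_injective
    have e2 : (D.map T.subtype : Subgroup G) ≃* P := by
      rw [← hx]
      exact (D.map T.subtype).equivMapOfInjective _ (MulAut.conj x).injective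
    rw [hht, ← index_center_congr (e1.trans e2)]
    exact h6

end Cfsg.Agent.H79
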