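import Cfsg.Agent.BlkInd.RankQuot
import Cfsg.Agent.H4.GenChar
import Cfsg.Agent.CycG.Central
import Cfsg.Agent.H75.Inflate

/-!
# A central `p`-subgroup: integral expansions and block kernels modulo the subgroup
(owner: helper79)
-/

set_option autoImplicit false
set_option linter.unusedSectionVars false
set_option linter.style.haveILetI false

universe u v

namespace Cfsg.Agent.H79.Hks

open scoped ComplexConjugate
open Cfsg Cfsg.Agent.Blk Cfsg.Agent.CharBase Cfsg.Agent.BlkC Cfsg.Agent.BlkInd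

section expo

theorem exists_expo (H : Type u) [Group H] [Finite H] (p : ℕ) [hp : Fact p.Prime] :
    ∃ m : ℕ, H4.PowCond H m ∧ (∀ z : H, (∃ k : ℕ, orderOf z = p ^ k) → z ^ m = 1) ∧
      (∀ h : H, ¬ p ∣ orderOf h → h ^ m = h) := by
  classical
  obtain ⟨a, ha⟩ : ∃ a, a = (Nat.card H).factorization p := ⟨_, rfl⟩
  obtain ⟨N, hN⟩ : ∃ N, N = Nat.card H / p ^ a := ⟨_, rfl⟩
  have hNc : Nat.card H = p ^ a * N := by
    rw [hN, Nat.mul_div_cancel' (by rw [ha]; exact Nat.ordProj_dvd _ _)]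
  have hN0 : N ≠ 0 := by
    rintro rfl
    rw [mul_zero] at hNc
    exact Nat.card_pos.ne' hNc
  have hcop : Nat.Coprime (p ^ a) N := by
    rw [hN, ha]
    exact Nat.Coprime.pow_left _ (Nat.coprime_ordCompl hp.out Nat.card_pos.ne')
  obtain ⟨m₀, hm1, hm2⟩ := Nat.chineseRemainder hcop 0 1
  obtain ⟨m, hm⟩ : ∃ m, m = m₀ + p ^ a * N := ⟨_, rfl⟩
  have hpos : 0 < p ^ a * N := Nat.pos_of_ne_zero (by rw [← hNc]; exact Nat.card_pos.ne')
  have hm1' : p ^ a ∣ m := by
    rw [hm]
    exact dvd_add ((Nat.modEq_zero_iff_dvd).1 hm1) (dvd_mul_right _ _)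
  obtain ⟨k, hk⟩ : ∃ k, m = k + 1 := ⟨m - 1, by omega⟩
  have hkN : N ∣ k := by
    have h1 : m ≡ 1 [MOD N] := by
      rw [hm]
      have h2 : p ^ a * N ≡ 0 [MOD N] := (Nat.modEq_zero_iff_dvd).2 (dvd_mul_left _ _)
      simpa using Nat.ModEq.add hm2 h2
    have h3 : (k + 1) ≡ 0 + 1 [MOD N] := by rw [← hk]; simpa using h1
    exact (Nat.modEq_zero_iff_dvd).1 (Nat.ModEq.add_right_cancel' 1 h3)
  refine ⟨m, ?_, ?_, ?_⟩
  · intro q hq
    by_cases hqp : q = p
    · left
      rw [hqp, ← ha]; exact hm1'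
    · right
      refine ⟨k, hk, dvd_trans ?_ hkN⟩
      have h1 : q ^ (Nat.card H).factorization q ∣ p ^ a * N := by
        rw [← hNc]; exact Nat.ordProj_dvd _ _
      exact Nat.Coprime.dvd_of_dvd_mul_left
        (Nat.Coprime.pow _ _ ((Nat.coprime_primes hq hp.out).2 hqp)) h1
  · rintro z ⟨j, hj⟩
    rw [← orderOf_dvd_iff_pow_eq_one, hj]
    refine dvd_trans ?_ hm1'
    refine pow_dvd_pow p ?_
    rw [ha]
    rw [← Nat.Prime.pow_dvd_iff_le_factorization hp.out Nat.card_pos.ne', ← hj]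
    exact orderOf_dvd_natCard z
  · intro h hh
    have h1 : orderOf h ∣ N := by
      have h2 : orderOf h ∣ p ^ a * N := by rw [← hNc]; exact orderOf_dvd_natCard h
      exact Nat.Coprime.dvd_of_dvd_mul_left
        (Nat.Coprime.pow_right _ ((Nat.Prime.coprime_iff_not_dvd hp.out).2 hh).symm) h2
    rw [hk, pow_succ, orderOf_dvd_iff_pow_eq_one.1 (h1.trans hkN), one_mul]

end expo

section main

variable {H : Type u} [Group H] [Fintype H] {p : ℕ} [hp : Fact p.Prime]
variable {Z : Subgroup H} [hZn : Z.Normal]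

theorem classInner_inflI [Fintype (H ⧸ Z)] (f : H ⧸ Z → ℂ) (ψ : IrrCharacter (H ⧸ Z)) :
    classInner (fun h : H => f (QuotientGroup.mk h)) ((inflI ψ : IrrCharacter H) : H → ℂ) =
      classInner f (ψ : H ⧸ Z → ℂ) := by
  classical
  unfold classInner
  have hG : (Nat.card H : ℂ) = (Nat.card (H ⧸ Z) : ℂ) * (Nat.card Z : ℂ) := by
    rw [Subgroup.card_eq_card_quotient_mul_card_subgroup Z]; push_cast; rfl
  have hQ0 : (Nat.card Z : ℂ) ≠ 0 := by exact_mod_cast Nat.card_pos.ne'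
  have hG0 : (Nat.card (H ⧸ Z) : ℂ) ≠ 0 := by exact_mod_cast Nat.card_pos.ne'
  have key : ∑ h : H, f (QuotientGroup.mk h) * conj ((ψ : H ⧸ Z → ℂ) (QuotientGroup.mk h)) =
      (Nat.card Z : ℂ) * ∑ y : H ⧸ Z, f y * conj ((ψ : H ⧸ Z → ℂ) y) := by
    rw [← Finset.sum_fiberwise_of_maps_to (g := fun h : H => (QuotientGroup.mk h : H ⧸ Z))
      (t := Finset.univ) (fun _ _ => Finset.mem_univ _), Finset.mul_sum]
    refine Finset.sum_congr rfl fun y _ => ?_
    rw [Finset.sum_congr rfl (g := fun _ => f y * conj ((ψ : H ⧸ Z → ℂ) y)) (fun h hh => by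
      rw [(Finset.mem_filter.1 hh).2]), Finset.sum_const, nsmul_eq_mul]
    congr 2
    obtain ⟨h₀, rfl⟩ := QuotientGroup.mk_surjective y
    have := Fintype.ofFinite Z
    rw [Nat.card_eq_fintype_card, ← Finset.card_univ]
    symm
    refine Finset.card_bij (fun (z : Z) _ => h₀ * (z : H)) ?_ ?_ ?_
    · intro z _
      rw [Finset.mem_filter]
      refine ⟨Finset.mem_univ _, ?_⟩
      rw [QuotientGroup.eq]
      simp
    · intro z _ z' _ h
      exact Subtype.ext (mul_left_cancel h)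
    · intro h hh
      have h1 := (Finset.mem_filter.1 hh).2
      rw [QuotientGroup.eq] at h1
      refine ⟨⟨h₀⁻¹ * h, ?_⟩, Finset.mem_univ _, by simp⟩
      have h2 := Z.inv_mem h1
      simpa using h2
  have key' : ∑ h : H, f (QuotientGroup.mk h) *
      conj (((inflI ψ : IrrCharacter H) : H → ℂ) h) = (Nat.card Z : ℂ) *
        ∑ y : H ⧸ Z, f y * conj ((ψ : H ⧸ Z → ℂ) y) := key
  rw [key', hG]
  field_simp

/-- integral expansion on `p`-regular elements by inflated characters -/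
theorem exists_int_infl (hZ : IsPGroup p Z) (hc : Z ≤ Subgroup.center H) (η : IrrCharacter H)
    [Fintype (IrrCharacter (H ⧸ Z))] :
    ∃ n : IrrCharacter (H ⧸ Z) → ℤ, ∀ h : H, ¬ p ∣ orderOf h →
      (η : H → ℂ) h = ∑ ψ, (n ψ : ℂ) * (ψ : H ⧸ Z → ℂ) (QuotientGroup.mk h) := by
  classical
  haveI := Fintype.ofFinite (H ⧸ Z)
  obtain ⟨m, hm, hmp, hmr⟩ := exists_expo H p
  have hgen : IsGeneralizedCharacter H (fun h => (η : H → ℂ) (h ^ m)) :=
    H4.isGC_pow ⟨_, 0, irr_isCharacter η, isCharacter_zero, by rw [sub_zero]⟩ hm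
  have hinv : ∀ (h z : H), z ∈ Z → (h * z) ^ m = h ^ m := by
    intro h z hz
    have h1 : Commute h z := (Subgroup.mem_center_iff.1 (hc hz) h)
    rw [h1.mul_pow]
    obtain ⟨k, hk⟩ := (IsPGroup.iff_orderOf.mp hZ) ⟨z, hz⟩
    rw [hmp z ⟨k, by rw [← hk, ← Subgroup.orderOf_coe]⟩, mul_one]
  obtain ⟨f, hf⟩ : ∃ f : H ⧸ Z → ℂ, ∀ h : H, f (QuotientGroup.mk h) = (η : H → ℂ) (h ^ m) := by
    refine ⟨fun y => (η : H → ℂ) ((Quotient.out y) ^ m), fun h => ?_⟩
    have h1 : (QuotientGroup.mk (Quotient.out (QuotientGroup.mk h : H ⧸ Z)) : H ⧸ Z) =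
        QuotientGroup.mk h := Quotient.out_eq _
    have h2 := QuotientGroup.eq.1 h1.symm
    have h3 := hinv h _ h2
    simp only
    rw [← h3]
    group
  have hfc : IsClassFunction (H ⧸ Z) f := by
    intro y x
    obtain ⟨g, rfl⟩ := QuotientGroup.mk_surjective y
    obtain ⟨a, rfl⟩ := QuotientGroup.mk_surjective x
    have h1 : (QuotientGroup.mk a : H ⧸ Z) * QuotientGroup.mk g * (QuotientGroup.mk a)⁻¹ =
        QuotientGroup.mk (a * g * a⁻¹) := rfl
    rw [h1, hf, hf, conj_pow]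
    exact irr_isClassFunction η _ _
  have hint : ∀ ψ : IrrCharacter (H ⧸ Z), ∃ n : ℤ, classInner f (ψ : H ⧸ Z → ℂ) = n := by
    intro ψ
    obtain ⟨n, hn⟩ := (isGeneralizedCharacter_iff.1 hgen).2 (inflI ψ)
    refine ⟨n, ?_⟩
    rw [← classInner_inflI, ← hn]
    congr 1
    funext h
    exact hf h
  choose n hn using hint
  refine ⟨n, fun h hh => ?_⟩
  have h1 := hf h
  rw [hmr h hh] at h1
  rw [← h1]
  have h2 := congrFun (classFun_eq_sum hfc) (QuotientGroup.mk h)
  rw [h2, Finset.sum_apply]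
  refine Finset.sum_congr rfl fun ψ _ => ?_
  rw [hn, Pi.smul_apply, smul_eq_mul]

variable {M : Ideal AlgInt} [hMp : M.IsPrime]

theorem sup_centralizer_of_central (hc : Z ≤ Subgroup.center H) :
    Z ⊔ Subgroup.centralizer (Z : Set H) = ⊤ := by
  rw [eq_top_iff]
  refine le_trans ?_ le_sup_right
  intro h _
  rw [Subgroup.mem_centralizer_iff]
  intro z hz
  exact (Subgroup.mem_center_iff.1 (hc hz) h).symm

/-- the same inside the principal block -/
theorem exists_int_infl_principal (hM : IsPModular p M) (hZ : IsPGroup p Z)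
    (hc : Z ≤ Subgroup.center H) {η : IrrCharacter H} (hη : η ∈ principalBlock M H)
    [Fintype (IrrCharacter (H ⧸ Z))] :
    ∃ n : IrrCharacter (H ⧸ Z) → ℤ, (∀ ψ, ψ ∉ principalBlock M (H ⧸ Z) → n ψ = 0) ∧
      ∀ h : H, ¬ p ∣ orderOf h →
      (η : H → ℂ) h = ∑ ψ, (n ψ : ℂ) * (ψ : H ⧸ Z → ℂ) (QuotientGroup.mk h) := by
  classical
  obtain ⟨n, hn⟩ := exists_int_infl hZ hc η
  have hB : IsPBlock M (principalBlock M H) := isPBlock_principalBlock M
  have hHc : (Nat.card H : ℂ) ≠ 0 := by exact_mod_cast Nat.card_pos.ne'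
  refine ⟨fun ψ => if ψ ∈ principalBlock M (H ⧸ Z) then n ψ else 0, fun ψ hψ => if_neg hψ,
    fun h hh => ?_⟩
  have h1 := sum_regular_blockKernel_mul hM hB hh η
  rw [if_pos hη] at h1
  have h2 : ∑ y : H, (if p ∣ orderOf y then 0 else blockKernel (principalBlock M H) h y *
      (η : H → ℂ) y) = ∑ ψ : IrrCharacter (H ⧸ Z), (n ψ : ℂ) * ∑ y : H, (if p ∣ orderOf y then 0
        else blockKernel (principalBlock M H) h y * ((inflI ψ : IrrCharacter H) : H → ℂ) y) := by
    simp only [Finset.mul_sum]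
    rw [Finset.sum_comm]
    refine Finset.sum_congr rfl fun y _ => ?_
    by_cases hy : p ∣ orderOf y
    · simp [hy]
    · simp only [if_neg hy]
      rw [hn y hy, Finset.mul_sum]
      refine Finset.sum_congr rfl fun ψ _ => ?_
      change _ = (n ψ : ℂ) * (blockKernel (principalBlock M H) h y *
        (ψ : H ⧸ Z → ℂ) (QuotientGroup.mk y))
      ring
  rw [h2] at h1
  apply mul_left_cancel₀ hHc
  rw [← h1, Finset.mul_sum]
  refine Finset.sum_congr rfl fun ψ _ => ?_
  rw [sum_regular_blockKernel_mul hM hB hh (inflI ψ)]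
  simp only
  by_cases hψ : ψ ∈ principalBlock M (H ⧸ Z)
  · rw [if_pos hψ, if_pos ((inflI_mem_principal_iff hM hZ (sup_centralizer_of_central hc) ψ).2 hψ)]
    change (n ψ : ℂ) * ((Nat.card H : ℂ) * (ψ : H ⧸ Z → ℂ) (QuotientGroup.mk h)) = _
    ring
  · rw [if_neg hψ, if_neg (fun h => hψ
      ((inflI_mem_principal_iff hM hZ (sup_centralizer_of_central hc) ψ).1 h))]
    simp

end main

section kernel

variable {H : Type u} [Group H] [Fintype H] {p : ℕ} [hp : Fact p.Prime]
variable {M : Ideal AlgInt} [hMp : M.IsPrime]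

theorem inflI_injective {Z : Subgroup H} [Z.Normal] :
    Function.Injective (inflI : IrrCharacter (H ⧸ Z) → IrrCharacter H) := by
  intro ψ ψ' h
  apply Subtype.ext
  funext y
  obtain ⟨g, rfl⟩ := QuotientGroup.mk_surjective y
  exact congrFun (congrArg Subtype.val h) g

theorem apply_mul_pow_central (η : IrrCharacter H) {x : H} (hx : x ∈ Subgroup.center H) (s : H)
    (k : ℕ) : (η : H → ℂ) (s * x ^ k) =
      (η : H → ℂ) s * ((η : H → ℂ) x / (η : H → ℂ) 1) ^ k := by
  have h1 : (η : H → ℂ) 1 ≠ 0 := irr_one_ne_zero η.2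
  induction k with
  | zero => simp
  | succ k ih =>
    have h2 := CycG.mul_central η hx (s * x ^ k)
    rw [pow_succ, ← mul_assoc, pow_succ, ← mul_assoc, ← ih, mul_div_assoc', eq_div_iff h1, h2]

theorem kernel_quot (hM : IsPModular p M) {x : H} (hx : ∃ k : ℕ, orderOf x = p ^ k)
    (hxc : x ∈ Subgroup.center H) [(Subgroup.zpowers x).Normal]
    [Fintype (H ⧸ Subgroup.zpowers x)] {s t : H}
    (hs : ¬ p ∣ orderOf s) (ht : ¬ p ∣ orderOf t) :
    blockKernel (principalBlock M H) s t = (orderOf x : ℂ) *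
      blockKernel (principalBlock M (H ⧸ Subgroup.zpowers x)) (QuotientGroup.mk s)
        (QuotientGroup.mk t) := by
  classical
  have hB : IsPBlock M (principalBlock M H) := isPBlock_principalBlock M
  have hZc : Subgroup.zpowers x ≤ Subgroup.center H := by
    rw [Subgroup.zpowers_le]; exact hxc
  have hZp : IsPGroup p (Subgroup.zpowers x) := by
    obtain ⟨k, hk⟩ := hx
    exact IsPGroup.of_card (n := k) (by rw [Nat.card_zpowers, hk])
  have hsup := sup_centralizer_of_central hZc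
  have hn0 : 0 < orderOf x := orderOf_pos x
  -- the sum over `k`
  have hF : ∀ k ∈ Finset.range (orderOf x), k ≠ 0 →
      ∑ η ∈ Bfin (principalBlock M H), (η : H → ℂ) (s * x ^ k) * conj ((η : H → ℂ) t) = 0 := by
    intro k hk hk0
    rw [Finset.mem_range] at hk
    have hsing : p ∣ orderOf (s * x ^ k) := by
      by_contra hcon
      have h1 : (QuotientGroup.mk (s * x ^ k) : H ⧸ Subgroup.zpowers x) = QuotientGroup.mk s := by
        rw [QuotientGroup.eq]
        have h2 : (s * x ^ k)⁻¹ * s = (x ^ k)⁻¹ := by group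
        rw [h2]
        exact Subgroup.inv_mem _ (Subgroup.pow_mem _ (Subgroup.mem_zpowers x) k)
      have h3 := eq_of_regular_of_mk hZp hsup hcon hs h1
      have h4 : x ^ k = 1 := by simpa using h3
      have h5 := orderOf_dvd_of_pow_eq_one h4
      exact absurd (Nat.le_of_dvd (Nat.pos_of_ne_zero hk0) h5) (by omega)
    have h1 := blockKernel_eq_zero hM hB ht hsing
    rw [blockKernel_eq_Bfin] at h1
    have h2 := congrArg conj h1
    rw [map_sum, map_zero] at h2
    rw [← h2]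
    refine Finset.sum_congr rfl fun η _ => ?_
    rw [map_mul, Complex.conj_conj, mul_comm]
  have h1 : ∑ k ∈ Finset.range (orderOf x), ∑ η ∈ Bfin (principalBlock M H),
      (η : H → ℂ) (s * x ^ k) * conj ((η : H → ℂ) t) = blockKernel (principalBlock M H) s t := by
    rw [Finset.sum_eq_single 0 hF (fun h => absurd (Finset.mem_range.2 hn0) h), pow_zero, mul_one,
      blockKernel_eq_Bfin]
  rw [← h1, Finset.sum_comm]
  have h2 : ∀ η : IrrCharacter H, ∑ k ∈ Finset.range (orderOf x),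
      (η : H → ℂ) (s * x ^ k) * conj ((η : H → ℂ) t) =
      if (η : H → ℂ) x = (η : H → ℂ) 1 then (orderOf x : ℂ) * ((η : H → ℂ) s * conj ((η : H → ℂ) t))
        else 0 := by
    intro η
    have hη1 : (η : H → ℂ) 1 ≠ 0 := irr_one_ne_zero η.2
    obtain ⟨ω, hω⟩ : ∃ ω, ω = (η : H → ℂ) x / (η : H → ℂ) 1 := ⟨_, rfl⟩
    have h3 : ω ^ orderOf x = 1 := by
      have h4 := apply_mul_pow_central η hxc 1 (orderOf x)
      rw [pow_orderOf_eq_one, mul_one, ← hω] at h4
      exact (mul_right_eq_self₀.1 h4.symm).resolve_right hη1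
    have h4 : ∑ k ∈ Finset.range (orderOf x), (η : H → ℂ) (s * x ^ k) * conj ((η : H → ℂ) t) =
        (∑ k ∈ Finset.range (orderOf x), ω ^ k) * ((η : H → ℂ) s * conj ((η : H → ℂ) t)) := by
      rw [Finset.sum_mul]
      refine Finset.sum_congr rfl fun k _ => ?_
      rw [apply_mul_pow_central η hxc, ← hω]
      ring
    rw [h4]
    split_ifs with h5
    · have h6 : ω = 1 := by rw [hω, h5, div_self hη1]
      rw [h6]; simp
    · have h6 : ω ≠ 1 := by
        intro h7
        apply h5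
        rw [hω, div_eq_one_iff_eq hη1] at h7
        exact h7
      have h7 : (∑ k ∈ Finset.range (orderOf x), ω ^ k) * (ω - 1) = 0 := by
        rw [geom_sum_mul, h3, sub_self]
      rw [(mul_eq_zero.1 h7).resolve_right (sub_ne_zero.2 h6), zero_mul]
  rw [Finset.sum_congr rfl fun η _ => h2 η, ← Finset.sum_filter, ← Finset.mul_sum]
  congr 1
  rw [blockKernel_eq_Bfin]
  symm
  refine Finset.sum_bij (fun ψ _ => inflI ψ) ?_ ?_ ?_ ?_
  · intro ψ hψ
    rw [Finset.mem_filter, mem_Bfin]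
    refine ⟨(inflI_mem_principal_iff hM hZp hsup ψ).2 (mem_Bfin.1 hψ), ?_⟩
    change (ψ : H ⧸ Subgroup.zpowers x → ℂ) (QuotientGroup.mk x) =
      (ψ : H ⧸ Subgroup.zpowers x → ℂ) (QuotientGroup.mk 1)
    have h8 : (QuotientGroup.mk x : H ⧸ Subgroup.zpowers x) = QuotientGroup.mk 1 := by
      rw [QuotientGroup.eq]
      simp
    rw [h8]
  · intro ψ _ ψ' _ h
    exact inflI_injective h
  · intro η hη
    rw [Finset.mem_filter, mem_Bfin] at hη
    have hker : ∀ z ∈ Subgroup.zpowers x, (η : H → ℂ) z = (η : H → ℂ) 1 := by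
      intro z hz
      have hz' : z ∈ Submonoid.powers x := mem_powers_iff_mem_zpowers.2 hz
      obtain ⟨k, rfl⟩ := hz'
      have h4 := apply_mul_pow_central η hxc 1 k
      rw [one_mul, hη.2, div_self (irr_one_ne_zero η.2), one_pow, mul_one] at h4
      exact h4
    obtain ⟨ψ, hψ3, hψ2⟩ := Cfsg.Agent.H75.exists_deflate_irr (Subgroup.zpowers x) η.2 hker
    refine ⟨⟨ψ, hψ3⟩, ?_, Subtype.ext (funext fun h => hψ2 h)⟩
    rw [mem_Bfin, ← inflI_mem_principal_iff hM hZp hsup]
    have h7 : inflI (⟨ψ, hψ3⟩ : IrrCharacter (H ⧸ Subgroup.zpowers x)) = η :=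
      Subtype.ext (funext fun h => hψ2 h)
    rw [h7]; exact hη.1
  · intro ψ hψ
    rfl

end kernel

end Cfsg.Agent.H79.Hks
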