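import Cfsg.Agent.H79.ModJ

/-!
# Small modular representations: the polynomial model
-/

set_option autoImplicit false
set_option linter.style.haveILetI false

open Module Polynomial

namespace Cfsg.Agent.H79.MR

universe u v w

section poly

variable {k : Type v} [Field k]

/-- The operators of the Lie algebra `sl₂` on polynomials. -/
noncomputable def t0 : k[X] →ₗ[k] k[X] := derivative

noncomputable def t1 (c : k) : k[X] →ₗ[k] k[X] :=
  (LinearMap.mulLeft k (2 * X : k[X])) ∘ₗ derivative - c • LinearMap.id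

noncomputable def t2 (c : k) : k[X] →ₗ[k] k[X] :=
  (LinearMap.mulLeft k (X ^ 2 : k[X])) ∘ₗ derivative - c • LinearMap.mulLeft k (X : k[X])

theorem t0_apply (f : k[X]) : t0 f = derivative f := rfl

theorem t1_apply (c : k) (f : k[X]) : t1 c f = 2 * X * derivative f - C c * f := by
  rw [← smul_eq_C_mul]; rfl

theorem t2_apply (c : k) (f : k[X]) : t2 c f = X ^ 2 * derivative f - C c * (X * f) := by
  rw [← smul_eq_C_mul]; rfl

theorem t0_comp (a b : k) (ha : a ≠ 0) (f : k[X]) :
    (t0 f).comp (C a * X + C b) = C a⁻¹ * t0 (f.comp (C a * X + C b)) := by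
  have h1 : C a⁻¹ * C a = (1 : k[X]) := by rw [← C_mul, inv_mul_cancel₀ ha, C_1]
  rw [t0_apply, t0_apply, derivative_comp]
  simp only [derivative_add, derivative_mul, derivative_C, derivative_X, zero_mul, zero_add,
    add_zero, mul_one]
  rw [← mul_assoc, h1, one_mul]

theorem t1_comp (c a b : k) (ha : a ≠ 0) (f : k[X]) :
    (t1 c f).comp (C a * X + C b) = t1 c (f.comp (C a * X + C b)) +
      C (2 * b * a⁻¹) * t0 (f.comp (C a * X + C b)) := by
  have h1 : C a * C a⁻¹ = (1 : k[X]) := by rw [← C_mul, mul_inv_cancel₀ ha, C_1]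
  rw [t1_apply, t1_apply, t0_apply, derivative_comp]
  simp only [derivative_add, derivative_mul, derivative_C, derivative_X, zero_mul, zero_add,
    add_zero, mul_one, sub_comp, mul_comp, C_comp, X_comp, C_mul, ofNat_comp]
  have h2 : C (2 : k) = (2 : k[X]) := rfl
  rw [h2]
  linear_combination (-(2 : k[X]) * C b * (derivative f).comp (C a * X + C b)) * h1

theorem t2_comp (c a b : k) (ha : a ≠ 0) (f : k[X]) :
    (t2 c f).comp (C a * X + C b) = C a * t2 c (f.comp (C a * X + C b)) +
      C b * t1 c (f.comp (C a * X + C b)) + C (b * b * a⁻¹) * t0 (f.comp (C a * X + C b)) := by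
  have h1 : C a * C a⁻¹ = (1 : k[X]) := by rw [← C_mul, mul_inv_cancel₀ ha, C_1]
  rw [t2_apply, t2_apply, t1_apply, t0_apply, derivative_comp]
  simp only [derivative_add, derivative_mul, derivative_C, derivative_X, zero_mul, zero_add,
    add_zero, mul_one, sub_comp, mul_comp, C_comp, X_comp, C_mul, pow_comp]
  linear_combination (-(C b * C b) * (derivative f).comp (C a * X + C b)) * h1

/-- The operators preserve the polynomials of small degree. -/
theorem t0_mem {n : ℕ} {f : k[X]} (hf : f ∈ degreeLT k n) : t0 f ∈ degreeLT k n := by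
  rw [mem_degreeLT] at hf ⊢
  exact (degree_derivative_le).trans_lt hf

theorem t1_mem {n : ℕ} (c : k) {f : k[X]} (hf : f ∈ degreeLT k n) : t1 c f ∈ degreeLT k n := by
  rw [mem_degreeLT, degree_lt_iff_coeff_zero] at hf ⊢
  intro m hm
  rw [t1_apply, coeff_sub, coeff_C_mul, hf m hm, mul_zero, sub_zero, mul_assoc]
  have h2 : (2 : k[X]) = C (2 : k) := rfl
  rw [h2, coeff_C_mul]
  cases m with
  | zero => rw [coeff_X_mul_zero, mul_zero]
  | succ m => rw [coeff_X_mul, coeff_derivative, hf (m + 1) hm, zero_mul, mul_zero]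

theorem t2_mem {n : ℕ} {f : k[X]} (hf : f ∈ degreeLT k n) :
    t2 ((n : k) - 1) f ∈ degreeLT k n := by
  rw [mem_degreeLT, degree_lt_iff_coeff_zero] at hf ⊢
  intro m hm
  rw [t2_apply, coeff_sub, coeff_C_mul]
  cases m with
  | zero => rw [coeff_X_mul_zero, mul_zero, sub_zero, pow_two, mul_assoc, coeff_X_mul_zero]
  | succ m =>
    rw [coeff_X_mul, pow_two, mul_assoc, coeff_X_mul]
    cases m with
    | zero =>
      rw [coeff_X_mul_zero, zero_sub]
      have hn : n = 0 ∨ n = 1 := by omega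
      rcases hn with rfl | rfl
      · rw [hf 0 le_rfl, mul_zero, neg_zero]
      · simp
    | succ m =>
      rw [coeff_X_mul, coeff_derivative]
      by_cases h : n ≤ m + 1
      · rw [hf (m + 1) h]; ring
      · have h2 : n = m + 1 + 1 := by omega
        rw [h2]; push_cast; ring

end poly

section kerU

variable {k : Type v} [Field k] {V : Type w} [AddCommGroup V] [Module k V]
  [FiniteDimensional k V]

/-- The kernel of a nilpotent endomorphism with one Jordan block is a line. -/
theorem ker_line {U : Module.End k V} {n : ℕ} (hn : finrank k V = n) (hn0 : 0 < n)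
    (hU : U ^ n = 0) (hU1 : U ^ (n - 1) ≠ 0) :
    ∃ w0 : V, w0 ≠ 0 ∧ U w0 = 0 ∧ ∀ w : V, U w = 0 → ∃ c : k, w = c • w0 := by
  have hne : ∀ i : ℕ, i ≤ n - 1 → U ^ i ≠ 0 := by
    intro i hi h0
    apply hU1
    obtain ⟨r, hr⟩ := Nat.exists_eq_add_of_le hi
    rw [hr, pow_add, h0, zero_mul]
  have hlt : ∀ i : ℕ, i ≤ n - 1 → LinearMap.range (U ^ (i + 1)) < LinearMap.range (U ^ i) := by
    intro i hi
    have hle : LinearMap.range (U ^ (i + 1)) ≤ LinearMap.range (U ^ i) := by
      rintro _ ⟨v, rfl⟩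
      exact ⟨U v, by rw [pow_succ]; rfl⟩
    refine lt_of_le_of_ne hle (fun heq => ?_)
    have h1 : ∀ m : ℕ, LinearMap.range (U ^ (i + m)) = LinearMap.range (U ^ i) := by
      intro m
      induction m with
      | zero => rfl
      | succ m ih =>
        have h2 : U ^ (i + (m + 1)) = U * U ^ (i + m) := by rw [← add_assoc, pow_succ']
        have h3 : U ^ (i + 1) = U * U ^ i := pow_succ' U i
        have h4 : LinearMap.range (U ^ (i + (m + 1))) = (LinearMap.range (U ^ (i + m))).map U := by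
          rw [h2]; exact LinearMap.range_comp _ _
        have h5 : LinearMap.range (U ^ (i + 1)) = (LinearMap.range (U ^ i)).map U := by
          rw [h3]; exact LinearMap.range_comp _ _
        rw [h4, ih, ← h5, heq]
    have h2 := h1 n
    rw [pow_add, hU, mul_zero, LinearMap.range_zero] at h2
    exact hne i hi (LinearMap.range_eq_bot.mp h2.symm)
  have hrk : ∀ j : ℕ, j ≤ n - 1 → j + 1 ≤ finrank k (LinearMap.range (U ^ (n - 1 - j))) := by
    intro j
    induction j with
    | zero =>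
      intro _
      rw [Nat.sub_zero]
      have h1 := Submodule.finrank_lt_finrank_of_lt (hlt (n - 1) le_rfl)
      omega
    | succ j ih =>
      intro hj
      have h1 := Submodule.finrank_lt_finrank_of_lt (hlt (n - 1 - (j + 1)) (by omega))
      have h2 := ih (by omega)
      have h3 : n - 1 - (j + 1) + 1 = n - 1 - j := by omega
      rw [h3] at h1
      omega
  have hker : finrank k (LinearMap.ker U) = 1 := by
    have h1 := LinearMap.finrank_range_add_finrank_ker U
    rw [hn] at h1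
    have h2 : n ≤ finrank k (LinearMap.range U) + 1 := by
      rcases Nat.lt_or_ge 1 n with h3 | h3
      · have h4 := hrk (n - 2) (by omega)
        have h5 : n - 1 - (n - 2) = 1 := by omega
        rw [h5, pow_one] at h4
        omega
      · omega
    have h3 : finrank k (LinearMap.ker U) ≠ 0 := by
      intro h0
      have h4 : LinearMap.ker U = ⊥ := Submodule.finrank_eq_zero.mp h0
      have h5 : LinearMap.range U = ⊤ := LinearMap.range_eq_top.mpr
        (LinearMap.injective_iff_surjective.mp (LinearMap.ker_eq_bot.mp h4))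
      have h6 := hlt 0 (by omega)
      rw [zero_add, pow_one, h5] at h6
      exact not_top_lt h6
    omega
  obtain ⟨w0, hw0, h⟩ := finrank_eq_one_iff'.mp hker
  refine ⟨w0, fun h0 => hw0 (Subtype.ext h0), w0.2, fun w hw => ?_⟩
  obtain ⟨c, hc⟩ := h ⟨w, hw⟩
  exact ⟨c, (congrArg Subtype.val hc).symm⟩

end kerU

section binom

variable {k : Type v} [Field k] {p : ℕ} [hp : Fact p.Prime] [CharP k p]

/-- The binomial polynomials. -/
noncomputable def bin (k : Type v) [Field k] (j : ℕ) : k[X] :=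
  C ((j.factorial : k)⁻¹) * descPochhammer k j

theorem factorial_ne_zero_of_lt {j : ℕ} (hj : j < p) : (j.factorial : k) ≠ 0 := by
  intro h
  rw [CharP.cast_eq_zero_iff k p, hp.out.dvd_factorial] at h
  omega

theorem bin_eval {j : ℕ} (hj : j < p) (t : ℕ) : (bin k j).eval (t : k) = (t.choose j : k) := by
  rw [bin, eval_mul, eval_C, descPochhammer_eval_eq_descFactorial,
    Nat.descFactorial_eq_factorial_mul_choose, Nat.cast_mul, ← mul_assoc,
    inv_mul_cancel₀ (factorial_ne_zero_of_lt hj), one_mul]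

theorem bin_degree {j n : ℕ} (hj : j < n) : bin k j ∈ degreeLT k n := by
  rw [mem_degreeLT, bin]
  have h1 : (descPochhammer k j).degree = (j : WithBot ℕ) := by
    have h2 := monic_descPochhammer k j
    rw [degree_eq_natDegree h2.ne_zero, descPochhammer_natDegree]
  calc (C ((j.factorial : k)⁻¹) * descPochhammer k j).degree
      ≤ (descPochhammer k j).degree := by
        rw [← smul_eq_C_mul]; exact degree_smul_le _ _
    _ = (j : WithBot ℕ) := h1
    _ < (n : WithBot ℕ) := by exact_mod_cast hj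

omit hp in
/-- Polynomials of degree less than `p` are determined by their values at the integers. -/
theorem poly_ext {n : ℕ} (hn : n ≤ p) {f g : k[X]} (hf : f ∈ degreeLT k n)
    (hg : g ∈ degreeLT k n) (h : ∀ t : ℕ, f.eval (t : k) = g.eval (t : k)) : f = g := by
  classical
  have h1 : f - g ∈ degreeLT k n := Submodule.sub_mem _ hf hg
  rw [mem_degreeLT] at h1
  apply eq_of_degree_sub_lt_of_eval_finset_eq ((Finset.range p).image (fun t : ℕ => (t : k)))
  · have h2 : ((Finset.range p).image (fun t : ℕ => (t : k))).card = p := by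
      rw [Finset.card_image_of_injOn, Finset.card_range]
      intro a ha b hb hab
      have ha' := Finset.mem_range.mp (Finset.mem_coe.mp ha)
      have hb' := Finset.mem_range.mp (Finset.mem_coe.mp hb)
      have h3 : (a : k) = (b : k) := hab
      rw [CharP.natCast_eq_natCast (R := k) p] at h3
      have h4 := h3
      rw [Nat.ModEq, Nat.mod_eq_of_lt ha', Nat.mod_eq_of_lt hb'] at h4
      exact h4
    rw [h2]
    exact h1.trans_le (by exact_mod_cast hn)
  · intro x hx
    obtain ⟨t, -, rfl⟩ := Finset.mem_image.mp hx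
    exact h t

end binom

section model

open Subgroup

variable {G : Type u} [Group G] [Finite G] {p : ℕ} [hp : Fact p.Prime]
  {k : Type v} [Field k] [CharP k p] {V : Type w} [AddCommGroup V] [Module k V]
  [FiniteDimensional k V]

omit [Finite G] in
/-- Complements of the Sylow subgroup in its normalizer. -/
theorem exists_compl {u : G} (hu : orderOf u = p) (hsq : ¬ p ^ 2 ∣ Nat.card G) :
    ∃ K : Subgroup G, K ≤ normalizer ((zpowers u : Subgroup G) : Set G) ∧ ¬ p ∣ Nat.card K ∧
      ∀ m ∈ normalizer ((zpowers u : Subgroup G) : Set G), ∃ x ∈ zpowers u, ∃ y ∈ K, m = x * y := by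
  set N := normalizer ((zpowers u : Subgroup G) : Set G) with hN
  have hPN : zpowers u ≤ N := Subgroup.le_normalizer
  set P' : Subgroup N := (zpowers u).subgroupOf N with hP'
  haveI : P'.Normal := Subgroup.normal_in_normalizer
  have hcard : Nat.card P' = p := by
    rw [hP', Nat.card_congr (Subgroup.subgroupOfEquivOfLe hPN).toEquiv, Nat.card_zpowers, hu]
  have hndvd : ¬ p ∣ P'.index := by
    intro h
    apply hsq
    have h1 := Subgroup.index_mul_card P'
    rw [hcard] at h1
    have h2 : p ^ 2 ∣ Nat.card N := by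
      rw [← h1, pow_two]; exact Nat.mul_dvd_mul h dvd_rfl
    exact h2.trans (Subgroup.card_subgroup_dvd_card N)
  have hcop : (Nat.card P').Coprime P'.index := by
    rw [hcard]
    exact (Nat.Prime.coprime_iff_not_dvd hp.out).mpr hndvd
  obtain ⟨K, hK⟩ := Subgroup.exists_right_complement'_of_coprime hcop
  refine ⟨K.map N.subtype, ?_, ?_, ?_⟩
  · rintro _ ⟨x, -, rfl⟩
    exact x.2
  · rw [Nat.card_congr (K.equivMapOfInjective _ N.subtype_injective).symm.toEquiv]
    have h1 : Nat.card K = P'.index := hK.card_right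
    rw [h1]; exact hndvd
  · intro m hm
    obtain ⟨⟨x, y⟩, hxy, -⟩ := hK.existsUnique ⟨m, hm⟩
    refine ⟨((x : N) : G), Subgroup.mem_subgroupOf.mp x.2, ((y : N) : G), ⟨(y : N), y.2, rfl⟩, ?_⟩
    exact (congrArg Subtype.val hxy).symm

/-- The polynomial model of a small representation of the normalizer. -/
theorem exists_model (ρ : G →* Module.End k V) {u : G} (hu : orderOf u = p)
    (hsq : ¬ p ^ 2 ∣ Nat.card G) {n : ℕ} (hn : finrank k V = n) (hn0 : 0 < n) (hnp : n ≤ p)
    (hU1 : (ρ u - 1) ^ (n - 1) ≠ 0) :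
    ∃ Φ : V →ₗ[k] k[X], Function.Injective Φ ∧ LinearMap.range Φ = degreeLT k n ∧
      (∀ w, Φ (ρ u w) = (Φ w).comp (C 1 * X + C 1)) ∧
      ∃ K : Subgroup G, (∀ m ∈ normalizer ((zpowers u : Subgroup G) : Set G),
        ∃ x ∈ zpowers u, ∃ y ∈ K, m = x * y) ∧
        ∀ y ∈ K, ∃ a μ : k, a ≠ 0 ∧ ∀ w, Φ (ρ y w) = μ • (Φ w).comp (C a * X + C 0) := by
  classical
  set U := ρ u - 1 with hUdef
  have hup : u ^ p = 1 := by rw [← hu]; exact pow_orderOf_eq_one u
  have hUn : U ^ n = 0 := by
    rw [← hn]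
    exact pow_finrank_eq_zero (m := p) (sub_one_pow_p ρ hup)
  obtain ⟨w0, hw0, hUw0, hspan⟩ := ker_line hn hn0 hUn hU1
  obtain ⟨K, hKN, hKp, hNK⟩ := exists_compl hu hsq
  obtain ⟨φ0, hφ0⟩ := Module.Projective.exists_dual_eq_one k hw0
  set N := normalizer ((zpowers u : Subgroup G) : Set G) with hN
  have hPN : zpowers u ≤ N := Subgroup.le_normalizer
  have huw0 : ρ u w0 = w0 := by
    have h1 : ρ u w0 - w0 = 0 := hUw0
    rwa [sub_eq_zero] at h1
  -- fixed vectors
  have hfixz : ∀ w : V, ρ u w = w → ∀ x ∈ zpowers u, ρ x w = w := by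
    intro w hw x hx
    let H : Subgroup G :=
      { carrier := {x | ρ x w = w}
        mul_mem' := by
          intro a b ha hb
          show ρ (a * b) w = w
          rw [map_mul]
          show ρ a (ρ b w) = w
          rw [hb, ha]
        one_mem' := by show ρ 1 w = w; rw [map_one]; rfl
        inv_mem' := by
          intro a ha
          show ρ a⁻¹ w = w
          have h3 : ρ a⁻¹ (ρ a w) = w :=
            congrArg (fun b : Module.End k V => b w) (rho_inv' ρ a)
          rwa [ha] at h3 }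
    have h1 : zpowers u ≤ H := by rw [zpowers_le]; exact hw
    exact h1 hx
  -- the character on the fixed line
  have hμ : ∀ y ∈ N, ρ y w0 = (φ0 (ρ y w0)) • w0 := by
    intro y hy
    have h1 : U (ρ y w0) = 0 := by
      show ρ u (ρ y w0) - ρ y w0 = 0
      have h2 : ρ u (ρ y w0) = ρ y (ρ (y⁻¹ * u * y) w0) := by
        have h3 : u * y = y * (y⁻¹ * u * y) := by group
        have h4 : ρ u (ρ y w0) = ρ (u * y) w0 := by rw [map_mul]; rfl
        rw [h4, h3, map_mul]; rfl
      have h5 : y⁻¹ * u * y ∈ zpowers u := by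
        have h3 := (Subgroup.mem_normalizer_iff.mp (inv_mem hy)) u
        rw [inv_inv] at h3
        exact h3.mp (mem_zpowers u)
      rw [h2, hfixz w0 huw0 _ h5, sub_self]
    obtain ⟨c, hc⟩ := hspan _ h1
    rw [hc, map_smul, hφ0, smul_eq_mul, mul_one]
  let μ : G → k := fun y => φ0 (ρ y w0)
  have hμmul : ∀ y ∈ N, ∀ z ∈ N, μ (y * z) = μ y * μ z := by
    intro y hy z hz
    show φ0 (ρ (y * z) w0) = _
    rw [map_mul]
    show φ0 (ρ y (ρ z w0)) = _
    rw [hμ z hz, map_smul, map_smul, smul_eq_mul, mul_comm]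
  -- the functional
  haveI := Fintype.ofFinite K
  obtain ⟨φ, hφ⟩ : ∃ φ : V →ₗ[k] k,
      ∀ w, φ w = (Fintype.card K : k)⁻¹ * ∑ y : K, μ (y : G) * φ0 (ρ (y : G)⁻¹ w) := by
    refine ⟨(Fintype.card K : k)⁻¹ • ∑ y : K, μ (y : G) • (φ0 ∘ₗ ρ (y : G)⁻¹), fun w => ?_⟩
    rw [LinearMap.smul_apply, LinearMap.sum_apply, smul_eq_mul]
    rfl
  have hcK : (Fintype.card K : k) ≠ 0 := by
    intro h
    rw [CharP.cast_eq_zero_iff k p, ← Nat.card_eq_fintype_card] at h
    exact hKp h
  have hφw0 : φ w0 = 1 := by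
    rw [hφ]
    have h1 : ∀ y : K, μ (y : G) * φ0 (ρ (y : G)⁻¹ w0) = 1 := by
      intro y
      have h2 : μ (y : G) * μ (y : G)⁻¹ = 1 := by
        rw [← hμmul _ (hKN y.2) _ (inv_mem (hKN y.2)), mul_inv_cancel]
        show φ0 (ρ 1 w0) = 1
        rw [map_one]; exact hφ0
      exact h2
    simp only [h1]
    rw [Finset.sum_const, Finset.card_univ, nsmul_eq_mul, mul_one, inv_mul_cancel₀ hcK]
  have hφK : ∀ y ∈ K, ∀ w, φ (ρ y w) = μ y * φ w := by
    intro y hy w
    rw [hφ, hφ, mul_left_comm]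
    congr 1
    rw [Finset.mul_sum]
    symm
    apply Fintype.sum_equiv (Equiv.mulLeft (⟨y, hy⟩ : K))
    intro z
    show μ y * (μ (z : G) * φ0 (ρ (z : G)⁻¹ w)) = μ (y * (z : G)) * φ0 (ρ (y * (z : G))⁻¹ (ρ y w))
    rw [hμmul y (hKN hy) z (hKN z.2), mul_assoc]
    congr 3
    have h1 : ρ (y * (z : G))⁻¹ (ρ y w) = ρ ((y * (z : G))⁻¹ * y) w := by rw [map_mul]; rfl
    rw [h1]
    congr 2
    group
  -- the polynomial map
  obtain ⟨Φ, hΦ⟩ : ∃ Φ : V →ₗ[k] k[X],
      ∀ w, Φ w = ∑ j ∈ Finset.range n, φ ((U ^ j) w) • bin k j := by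
    refine ⟨∑ j ∈ Finset.range n, (φ ∘ₗ (U ^ j)).smulRight (bin k j), fun w => ?_⟩
    rw [LinearMap.sum_apply]
    rfl
  have hΦmem : ∀ w, Φ w ∈ degreeLT k n := by
    intro w
    rw [hΦ]
    exact Submodule.sum_mem _ (fun j hj => Submodule.smul_mem _ _
      (bin_degree (Finset.mem_range.mp hj)))
  have hΦeval : ∀ (w : V) (t : ℕ), (Φ w).eval (t : k) = φ (ρ (u ^ t) w) := by
    intro w t
    have h1 : ρ (u ^ t) = ∑ j ∈ Finset.range n, (t.choose j : k) • U ^ j := by
      have h2 : ρ u = U + 1 := by rw [hUdef, sub_add_cancel]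
      rw [map_pow, h2, (Commute.one_right U).add_pow]
      have h3 : ∀ m : ℕ, U ^ m * 1 ^ (t - m) * ((t.choose m : ℕ) : Module.End k V) =
          (t.choose m : k) • U ^ m := by
        intro m
        rw [one_pow, mul_one, ← Nat.cast_commute, ← nsmul_eq_mul, Nat.cast_smul_eq_nsmul]
      simp only [h3]
      rcases le_total n (t + 1) with h4 | h4
      · obtain ⟨r, hr⟩ := Nat.exists_eq_add_of_le h4
        rw [hr, Finset.sum_range_add]
        have h5 : ∑ x ∈ Finset.range r, (t.choose (n + x) : k) • U ^ (n + x) = 0 := by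
          refine Finset.sum_eq_zero (fun x _ => ?_)
          rw [pow_add, hUn, zero_mul, smul_zero]
        rw [h5, add_zero]
      · obtain ⟨r, hr⟩ := Nat.exists_eq_add_of_le h4
        rw [hr]
        conv_rhs => rw [Finset.sum_range_add]
        have h5 : ∑ x ∈ Finset.range r, (t.choose (t + 1 + x) : k) • U ^ (t + 1 + x) = 0 := by
          refine Finset.sum_eq_zero (fun x _ => ?_)
          rw [Nat.choose_eq_zero_of_lt (by omega), Nat.cast_zero, zero_smul]
        rw [h5, add_zero]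
    rw [hΦ, eval_finsetSum, h1, LinearMap.sum_apply, map_sum]
    refine Finset.sum_congr rfl (fun j hj => ?_)
    rw [eval_smul, bin_eval (p := p) (by have := Finset.mem_range.mp hj; omega),
      LinearMap.smul_apply, map_smul, smul_eq_mul, smul_eq_mul, mul_comm]
  have hinj : Function.Injective Φ := by
    rw [← LinearMap.ker_eq_bot, LinearMap.ker_eq_bot']
    intro w hw
    by_contra hne
    -- the last non vanishing power
    have hex : ∃ a, (U ^ a) w = 0 := ⟨n, by rw [hUn]; rfl⟩
    set a := Nat.find hex with ha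
    have haz : (U ^ a) w = 0 := Nat.find_spec hex
    have ha0 : a ≠ 0 := by
      intro h0
      rw [h0, pow_zero] at haz
      exact hne haz
    have ha1 : (U ^ (a - 1)) w ≠ 0 := Nat.find_min hex (by omega)
    have hUa : U ((U ^ (a - 1)) w) = 0 := by
      have h1 : U ((U ^ (a - 1)) w) = (U ^ (a - 1 + 1)) w := by rw [pow_succ']; rfl
      rw [h1, Nat.sub_add_cancel (by omega), haz]
    obtain ⟨c, hc⟩ := hspan _ hUa
    have hc0 : c ≠ 0 := by
      intro h0
      rw [h0, zero_smul] at hc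
      exact ha1 hc
    -- all the values vanish
    have h2 : ∀ t : ℕ, φ (ρ (u ^ t) w) = 0 := by
      intro t
      rw [← hΦeval, hw, eval_zero]
    have h3 : ∀ m : ℕ, ∀ t : ℕ, φ (ρ (u ^ t) ((U ^ m) w)) = 0 := by
      intro m
      induction m with
      | zero => exact h2
      | succ m ih =>
        intro t
        have h4 : ρ (u ^ t) ((U ^ (m + 1)) w) =
            ρ (u ^ (t + 1)) ((U ^ m) w) - ρ (u ^ t) ((U ^ m) w) := by
          have h5 : (U ^ (m + 1)) w = ρ u ((U ^ m) w) - (U ^ m) w := by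
            rw [pow_succ']; rfl
          rw [h5, map_sub]
          congr 1
          rw [pow_succ, map_mul]; rfl
        rw [h4, map_sub, ih, ih, sub_zero]
    have h4 := h3 (a - 1) 0
    rw [pow_zero, map_one, hc] at h4
    have h5 : φ (c • w0) = 0 := h4
    rw [map_smul, hφw0, smul_eq_mul, mul_one] at h5
    exact hc0 h5
  have hcomp : ∀ (f : k[X]) (a b : k), f ∈ degreeLT k n → f.comp (C a * X + C b) ∈ degreeLT k n := by
    intro f a b hf
    rw [mem_degreeLT] at hf ⊢
    by_cases h0 : f = 0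
    · rw [h0, zero_comp, degree_zero]
      exact WithBot.bot_lt_coe n
    have h1 : (f.comp (C a * X + C b)).natDegree ≤ f.natDegree * 1 := by
      refine natDegree_comp_le.trans (Nat.mul_le_mul_left _ ?_)
      exact natDegree_linear_le
    rw [mul_one] at h1
    calc (f.comp (C a * X + C b)).degree ≤ ((f.comp (C a * X + C b)).natDegree : WithBot ℕ) :=
          degree_le_natDegree
      _ ≤ (f.natDegree : WithBot ℕ) := by exact_mod_cast h1
      _ = f.degree := (degree_eq_natDegree h0).symm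
      _ < n := hf
  refine ⟨Φ, hinj, ?_, ?_, K, hNK, ?_⟩
  · apply Submodule.eq_of_le_of_finrank_eq
    · rintro _ ⟨w, rfl⟩
      exact hΦmem w
    · rw [LinearMap.finrank_range_of_inj hinj, hn, (degreeLTEquiv k n).finrank_eq,
        Module.finrank_fin_fun]
  · intro w
    apply poly_ext hnp (hΦmem _) (hcomp _ _ _ (hΦmem w))
    intro t
    rw [hΦeval, eval_comp, eval_add, eval_mul, eval_C, eval_X, one_mul]
    have h1 : (t : k) + 1 = ((t + 1 : ℕ) : k) := by push_cast; rfl
    rw [h1, hΦeval, pow_succ, map_mul]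
    rfl
  · intro y hy
    -- the action of `y` on the Sylow subgroup
    have h3 : y⁻¹ * u * y ∈ zpowers u := by
      have h4 := (Subgroup.mem_normalizer_iff.mp (inv_mem (hKN hy))) u
      rw [inv_inv] at h4
      exact h4.mp (mem_zpowers u)
    obtain ⟨c, hc⟩ : ∃ c : ℕ, u ^ c = y⁻¹ * u * y := by
      rw [← mem_powers_iff_mem_zpowers] at h3
      exact h3
    refine ⟨(c : k), μ y, ?_, ?_⟩
    · intro h0
      rw [CharP.cast_eq_zero_iff k p] at h0
      obtain ⟨r, hr⟩ := h0
      rw [hr, pow_mul, hup, one_pow] at hc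
      have h5 : u = 1 := by
        have h6 : u = y * (y⁻¹ * u * y) * y⁻¹ := by group
        rw [h6, ← hc, mul_one, mul_inv_cancel]
      rw [h5, orderOf_one] at hu
      exact hp.out.one_lt.ne hu
    · intro w
      apply poly_ext hnp (hΦmem _) (Submodule.smul_mem _ _ (hcomp _ _ _ (hΦmem w)))
      intro t
      rw [hΦeval, eval_smul, eval_comp, eval_add, eval_mul, eval_C, eval_X, eval_C, add_zero]
      have h1 : (c : k) * (t : k) = ((c * t : ℕ) : k) := by push_cast; rfl
      rw [h1, hΦeval, smul_eq_mul, ← hφK y hy]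
      congr 1
      have h5 : ρ (u ^ t) (ρ y w) = ρ (u ^ t * y) w := by rw [map_mul]; rfl
      have h6 : ρ y (ρ (u ^ (c * t)) w) = ρ (y * u ^ (c * t)) w := by rw [map_mul]; rfl
      rw [h5, h6, pow_mul, hc]
      congr 2
      have h7 : (y⁻¹ * u * y) ^ t = y⁻¹ * u ^ t * y := by
        have h8 : y⁻¹ * u * y = y⁻¹ * u * (y⁻¹)⁻¹ := by rw [inv_inv]
        rw [h8, conj_pow, inv_inv]
      rw [h7]; group

end model

section lift

variable {k : Type v} [Field k] {V : Type w} [AddCommGroup V] [Module k V]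

theorem exists_lift {Φ : V →ₗ[k] k[X]} (hinj : Function.Injective Φ) {n : ℕ}
    (hrange : LinearMap.range Φ = degreeLT k n) (t : k[X] →ₗ[k] k[X])
    (ht : ∀ f ∈ degreeLT k n, t f ∈ degreeLT k n) :
    ∃ T : Module.End k V, ∀ w, Φ (T w) = t (Φ w) := by
  let e := LinearEquiv.ofInjective Φ hinj
  have hmem : ∀ w, (t ∘ₗ Φ) w ∈ LinearMap.range Φ := by
    intro w
    rw [hrange]
    apply ht
    rw [← hrange]
    exact ⟨w, rfl⟩
  refine ⟨e.symm.toLinearMap ∘ₗ ((t ∘ₗ Φ).codRestrict (LinearMap.range Φ) hmem), fun w => ?_⟩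
  have h1 : ∀ z : V, Φ z = ((e z : LinearMap.range Φ) : k[X]) := fun z => rfl
  rw [h1]
  show ((e (e.symm ((t ∘ₗ Φ).codRestrict (LinearMap.range Φ) hmem w)) : LinearMap.range Φ) :
    k[X]) = _
  rw [LinearEquiv.apply_symm_apply]
  rfl

theorem adj_eq_of {G : Type u} [Group G] (ρ : G →* Module.End k V) {m : G}
    {T S : Module.End k V} (h : ∀ w, ρ m (T w) = S (ρ m w)) : adj ρ m T = S := by
  rw [adj_apply]
  have h1 : ρ m * T = S * ρ m := LinearMap.ext h
  rw [h1, mul_assoc, rho_inv, mul_one]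

theorem adj_triple {G : Type u} [Group G] (ρ : G →* Module.End k V) {Φ : V →ₗ[k] k[X]}
    (hinj : Function.Injective Φ) (c : k) {T0 T1 T2 : Module.End k V}
    (h0 : ∀ w, Φ (T0 w) = t0 (Φ w)) (h1 : ∀ w, Φ (T1 w) = t1 c (Φ w))
    (h2 : ∀ w, Φ (T2 w) = t2 c (Φ w)) {m : G} {μ a b : k} (ha : a ≠ 0)
    (hm : ∀ w, Φ (ρ m w) = μ • (Φ w).comp (C a * X + C b)) :
    adj ρ m T0 = a⁻¹ • T0 ∧ adj ρ m T1 = T1 + (2 * b * a⁻¹) • T0 ∧
      adj ρ m T2 = a • T2 + b • T1 + (b * b * a⁻¹) • T0 := by
  refine ⟨adj_eq_of ρ (fun w => hinj ?_), adj_eq_of ρ (fun w => hinj ?_),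
    adj_eq_of ρ (fun w => hinj ?_)⟩
  · rw [hm, h0, t0_comp a b ha]
    show _ = Φ (a⁻¹ • T0 (ρ m w))
    rw [map_smul, h0, hm, map_smul, smul_comm, smul_eq_C_mul (a := a⁻¹)]
  · rw [hm, h1, t1_comp c a b ha]
    show _ = Φ (T1 (ρ m w) + (2 * b * a⁻¹) • T0 (ρ m w))
    rw [map_add, map_smul, h0, h1, hm, map_smul, map_smul, smul_comm _ μ,
      smul_eq_C_mul (a := (2 * b * a⁻¹)), smul_add]
  · rw [hm, h2, t2_comp c a b ha]
    show _ = Φ (a • T2 (ρ m w) + b • T1 (ρ m w) + (b * b * a⁻¹) • T0 (ρ m w))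
    rw [map_add, map_add, map_smul, map_smul, map_smul, h0, h1, h2, hm, map_smul, map_smul,
      map_smul, smul_comm _ μ, smul_comm _ μ, smul_comm _ μ, smul_eq_C_mul (a := a),
      smul_eq_C_mul (a := b), smul_eq_C_mul (a := (b * b * a⁻¹)), smul_add, smul_add]

theorem six_sum (n : ℕ) : ∀ m : ℕ, 6 * ∑ l ∈ Finset.range m, (((l : k) + 1 - n) * ((l : k) + 1)) =
    m * (m + 1) * (2 * m + 1) - 3 * n * m * (m + 1) := by
  intro m
  induction m with
  | zero => simp
  | succ m ih =>
    rw [Finset.sum_range_succ, mul_add, ih]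
    push_cast
    ring

theorem trace_T0T2 {Φ : V →ₗ[k] k[X]} (hinj : Function.Injective Φ) {n : ℕ}
    (hrange : LinearMap.range Φ = degreeLT k n) {T0 T2 : Module.End k V}
    (h0 : ∀ w, Φ (T0 w) = t0 (Φ w)) (h2 : ∀ w, Φ (T2 w) = t2 ((n : k) - 1) (Φ w)) :
    6 * LinearMap.trace k V (T0 * T2) = -(n * (n + 1) * (n - 1)) := by
  classical
  let e : V ≃ₗ[k] degreeLT k n :=
    (LinearEquiv.ofInjective Φ hinj).trans (LinearEquiv.ofEq _ _ hrange)
  let b : Basis (Fin n) k V := (degreeLT.basis k n).map e.symm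
  have hΦe : ∀ z : V, Φ z = ((e z : degreeLT k n) : k[X]) := fun z => rfl
  have hb : ∀ l : Fin n, Φ (b l) = X ^ (l : ℕ) := by
    intro l
    rw [hΦe]
    show ((e (e.symm (degreeLT.basis k n l)) : degreeLT k n) : k[X]) = _
    rw [LinearEquiv.apply_symm_apply, degreeLT.basis_val]
  have hD : ∀ l : Fin n, (T0 * T2) (b l) = ((((l : ℕ) : k) + 1 - n) * (((l : ℕ) : k) + 1)) • b l := by
    intro l
    apply hinj
    show Φ (T0 (T2 (b l))) = _
    rw [h0, h2, map_smul, hb, t2_apply, derivative_X_pow, t0_apply, smul_eq_C_mul]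
    have h3 : (X ^ 2 * (C ((l : ℕ) : k) * X ^ ((l : ℕ) - 1)) - C ((n : k) - 1) * (X * X ^ (l : ℕ)) :
        k[X]) = C (((l : ℕ) : k) + 1 - n) * X ^ ((l : ℕ) + 1) := by
      rcases Nat.eq_zero_or_pos (l : ℕ) with h4 | h4
      · rw [h4]; simp; ring
      · obtain ⟨r, hr⟩ : ∃ r, (l : ℕ) = r + 1 := ⟨(l : ℕ) - 1, by omega⟩
        rw [hr, Nat.add_sub_cancel, C_sub, C_sub, C_add, C_1]
        ring
    rw [h3, derivative_C_mul, derivative_X_pow, C_mul]
    rw [Nat.add_sub_cancel]
    push_cast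
    rw [C_add, C_1]
    ring
  have htr : LinearMap.trace k V (T0 * T2) =
      ∑ l ∈ Finset.range n, (((l : k) + 1 - n) * ((l : k) + 1)) := by
    rw [LinearMap.trace_eq_matrix_trace k b, Matrix.trace, Finset.sum_range]
    refine Finset.sum_congr rfl (fun l _ => ?_)
    rw [Matrix.diag_apply, LinearMap.toMatrix_apply, hD, map_smul, Finsupp.smul_apply,
      Basis.repr_self, Finsupp.single_eq_same, smul_eq_mul, mul_one]
  rw [htr, six_sum]
  ring

end lift

section triple

open Subgroup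

variable {G : Type u} [Group G] [Finite G] {p : ℕ} [hp : Fact p.Prime]
  {k : Type v} [Field k] [CharP k p] {V : Type w} [AddCommGroup V] [Module k V]
  [FiniteDimensional k V]

theorem exists_triple (ρ : G →* Module.End k V) {u : G} (hu : orderOf u = p)
    (hsq : ¬ p ^ 2 ∣ Nat.card G) {n : ℕ} (hn : finrank k V = n) (hn2 : 2 ≤ n) (hnp : n + 1 < p)
    (hU1 : (ρ u - 1) ^ (n - 1) ≠ 0) :
    ∃ T0 T1 T2 : Module.End k V, adj ρ u T0 = T0 ∧ adj ρ u T1 = T1 + (2 : k) • T0 ∧
      adj ρ u T2 = T2 + T1 + T0 ∧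
      (∀ m ∈ normalizer ((zpowers u : Subgroup G) : Set G),
        ∀ T ∈ Submodule.span k ({T0, T1, T2} : Set (Module.End k V)),
          adj ρ m T ∈ Submodule.span k ({T0, T1, T2} : Set (Module.End k V))) ∧
      LinearMap.trace k V (T0 * T2) ≠ 0 := by
  obtain ⟨Φ, hinj, hrange, hΦu, K, hNK, hK⟩ := exists_model ρ hu hsq hn (by omega) (by omega) hU1
  obtain ⟨T0, h0⟩ := exists_lift hinj hrange t0 (fun f hf => t0_mem hf)
  obtain ⟨T1, h1⟩ := exists_lift hinj hrange (t1 ((n : k) - 1)) (fun f hf => t1_mem _ hf)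
  obtain ⟨T2, h2⟩ := exists_lift hinj hrange (t2 ((n : k) - 1)) (fun f hf => t2_mem hf)
  obtain ⟨hu0, hu1, hu2⟩ := adj_triple ρ hinj _ h0 h1 h2 (m := u) (μ := 1) (a := 1) (b := 1)
    one_ne_zero (fun w => by rw [hΦu, one_smul])
  set S := Submodule.span k ({T0, T1, T2} : Set (Module.End k V)) with hS
  have m0 : T0 ∈ S := Submodule.subset_span (by simp)
  have m1 : T1 ∈ S := Submodule.subset_span (by simp)
  have m2 : T2 ∈ S := Submodule.subset_span (by simp)
  have hstab : ∀ (m : G) (μ a b : k), a ≠ 0 →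
      (∀ w, Φ (ρ m w) = μ • (Φ w).comp (C a * X + C b)) → ∀ T ∈ S, adj ρ m T ∈ S := by
    intro m μ a b ha hm T hT
    obtain ⟨e0, e1, e2⟩ := adj_triple ρ hinj _ h0 h1 h2 ha hm
    have h3 : S ≤ S.comap (adj ρ m) := by
      rw [hS, Submodule.span_le]
      rintro x (rfl | rfl | rfl)
      · show adj ρ m x ∈ S
        rw [e0]; exact S.smul_mem _ m0
      · show adj ρ m x ∈ S
        rw [e1]; exact S.add_mem m1 (S.smul_mem _ m0)
      · show adj ρ m x ∈ S
        rw [e2]
        exact S.add_mem (S.add_mem (S.smul_mem _ m2) (S.smul_mem _ m1)) (S.smul_mem _ m0)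
    exact h3 hT
  refine ⟨T0, T1, T2, ?_, ?_, ?_, ?_, ?_⟩
  · rw [hu0, inv_one, one_smul]
  · rw [hu1, inv_one, mul_one, mul_one]
  · rw [hu2, inv_one, one_smul, one_smul, mul_one, mul_one, one_smul]
  · intro m hm T hT
    obtain ⟨x, hx, y, hy, rfl⟩ := hNK m hm
    rw [map_mul]
    show adj ρ x (adj ρ y T) ∈ S
    obtain ⟨a, μ, ha, hy'⟩ := hK y hy
    have h3 := hstab y μ a 0 ha hy' T hT
    obtain ⟨i, hi⟩ : ∃ i : ℕ, u ^ i = x := by
      rw [← mem_powers_iff_mem_zpowers] at hx
      exact hx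
    rw [← hi]
    clear hi
    induction i with
    | zero => rw [pow_zero, map_one]; exact h3
    | succ i ih =>
      rw [pow_succ', map_mul]
      exact hstab u 1 1 1 one_ne_zero (fun w => by rw [hΦu, one_smul]) _ ih
  · intro h3
    have h4 := trace_T0T2 hinj hrange h0 h2
    rw [h3, mul_zero, eq_comm, neg_eq_zero] at h4
    have h5 : (((n * (n + 1) * (n - 1) : ℕ)) : k) = 0 := by
      rw [← h4]; push_cast [Nat.cast_sub (show 1 ≤ n by omega)]; ring
    rw [CharP.cast_eq_zero_iff k p, hp.out.dvd_mul, hp.out.dvd_mul] at h5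
    rcases h5 with (h5 | h5) | h5
    · exact absurd (Nat.le_of_dvd (by omega) h5) (by omega)
    · exact absurd (Nat.le_of_dvd (by omega) h5) (by omega)
    · exact absurd (Nat.le_of_dvd (by omega) h5) (by omega)

end triple

end Cfsg.Agent.H79.MR
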