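import Mathlib

/-!
# Relative traces of endomorphisms for a Sylow subgroup of prime order
-/

set_option autoImplicit false
set_option linter.style.haveILetI false

open Module

namespace Cfsg.Agent.H79.MR

universe u v w

section low

variable {k : Type*} [Field k] {W : Type*} [AddCommGroup W] [Module k W]

/-- `g` lowers the kernel filtration of `D`. -/
def Low (D g : Module.End k W) : Prop :=
  ∀ (m : ℕ) (w : W), (D ^ (m + 1)) w = 0 → (D ^ m) (g w) = 0

theorem Low.zero (D : Module.End k W) : Low D 0 := by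
  intro m w _
  simp

theorem Low.add {D g h : Module.End k W} (hg : Low D g) (hh : Low D h) : Low D (g + h) := by
  intro m w hw
  rw [LinearMap.add_apply, map_add, hg m w hw, hh m w hw, add_zero]

theorem Low.neg {D g : Module.End k W} (hg : Low D g) : Low D (-g) := by
  intro m w hw
  rw [LinearMap.neg_apply, map_neg, hg m w hw, neg_zero]

theorem Low.sub {D g h : Module.End k W} (hg : Low D g) (hh : Low D h) : Low D (g - h) := by
  rw [sub_eq_add_neg]
  exact hg.add hh.neg

theorem Low.sum {D : Module.End k W} {ι : Type*} (s : Finset ι) (g : ι → Module.End k W)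
    (h : ∀ i ∈ s, Low D (g i)) : Low D (∑ i ∈ s, g i) := by
  classical
  induction s using Finset.induction_on with
  | empty => rw [Finset.sum_empty]; exact Low.zero D
  | insert a s ha ih =>
    rw [Finset.sum_insert ha]
    exact (h a (Finset.mem_insert_self _ _)).add
      (ih (fun i hi => h i (Finset.mem_insert_of_mem hi)))

theorem Low.mul_left {D g : Module.End k W} (hg : Low D g) {a : Module.End k W}
    (ha : Commute D a) : Low D (a * g) := by
  intro m w hw
  have h1 : (D ^ m) ((a * g) w) = (D ^ m * a) (g w) := rfl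
  rw [h1, (ha.pow_left m).eq]
  show a ((D ^ m) (g w)) = 0
  rw [hg m w hw, map_zero]

theorem Low.mul_right {D g : Module.End k W} (hg : Low D g) {a : Module.End k W}
    (ha : Commute D a) : Low D (g * a) := by
  intro m w hw
  show (D ^ m) (g (a w)) = 0
  apply hg
  have h1 : (D ^ (m + 1)) (a w) = (D ^ (m + 1) * a) w := rfl
  rw [h1, (ha.pow_left (m + 1)).eq]
  show a ((D ^ (m + 1)) w) = 0
  rw [hw, map_zero]

theorem Low.pow_eq_zero {D g : Module.End k W} (hg : Low D g) {M : ℕ} (hD : D ^ M = 0) :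
    g ^ M = 0 := by
  have key : ∀ j : ℕ, j ≤ M → ∀ w : W, (D ^ (M - j)) ((g ^ j) w) = 0 := by
    intro j
    induction j with
    | zero => intro _ w; rw [Nat.sub_zero, hD]; rfl
    | succ j ih =>
      intro hj w
      rw [pow_succ']
      show (D ^ (M - (j + 1))) (g ((g ^ j) w)) = 0
      apply hg
      have h1 : M - (j + 1) + 1 = M - j := by omega
      rw [h1]
      exact ih (by omega) w
  ext w
  have h1 := key M le_rfl w
  rw [Nat.sub_self, pow_zero] at h1
  exact h1

theorem Low.apply_eq_zero {D g : Module.End k W} (hg : Low D g) {w : W} (hw : D w = 0) :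
    g w = 0 := by
  have h1 := hg 0 w (by rw [zero_add, pow_one]; exact hw)
  simpa using h1

end low

section trace

variable {k : Type*} [Field k] {p : ℕ} [hp : Fact p.Prime] [CharP k p]

theorem geom_eq : (∑ i ∈ Finset.range p, (Polynomial.X : Polynomial k) ^ i) =
    (Polynomial.X - 1) ^ (p - 1) := by
  have h1 : (Polynomial.X - 1 : Polynomial k) ≠ 0 := Polynomial.X_sub_C_ne_zero 1
  apply mul_left_cancel₀ h1
  rw [mul_geom_sum, ← pow_succ', Nat.sub_add_cancel hp.out.one_le, sub_pow_char, one_pow]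

theorem geom_eq_aeval {A : Type*} [Ring A] [Algebra k A] (z : A) :
    (∑ i ∈ Finset.range p, z ^ i) = (z - 1) ^ (p - 1) := by
  have h1 := congrArg (Polynomial.aeval z) (geom_eq (k := k) (p := p))
  simpa using h1

omit hp [CharP k p] in
theorem negone_pow_apply {A : Type*} [Ring A] [Module k A] (n : ℕ) (a : A) :
    ((-1 : Module.End k A) ^ n) a = (-1 : A) ^ n * a := by
  induction n with
  | zero => rw [pow_zero, pow_zero, one_mul]; rfl
  | succ n ih =>
    rw [pow_succ', pow_succ', mul_assoc, ← ih]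
    show -(((-1 : Module.End k A) ^ n) a) = _
    rw [neg_one_mul]

variable {W : Type*} [AddCommGroup W] [Module k W]

theorem low_trace {c c' : Module.End k W} (hc : c * c' = 1) (hc' : c' * c = 1)
    (hD : (c - 1) ^ (p - 1) = 0) (h : Module.End k W) :
    Low (c - 1) (∑ i ∈ Finset.range p, c ^ i * h * c' ^ i) := by
  set D := c - 1 with hDdef
  let A := Module.End k W
  let L : Module.End k A := LinearMap.mulLeft k D
  let R : Module.End k A := LinearMap.mulRight k D
  let x : Module.End k A := LinearMap.mulLeft k c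
  let y : Module.End k A := LinearMap.mulRight k c'
  have hxy : Commute x y := LinearMap.commute_mulLeft_right c c'
  have hLR : Commute L R := LinearMap.commute_mulLeft_right D D
  have hDc : Commute D c := (Commute.refl c).sub_left (Commute.one_left c)
  have hcc : Commute c c' := by rw [Commute, SemiconjBy, hc, hc']
  have hDc' : Commute D c' := hcc.sub_left (Commute.one_left c')
  -- the sum is a geometric sum
  have h1 : (∑ i ∈ Finset.range p, c ^ i * h * c' ^ i) = (∑ i ∈ Finset.range p, (x * y) ^ i) h := by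
    rw [LinearMap.sum_apply]
    refine Finset.sum_congr rfl (fun i _ => ?_)
    rw [hxy.mul_pow]
    show _ = (x ^ i) ((y ^ i) h)
    have h2 : (x ^ i) = LinearMap.mulLeft k (c ^ i) := LinearMap.pow_mulLeft k A c i
    have h3 : (y ^ i) = LinearMap.mulRight k (c' ^ i) := LinearMap.pow_mulRight k A c' i
    rw [h2, h3]
    show _ = c ^ i * (h * c' ^ i)
    rw [mul_assoc]
  have h2 : x * y - 1 = y * (L - R) := by
    refine LinearMap.ext (fun a => ?_)
    show c * (a * c') - a = (D * a - a * D) * c'
    rw [hDdef]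
    have : (a * c) * c' = a := by rw [mul_assoc, hc, mul_one]
    rw [sub_mul, mul_sub, sub_mul, sub_mul, sub_mul, one_mul, mul_one, this, mul_assoc]
    abel
  have hyL : Commute y L := (LinearMap.commute_mulLeft_right D c').symm
  have hyR : Commute y R := by
    refine LinearMap.ext (fun a => ?_)
    show (a * D) * c' = (a * c') * D
    rw [mul_assoc, mul_assoc, hDc'.eq]
  have hyLR : Commute y (L - R) := hyL.sub_right hyR
  rw [h1, geom_eq_aeval (k := k) (x * y), h2, hyLR.mul_pow]
  show Low D ((y ^ (p - 1)) (((L - R) ^ (p - 1)) h))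
  have h3 : (y ^ (p - 1)) = LinearMap.mulRight k (c' ^ (p - 1)) := LinearMap.pow_mulRight k A c' (p - 1)
  rw [h3]
  show Low D ((((L - R) ^ (p - 1)) h) * c' ^ (p - 1))
  apply Low.mul_right _ (hDc'.pow_right (p - 1))
  rw [sub_eq_add_neg, (hLR.neg_right).add_pow, LinearMap.sum_apply]
  apply Low.sum
  intro m hm
  have h4 : (L ^ m * (-R) ^ (p - 1 - m) * (((p - 1).choose m : ℕ) : Module.End k A)) h =
      ((-1 : A) ^ (p - 1 - m) * (((p - 1).choose m : ℕ) : A)) *
        (D ^ m * (h * D ^ (p - 1 - m))) := by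
    have h5 : (L ^ m) = LinearMap.mulLeft k (D ^ m) := LinearMap.pow_mulLeft k A D m
    have h6 : (R ^ (p - 1 - m)) = LinearMap.mulRight k (D ^ (p - 1 - m)) :=
      LinearMap.pow_mulRight k A D (p - 1 - m)
    rw [neg_pow R, h6, h5]
    have h7 : ∀ (n : ℕ) (a : A), ((n : Module.End k A)) a = (n : A) * a := by
      intro n a
      rw [Module.End.natCast_apply, nsmul_eq_mul]
    have h8 : ∀ (a : A), ((-1 : Module.End k A) ^ (p - 1 - m)) a = (-1 : A) ^ (p - 1 - m) * a :=
      fun a => negone_pow_apply (p - 1 - m) a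
    show D ^ m * (((-1 : Module.End k A) ^ (p - 1 - m)) ((((((p - 1).choose m : ℕ) :
      Module.End k A)) h) * D ^ (p - 1 - m))) = _
    rw [h8, h7]
    rcases Nat.even_or_odd (p - 1 - m) with he | ho
    · rw [he.neg_one_pow, one_mul, one_mul, ← mul_assoc, ← mul_assoc, ← mul_assoc, ← mul_assoc,
        ((Nat.cast_commute ((p - 1).choose m) (D ^ m)).symm).eq]
    · rw [ho.neg_one_pow, neg_one_mul, neg_one_mul, neg_mul, mul_neg, ← mul_assoc, ← mul_assoc,
        ← mul_assoc, ← mul_assoc, ((Nat.cast_commute ((p - 1).choose m) (D ^ m)).symm).eq]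
  rw [h4]
  apply Low.mul_left
  · intro j w hw
    have hm' : m ≤ p - 1 := by
      have := Finset.mem_range.mp hm; omega
    by_cases hj : j + 1 ≤ p - 1 - m
    · have h9 : (D ^ (p - 1 - m)) w = 0 := by
        obtain ⟨r, hr⟩ := Nat.exists_eq_add_of_le hj
        rw [hr, add_comm, pow_add]
        show (D ^ r) ((D ^ (j + 1)) w) = 0
        rw [hw, map_zero]
      show (D ^ j) ((D ^ m) (h ((D ^ (p - 1 - m)) w))) = 0
      rw [h9, map_zero, map_zero, map_zero]
    · have h9 : D ^ (j + m) = 0 := by
        obtain ⟨r, hr⟩ : ∃ r, j + m = (p - 1) + r := ⟨j + m - (p - 1), by omega⟩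
        rw [hr, pow_add, hD, zero_mul]
      show (D ^ j) ((D ^ m) (h ((D ^ (p - 1 - m)) w))) = 0
      have h10 : (D ^ j) ((D ^ m) (h ((D ^ (p - 1 - m)) w))) =
          (D ^ (j + m)) (h ((D ^ (p - 1 - m)) w)) := by rw [pow_add]; rfl
      rw [h10, h9]; rfl
  · exact ((Commute.neg_one_right D).pow_right _).mul_right (Nat.commute_cast D _)

end trace

section free

/-- Sum over a stable set on which a group acts freely. -/
theorem exists_free_sum {P : Type u} [Group P] [Fintype P] {X : Type v} [MulAction P X]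
    {A : Type w} [AddCommGroup A] (F : X → A) (T : P → (A →+ A))
    (hF : ∀ (x : P) (a : X), F (x • a) = T x (F a)) (S : Finset X)
    (hS : ∀ (x : P) (a : X), a ∈ S → x • a ∈ S)
    (hfree : ∀ a ∈ S, ∀ x : P, x • a = a → x = 1) :
    ∃ h : A, ∑ a ∈ S, F a = ∑ x : P, T x h := by
  classical
  let Q := Quotient (MulAction.orbitRel P X)
  let mk : X → Q := Quotient.mk (MulAction.orbitRel P X)
  have hfib := Finset.sum_fiberwise_of_maps_to (s := S) (t := S.image mk) (g := mk)
    (fun a ha => Finset.mem_image_of_mem mk ha) F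
  refine ⟨∑ ω ∈ S.image mk, F ω.out, ?_⟩
  rw [← hfib]
  have h2 : ∀ x : P, T x (∑ ω ∈ S.image mk, F ω.out) = ∑ ω ∈ S.image mk, F (x • ω.out) := by
    intro x
    rw [map_sum]
    exact Finset.sum_congr rfl (fun ω _ => (hF x _).symm)
  simp only [h2]
  rw [Finset.sum_comm]
  refine Finset.sum_congr rfl (fun ω hω => ?_)
  obtain ⟨a0, ha0, rfl⟩ := Finset.mem_image.mp hω
  set b : X := (mk a0).out with hb
  have hmb : mk b = mk a0 := Quotient.out_eq (mk a0)
  have hbS : b ∈ S := by
    have h3 : b ∈ MulAction.orbit P a0 := by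
      have h4 := Quotient.exact hmb
      exact h4
    obtain ⟨x, hx⟩ := h3
    rw [← hx]
    exact hS x a0 ha0
  have hset : (S.filter (fun y => mk y = mk a0)) = Finset.univ.image (fun x : P => x • b) := by
    ext y
    simp only [Finset.mem_filter, Finset.mem_univ, true_and, Finset.mem_image]
    constructor
    · rintro ⟨-, h4⟩
      rw [← hmb] at h4
      have h5 : y ∈ MulAction.orbit P b := Quotient.exact h4
      obtain ⟨x, hx⟩ := h5
      exact ⟨x, hx⟩
    · rintro ⟨x, rfl⟩
      refine ⟨hS x b hbS, ?_⟩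
      rw [← hmb]
      exact Quotient.sound (s := MulAction.orbitRel P X) ⟨x, rfl⟩
  rw [hset, Finset.sum_image]
  intro x _ y _ hxy
  have h1 := hfree b hbS (y⁻¹ * x) (by
    rw [mul_smul, inv_smul_eq_iff]; exact hxy)
  rw [inv_mul_eq_one] at h1
  exact h1.symm

end free

section idem

open Subgroup

variable {G : Type u} [Group G] [Finite G] {p : ℕ} [hp : Fact p.Prime]

theorem mem_zpowers_of_mem_normalizer {u : G} (hu : orderOf u = p) (hsq : ¬ p ^ 2 ∣ Nat.card G)
    {y : G} (hy : y ^ p = 1) (hyN : y ∈ normalizer ((zpowers u : Subgroup G) : Set G)) :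
    y ∈ zpowers u := by
  have hcard : Nat.card (zpowers u) = p := by rw [Nat.card_zpowers, hu]
  have hp1 : p ∣ Nat.card G := by
    rw [← hcard]; exact Subgroup.card_subgroup_dvd_card _
  have hP : IsPGroup p (zpowers u) := IsPGroup.of_card (n := 1) (by rw [hcard, pow_one])
  have hY : IsPGroup p (zpowers y) := by
    rw [IsPGroup.iff_card]
    rcases (Nat.dvd_prime hp.out).mp (orderOf_dvd_of_pow_eq_one hy) with h | h
    · exact ⟨0, by rw [Nat.card_zpowers, h, pow_zero]⟩
    · exact ⟨1, by rw [Nat.card_zpowers, h, pow_one]⟩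
  have hsup : IsPGroup p (zpowers y ⊔ zpowers u : Subgroup G) :=
    hY.to_sup_of_normal_right' hP (by rwa [zpowers_le])
  obtain ⟨n, hn⟩ := IsPGroup.iff_card.mp hsup
  have hn1 : n ≤ 1 := by
    by_contra hcon
    push Not at hcon
    apply hsq
    refine (pow_dvd_pow p hcon).trans ?_
    rw [← hn]
    exact Subgroup.card_subgroup_dvd_card _
  have hle : zpowers u ≤ zpowers y ⊔ zpowers u := le_sup_right
  have heq : zpowers u = zpowers y ⊔ zpowers u := by
    apply Subgroup.eq_of_le_of_card_ge hle
    rw [hn, hcard]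
    calc p ^ n ≤ p ^ 1 := Nat.pow_le_pow_right hp.out.pos hn1
      _ = p := pow_one p
  rw [heq]
  exact (le_sup_left : zpowers y ≤ zpowers y ⊔ zpowers u) (mem_zpowers y)

theorem mem_normalizer_of_conj {u : G} (hu : orderOf u = p) (hsq : ¬ p ^ 2 ∣ Nat.card G)
    {g : G} (hg : g⁻¹ * u * g ∈ normalizer ((zpowers u : Subgroup G) : Set G)) :
    g ∈ normalizer ((zpowers u : Subgroup G) : Set G) := by
  have h1 : (g⁻¹ * u * g) ^ p = 1 := by
    have h2 : g⁻¹ * u * g = g⁻¹ * u * (g⁻¹)⁻¹ := by rw [inv_inv]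
    rw [h2, conj_pow, ← hu, pow_orderOf_eq_one, mul_one, mul_inv_cancel]
  have h3 := mem_zpowers_of_mem_normalizer hu hsq h1 hg
  have h4 : g⁻¹ ∈ normalizer ((zpowers u : Subgroup G) : Set G) := by
    rw [Subgroup.mem_normalizer_iff]
    have hmap : (zpowers u).map (MulAut.conj g⁻¹).toMonoidHom ≤ zpowers u := by
      rw [MonoidHom.map_zpowers, zpowers_le]
      show g⁻¹ * u * g⁻¹⁻¹ ∈ zpowers u
      rw [inv_inv]; exact h3
    have hmap' : (zpowers u).map (MulAut.conj g⁻¹).toMonoidHom = zpowers u := by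
      apply Subgroup.eq_of_le_of_card_ge hmap
      rw [Nat.card_congr (Subgroup.equivMapOfInjective _ _
        (MulAut.conj g⁻¹).injective).symm.toEquiv]
    intro x
    constructor
    · intro hx
      apply hmap
      exact ⟨x, hx, rfl⟩
    · intro hx
      rw [← hmap'] at hx
      obtain ⟨y, hy, hyx⟩ := hx
      have h5 : g⁻¹ * y * g⁻¹⁻¹ = g⁻¹ * x * g⁻¹⁻¹ := hyx
      have h6 : y = x := by simpa using h5
      rwa [← h6]
  simpa using inv_mem h4

variable {k : Type v} [Field k] [CharP k p] {W : Type w} [AddCommGroup W] [Module k W]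

/-- An idempotent endomorphism for the normalizer of a Sylow subgroup of order `p` lifts to
an endomorphism for the group. -/
theorem exists_idem (σ : G →* Module.End k W) (u : G) (hu : orderOf u = p)
    (hsq : ¬ p ^ 2 ∣ Nat.card G) (f : Module.End k W) (hf : f * f = f)
    (hfN : ∀ n ∈ normalizer ((zpowers u : Subgroup G) : Set G), σ n * f = f * σ n)
    (hD : (σ u - 1) ^ (p - 1) = 0) :
    ∃ e : Module.End k W, e * e = e ∧ (∀ g : G, σ g * e = e * σ g) ∧ Low (σ u - 1) (e - f) := by
  classical
  set N := normalizer ((zpowers u : Subgroup G) : Set G) with hN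
  haveI := Fintype.ofFinite (G ⧸ N)
  haveI := Fintype.ofFinite (zpowers u)
  have hσ1 : ∀ g : G, σ g * σ g⁻¹ = 1 := fun g => by rw [← map_mul, mul_inv_cancel, map_one]
  have hσ2 : ∀ g : G, σ g⁻¹ * σ g = 1 := fun g => by rw [← map_mul, inv_mul_cancel, map_one]
  let φ : G ⧸ N → Module.End k W := fun q => σ q.out * f * σ (q.out)⁻¹
  have hφmk : ∀ g : G, φ (QuotientGroup.mk g) = σ g * f * σ g⁻¹ := by
    intro g
    obtain ⟨n, hn⟩ := QuotientGroup.mk_out_eq_mul N g
    show σ (QuotientGroup.mk g : G ⧸ N).out * f * σ ((QuotientGroup.mk g : G ⧸ N).out)⁻¹ = _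
    rw [hn, mul_inv_rev, map_mul, map_mul]
    calc σ g * σ (n : G) * f * (σ (n : G)⁻¹ * σ g⁻¹)
        = σ g * (σ (n : G) * f) * (σ (n : G)⁻¹ * σ g⁻¹) := by simp only [mul_assoc]
      _ = σ g * f * (σ (n : G) * σ (n : G)⁻¹) * σ g⁻¹ := by
          rw [hfN _ n.2]; simp only [mul_assoc]
      _ = σ g * f * σ g⁻¹ := by rw [hσ1, mul_one]
  have hφact : ∀ (x : G) (q : G ⧸ N), φ (x • q) = σ x * φ q * σ x⁻¹ := by
    intro x q
    obtain ⟨g, rfl⟩ := QuotientGroup.mk_surjective q
    have h1 : x • (QuotientGroup.mk g : G ⧸ N) = QuotientGroup.mk (x * g) := rfl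
    rw [h1, hφmk, hφmk, map_mul, mul_inv_rev, map_mul]
    simp only [mul_assoc]
  set F : Module.End k W := ∑ q : G ⧸ N, φ q with hF
  have hFG : ∀ g : G, σ g * F = F * σ g := by
    intro g
    have h1 : σ g * F * σ g⁻¹ = F := by
      rw [hF, Finset.mul_sum, Finset.sum_mul]
      simp only [← hφact]
      exact Fintype.sum_equiv (MulAction.toPerm g) _ _ (fun q => rfl)
    calc σ g * F = σ g * F * (σ g⁻¹ * σ g) := by rw [hσ2, mul_one]
      _ = (σ g * F * σ g⁻¹) * σ g := by simp only [mul_assoc]
      _ = F * σ g := by rw [h1]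
  -- the fixed coset
  let q0 : G ⧸ N := QuotientGroup.mk 1
  have hφ0 : φ q0 = f := by
    rw [hφmk, map_one, inv_one, map_one, one_mul, mul_one]
  have hPN : zpowers u ≤ N := Subgroup.le_normalizer
  have hq0 : ∀ x : zpowers u, x • q0 = q0 := by
    intro x
    show (QuotientGroup.mk ((x : G) * 1) : G ⧸ N) = QuotientGroup.mk 1
    rw [QuotientGroup.eq]
    simpa using inv_mem (hPN x.2)
  have hSst : ∀ (x : zpowers u) (a : G ⧸ N), a ∈ Finset.univ.erase q0 →
      x • a ∈ Finset.univ.erase q0 := by
    intro x a ha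
    rw [Finset.mem_erase] at ha ⊢
    refine ⟨fun h => ha.1 ?_, Finset.mem_univ _⟩
    rw [← hq0 x] at h
    exact MulAction.injective x h
  have hfree : ∀ a ∈ (Finset.univ.erase q0 : Finset (G ⧸ N)), ∀ x : zpowers u,
      x • a = a → x = 1 := by
    intro a ha x hx
    by_contra hx1
    rw [Finset.mem_erase] at ha
    apply ha.1
    obtain ⟨g, rfl⟩ := QuotientGroup.mk_surjective a
    have h1 : (QuotientGroup.mk ((x : G) * g) : G ⧸ N) = QuotientGroup.mk g := hx
    have h2 : g⁻¹ * (x : G)⁻¹ * g ∈ N := by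
      rw [QuotientGroup.eq] at h1
      simpa [mul_assoc] using h1
    -- `u` is a power of `x⁻¹`
    have h3 : u ∈ zpowers ((x : G)⁻¹) := by
      have hcard : Nat.card (zpowers u) = p := by rw [Nat.card_zpowers, hu]
      have h4 : zpowers ((x : G)⁻¹) ≤ zpowers u := by
        rw [zpowers_le]; exact inv_mem x.2
      have h5 : zpowers ((x : G)⁻¹) = zpowers u := by
        apply Subgroup.eq_of_le_of_card_ge h4
        have h6 : Nat.card (zpowers ((x : G)⁻¹)) ∣ p := by
          rw [← hcard]; exact Subgroup.card_dvd_of_le h4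
        rcases (Nat.dvd_prime hp.out).mp h6 with h7 | h7
        · exfalso
          rw [Nat.card_zpowers, orderOf_eq_one_iff, inv_eq_one] at h7
          exact hx1 (Subtype.ext h7)
        · rw [h7, hcard]
      rw [h5]; exact mem_zpowers u
    obtain ⟨j, hj⟩ := h3
    have h4 : g⁻¹ * u * g ∈ N := by
      rw [← hj]
      have h5 : g⁻¹ * (fun i : ℤ => ((x : G)⁻¹) ^ i) j * g = (g⁻¹ * (x : G)⁻¹ * g) ^ j := by
        have h6 : g⁻¹ * (x : G)⁻¹ * g = g⁻¹ * (x : G)⁻¹ * (g⁻¹)⁻¹ := by rw [inv_inv]
        rw [h6, conj_zpow, inv_inv]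
      rw [h5]
      exact zpow_mem h2 j
    have h5 := mem_normalizer_of_conj hu hsq h4
    show (QuotientGroup.mk g : G ⧸ N) = QuotientGroup.mk 1
    rw [QuotientGroup.eq]
    simpa using h5
  let T : zpowers u → (Module.End k W →+ Module.End k W) := fun x =>
    { toFun := fun h => σ (x : G) * h * σ (x : G)⁻¹
      map_zero' := by simp
      map_add' := fun a b => by rw [mul_add, add_mul] }
  obtain ⟨h, hh⟩ := exists_free_sum φ T (fun x a => hφact (x : G) a) (Finset.univ.erase q0)
    hSst hfree
  have hFf : F = f + ∑ i ∈ Finset.range p, (σ u) ^ i * h * (σ u⁻¹) ^ i := by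
    rw [hF, ← Finset.add_sum_erase _ _ (Finset.mem_univ q0), hφ0, hh]
    congr 1
    have h1 : ∑ x : zpowers u, T x h = ∑ i : Fin (orderOf u), σ (u ^ (i : ℕ)) * h *
        σ (u ^ (i : ℕ))⁻¹ := by
      symm
      apply Fintype.sum_equiv (finEquivZPowers (isOfFinOrder_of_finite u))
      intro i
      show _ = σ ((finEquivZPowers (isOfFinOrder_of_finite u) i : zpowers u) : G) * h *
        σ ((finEquivZPowers (isOfFinOrder_of_finite u) i : zpowers u) : G)⁻¹
      rw [finEquivZPowers_apply]
    rw [h1, Fin.sum_univ_eq_sum_range (fun i => σ (u ^ i) * h * σ (u ^ i)⁻¹) (orderOf u), hu]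
    refine Finset.sum_congr rfl (fun i _ => ?_)
    rw [map_pow, ← inv_pow, map_pow]
  set D := σ u - 1 with hDdef
  have hlow : Low D (F - f) := by
    rw [hFf, add_sub_cancel_left]
    exact low_trace (k := k) (p := p) (hσ1 u) (hσ2 u) hD h
  have huN : u ∈ N := hPN (mem_zpowers u)
  have hDf : Commute D f := by
    show (σ u - 1) * f = f * (σ u - 1)
    rw [sub_mul, mul_sub, one_mul, mul_one, hfN u huN]
  have hDF : Commute D F := by
    show (σ u - 1) * F = F * (σ u - 1)
    rw [sub_mul, mul_sub, one_mul, mul_one, hFG u]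
  -- powers of `F`
  have hpow : ∀ m : ℕ, Low D (F ^ (m + 1) - f) := by
    intro m
    induction m with
    | zero => rw [zero_add, pow_one]; exact hlow
    | succ m ih =>
      have h1 : F ^ (m + 1 + 1) - f = F * (F ^ (m + 1) - f) + (F - f) * f := by
        rw [pow_succ', mul_sub, sub_mul, hf]; abel
      rw [h1]
      exact (ih.mul_left hDF).add (hlow.mul_right hDf)
  refine ⟨F ^ p, ?_, ?_, ?_⟩
  · have h1 : Low D (F * F - F) := by
      have h2 : F * F - F = F * (F - f) + (F - f) * f - (F - f) := by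
        rw [mul_sub, sub_mul, hf]; abel
      rw [h2]
      exact ((hlow.mul_left hDF).add (hlow.mul_right hDf)).sub hlow
    have h3 : (F * F - F) ^ p = 0 := by
      have h4 := h1.pow_eq_zero hD
      obtain ⟨r, hr⟩ := Nat.exists_eq_add_of_le (Nat.sub_le p 1)
      rw [hr, pow_add, h4, zero_mul]
    have h5 : (F * F - F) ^ p = F ^ p * F ^ p - F ^ p := by
      have h6 : ((Polynomial.X * Polynomial.X - Polynomial.X : Polynomial k)) ^ p =
          Polynomial.X ^ p * Polynomial.X ^ p - Polynomial.X ^ p := by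
        rw [sub_pow_char, mul_pow]
      have h7 := congrArg (Polynomial.aeval F) h6
      simpa using h7
    rw [h3] at h5
    exact (sub_eq_zero.mp h5.symm)
  · intro g
    exact (show Commute (σ g) F from hFG g).pow_right p
  · have h1 := hpow (p - 1)
    rwa [Nat.sub_add_cancel hp.out.one_le] at h1

/-- If the Sylow subgroup acts trivially on the image of the idempotent, the image is
invariant under the group. -/
theorem range_invariant (σ : G →* Module.End k W) (u : G) (hu : orderOf u = p)
    (hsq : ¬ p ^ 2 ∣ Nat.card G) (f : Module.End k W) (hf : f * f = f)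
    (hfN : ∀ n ∈ normalizer ((zpowers u : Subgroup G) : Set G), σ n * f = f * σ n)
    (hD : (σ u - 1) ^ (p - 1) = 0) (hfu : σ u * f = f) :
    ∀ (g : G) (w : W), f w = w → f (σ g w) = σ g w := by
  obtain ⟨e, he, heG, hlow⟩ := exists_idem σ u hu hsq f hf hfN hD
  have hi : (e - f) ^ (p - 1) = 0 := hlow.pow_eq_zero hD
  -- `e` is the identity on the image of `f`
  have h1 : ∀ w : W, f w = w → e w = w := by
    intro w hw
    have h2 : (σ u - 1) w = 0 := by
      show σ u w - w = 0
      rw [← hw]
      show (σ u * f) w - f w = 0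
      rw [hfu, sub_self]
    have h3 := hlow.apply_eq_zero h2
    have h4 : e w - f w = 0 := h3
    rw [sub_eq_zero.mp h4, hw]
  -- and conversely
  have h5 : ∀ w : W, e w = w → f w = w := by
    intro w hw
    set z := w - f w with hz
    have hffw : f (f w) = f w := congrArg (fun a : Module.End k W => a w) hf
    have h6 : (e - f) w = z := by
      show e w - f w = z
      rw [hw]
    have h7 : (e - f) z = z := by
      show e z - f z = z
      rw [hz, map_sub, map_sub, hw, h1 (f w) hffw, hffw, sub_self, sub_zero]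
    have h8 : ∀ m : ℕ, ((e - f) ^ m) z = z := by
      intro m
      induction m with
      | zero => rfl
      | succ m ih =>
        rw [pow_succ']
        show (e - f) (((e - f) ^ m) z) = z
        rw [ih, h7]
    have h9 := h8 (p - 1)
    rw [hi] at h9
    have h10 : z = 0 := h9.symm
    rw [hz, sub_eq_zero] at h10
    exact h10.symm
  intro g w hw
  apply h5
  have h6 : e (σ g w) = (e * σ g) w := rfl
  rw [h6, ← heG g]
  show σ g (e w) = σ g w
  rw [h1 w hw]

end idem

end Cfsg.Agent.H79.MR
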