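import Cfsg.Agent.H76.PSolvable
import Cfsg.Agent.Solv.Core

/-!
# `p`-solvable groups with trivial `p`-core
-/

set_option autoImplicit false

open Cfsg

namespace Cfsg.Agent.H79

/-- A central subgroup of `p`-power index in a group without normal `p`-subgroups is everything. -/
theorem eq_top_of_central_index_pow {D : Type*} [Group D] [Finite D] {p : ℕ} [hp : Fact p.Prime]
    (E : Subgroup D) (hE : E ≤ Subgroup.center D) (l : ℕ) (hi : E.index = p ^ l)
    (hcore : pCore p D = ⊥) : E = ⊤ := by
  obtain ⟨Q⟩ : Nonempty (Sylow p D) := inferInstance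
  have h1 : E ≤ Subgroup.normalizer ((Q : Subgroup D) : Set D) := by
    intro x hx
    rw [Subgroup.mem_normalizer_iff]
    intro y
    have := Subgroup.mem_center_iff.mp (hE hx) y
    rw [← this, mul_inv_cancel_right]
  have h2 : (Subgroup.normalizer ((Q : Subgroup D) : Set D)).index ∣ p ^ l :=
    hi ▸ Subgroup.index_dvd_of_le h1
  have h3 : (Subgroup.normalizer ((Q : Subgroup D) : Set D)).index ∣ (Q : Subgroup D).index :=
    Subgroup.index_dvd_of_le Subgroup.le_normalizer
  have h4 : (Subgroup.normalizer ((Q : Subgroup D) : Set D)).index = 1 := by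
    have hc : Nat.Coprime (p ^ l) (Q : Subgroup D).index :=
      ((Nat.Prime.coprime_iff_not_dvd hp.out).mpr Q.not_dvd_index).pow_left l
    exact Nat.dvd_one.mp (hc ▸ Nat.dvd_gcd h2 h3)
  have h5 : (Q : Subgroup D).Normal := by
    rw [Subgroup.index_eq_one] at h4
    exact Subgroup.normalizer_eq_top_iff.mp h4
  have h6 : (Q : Subgroup D) = ⊥ := by
    rw [eq_bot_iff, ← hcore]
    exact Solv.le_pCore h5 Q.isPGroup'
  have h7 : ¬ p ∣ Nat.card D := by
    have h8 := Q.not_dvd_index
    rwa [h6, Subgroup.index_bot] at h8
  have h8 : p ^ l ∣ Nat.card D := hi ▸ Subgroup.index_dvd_card E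
  rw [← Subgroup.index_eq_one, hi]
  rcases Nat.eq_zero_or_pos l with h9 | h9
  · rw [h9, pow_zero]
  · exact absurd ((dvd_pow_self p h9.ne').trans h8) h7

/-- In a finite `p`-solvable group with `O_p(G) = 1` the subgroup `O_{p'}(G)` contains its
centralizer. -/
theorem centralizer_pPrimeCore_le {G : Type*} [Group G] [Finite G] {p : ℕ} [hp : Fact p.Prime]
    (h : IsPSolvable p G) (hcore : pCore p G = ⊥) :
    Subgroup.centralizer ((pPrimeCore p G : Subgroup G) : Set G) ≤ pPrimeCore p G := by
  obtain ⟨n, A, h0, hlast, hmono, hnorm, hfac⟩ := h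
  set R := pPrimeCore p G with hR
  set C := Subgroup.centralizer ((R : Subgroup G) : Set G) with hC
  have hRn : R.Normal := (Solv.coprime_card_sSup p _ (fun _ h => h)).1
  have hCn : C.Normal := inferInstance
  have hRp : (Nat.card R).Coprime p := Solv.pPrimeCore_card_coprime p
  have key : ∀ i : Fin (n + 1), A i ⊓ C ≤ R := by
    intro i
    induction i using Fin.induction with
    | zero => rw [h0, bot_inf_eq]; exact bot_le
    | succ i ih =>
      have hn1 := hnorm i.castSucc
      have hn2 := hnorm i.succ
      have hle : A i.castSucc ≤ A i.succ := hmono (Fin.castSucc_lt_succ).le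
      set D := A i.succ ⊓ C with hD
      have hDn : D.Normal := inferInstance
      set E := A i.castSucc ⊓ C with hE
      have hEn : E.Normal := inferInstance
      have hED : E ≤ D := inf_le_inf_right _ hle
      have hdvd : E.relIndex D ∣ (A i.castSucc).relIndex (A i.succ) := by
        have h1 : E.relIndex D = (A i.castSucc).relIndex D := by
          have : E = A i.castSucc ⊓ D := by
            rw [hE, hD, ← inf_assoc, inf_eq_left.mpr hle]
          rw [this, Subgroup.inf_relIndex_right]
        rw [h1]
        exact H76.relIndex_dvd_relIndex_of_le inf_le_left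
      have hEp : (Nat.card E).Coprime p := Nat.Coprime.coprime_dvd_left (Subgroup.card_dvd_of_le ih) hRp
      rcases hfac i with ⟨m, hm⟩ | hc
      · -- `D / E` is a `p`-group
        rw [hm] at hdvd
        obtain ⟨l, -, hl⟩ := (Nat.dvd_prime_pow hp.out).mp hdvd
        have h3 : E.subgroupOf D = ⊤ := by
          refine eq_top_of_central_index_pow (p := p) (E.subgroupOf D) ?_ l hl ?_
          · intro x hx
            rw [Subgroup.mem_center_iff]
            intro y
            apply Subtype.ext
            have hxR : (x : G) ∈ R := ih hx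
            have hyC : (y : G) ∈ C := y.2.2
            exact (Subgroup.mem_centralizer_iff.mp hyC (x : G) hxR).symm
          · have := Solv.map_subtype_pCore_le p D
            rw [hcore, le_bot_iff, Subgroup.map_eq_bot_iff_of_injective _ D.subtype_injective] at this
            exact this
        rw [Subgroup.subgroupOf_eq_top] at h3
        exact h3.trans ih
      · -- `D` is a `p'`-group
        apply Solv.le_pPrimeCore hDn
        have h2 : Nat.card D = Nat.card E * E.relIndex D := by
          have := Subgroup.relIndex_mul_relIndex ⊥ E D bot_le hED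
          rw [Subgroup.relIndex_bot_left, Subgroup.relIndex_bot_left] at this
          exact this.symm
        rw [h2]
        exact Nat.Coprime.mul_left hEp (Nat.Coprime.coprime_dvd_left hdvd hc)
  have := key (Fin.last n)
  rwa [hlast, top_inf_eq] at this

end Cfsg.Agent.H79
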