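import Cfsg.Agent.H79.InvBlock
import Cfsg.Agent.Solv.Core

/-!
# The subgroup `O_{p'p}(G)` of a `p`-solvable group and its Sylow subgroups
-/

set_option autoImplicit false
set_option linter.unusedSectionVars false
set_option linter.style.haveILetI false
set_option linter.unusedVariables false

namespace Cfsg.Agent.H79

open Cfsg Cfsg.Agent.CharBase Cfsg.Agent.Blk Cfsg.Agent.Char

section grp

variable {G : Type*} [Group G] [Finite G] {p : ℕ} [Fact p.Prime]

/-- `K` over `N` with `K / N` a self-centralizing normal `p`-subgroup -/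
theorem comap_props {N : Subgroup G} [hN : N.Normal] (hNp : ¬ p ∣ Nat.card N)
    {R : Subgroup (G ⧸ N)} (hRn : R.Normal) (hR : IsPGroup p R)
    (hRC : Subgroup.centralizer (R : Set (G ⧸ N)) ≤ R) :
    (R.comap (QuotientGroup.mk' N)).Normal ∧ N ≤ R.comap (QuotientGroup.mk' N) ∧
      (∃ k : ℕ, N.relIndex (R.comap (QuotientGroup.mk' N)) = p ^ k) ∧
      ∀ Q : Subgroup G, Q ≤ R.comap (QuotientGroup.mk' N) → IsPGroup p Q →
        (∀ S : Subgroup G, S ≤ R.comap (QuotientGroup.mk' N) → IsPGroup p S →
          Nat.card S ≤ Nat.card Q) →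
        N ⊔ Q = R.comap (QuotientGroup.mk' N) ∧
          Subgroup.centralizer (Q : Set G) ≤ R.comap (QuotientGroup.mk' N) := by
  have hp : p.Prime := Fact.out
  set K := R.comap (QuotientGroup.mk' N) with hK
  have hKn : K.Normal := hRn.comap _
  have hNK : N ≤ K := by
    intro n hn
    rw [hK, Subgroup.mem_comap, QuotientGroup.mk'_apply, (QuotientGroup.eq_one_iff n).2 hn]
    exact R.one_mem
  have hmap : K.map (QuotientGroup.mk' N) = R :=
    Subgroup.map_comap_eq_self_of_surjective (QuotientGroup.mk'_surjective N) R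
  -- cardinalities
  have hcard : Nat.card K = Nat.card N * Nat.card R := by
    have h1 := Subgroup.card_mul_index (N.subgroupOf K)
    have h2 : Nat.card (N.subgroupOf K) = Nat.card N :=
      Nat.card_congr (Subgroup.subgroupOfEquivOfLe hNK).toEquiv
    have h3 : (N.subgroupOf K).index = Nat.card R := by
      have e := QuotientGroup.quotientMulEquivOfEq (M := N.subgroupOf K)
        (N := ((QuotientGroup.mk' N).comp K.subtype).ker) (by
          ext x
          rw [Subgroup.mem_subgroupOf, MonoidHom.mem_ker, MonoidHom.comp_apply,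
            QuotientGroup.mk'_apply, QuotientGroup.eq_one_iff]
          rfl)
      have e2 := QuotientGroup.quotientKerEquivRange ((QuotientGroup.mk' N).comp K.subtype)
      have h4 : ((QuotientGroup.mk' N).comp K.subtype).range = R := by
        rw [MonoidHom.range_comp, Subgroup.range_subtype, hmap]
      rw [Subgroup.index_eq_card, Nat.card_congr e.toEquiv, Nat.card_congr e2.toEquiv, h4]
    rw [← h1, h2, h3]
  obtain ⟨k, hk⟩ := IsPGroup.iff_card.1 hR
  refine ⟨hKn, hNK, ⟨k, ?_⟩, ?_⟩
  · have h1 := Subgroup.card_mul_index (N.subgroupOf K)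
    have h2 : Nat.card (N.subgroupOf K) = Nat.card N :=
      Nat.card_congr (Subgroup.subgroupOfEquivOfLe hNK).toEquiv
    rw [h2, hcard, hk] at h1
    exact Nat.eq_of_mul_eq_mul_left Nat.card_pos h1
  · intro Q hQK hQ hmax
    -- order of `Q`
    have hQc : Nat.card Q = p ^ k := by
      obtain ⟨S⟩ : Nonempty (Sylow p K) := inferInstance
      have h1 : Nat.card ((S : Subgroup K).map K.subtype) = p ^ k := by
        rw [Nat.card_congr (Subgroup.equivMapOfInjective _ _ K.subtype_injective).toEquiv.symm]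
        change Nat.card S = _
        rw [Sylow.card_eq_multiplicity, hcard, hk, Nat.factorization_mul Nat.card_pos.ne'
          (pow_ne_zero _ hp.ne_zero), Finsupp.add_apply, Nat.factorization_eq_zero_of_not_dvd hNp,
          Nat.Prime.factorization_pow hp, Finsupp.single_eq_same, zero_add]
      have h2 := hmax ((S : Subgroup K).map K.subtype) (Subgroup.map_subtype_le _)
        (S.2.map _)
      rw [h1] at h2
      obtain ⟨j, hj⟩ := IsPGroup.iff_card.1 hQ
      have h3 : Nat.card Q ∣ Nat.card K := Subgroup.card_dvd_of_le hQK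
      rw [hcard, hk, hj] at h3
      have h4 : p ^ j ∣ p ^ k := by
        refine Nat.Coprime.dvd_of_dvd_mul_left ?_ h3
        exact Nat.Coprime.pow_left _ ((Nat.Prime.coprime_iff_not_dvd hp).2 hNp)
      have h5 := Nat.le_of_dvd (pow_pos hp.pos _) h4
      rw [hj] at h2 ⊢
      omega
    have hsup : N ⊔ Q = K := by
      refine Subgroup.eq_of_le_of_card_ge (sup_le hNK hQK) ?_
      rw [hcard, hk, ← hQc]
      have hcop : Nat.Coprime (Nat.card N) (Nat.card Q) := by
        rw [hQc]
        exact Nat.Coprime.pow_right _ ((Nat.Prime.coprime_iff_not_dvd hp).2 hNp).symm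
      have h6 : Nat.card N * Nat.card Q ∣ Nat.card (N ⊔ Q : Subgroup G) :=
        hcop.mul_dvd_of_dvd_of_dvd (Subgroup.card_dvd_of_le le_sup_left)
          (Subgroup.card_dvd_of_le le_sup_right)
      exact Nat.le_of_dvd Nat.card_pos h6
    refine ⟨hsup, ?_⟩
    intro c hc
    rw [hK, Subgroup.mem_comap]
    apply hRC
    rw [Subgroup.mem_centralizer_iff]
    intro r hr
    have hr' : r ∈ K.map (QuotientGroup.mk' N) := by rw [hmap]; exact hr
    obtain ⟨x, hx, rfl⟩ := hr'
    have hx' : x ∈ N ⊔ Q := by rw [hsup]; exact hx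
    rw [← SetLike.mem_coe, Subgroup.normal_mul] at hx'
    obtain ⟨n, hn, q, hq, rfl⟩ := Set.mem_mul.1 hx'
    have h1 : (QuotientGroup.mk' N) n = 1 := by
      rw [QuotientGroup.mk'_apply]; exact (QuotientGroup.eq_one_iff n).2 hn
    rw [map_mul, h1, one_mul, ← map_mul, ← map_mul, Subgroup.mem_centralizer_iff.1 hc q hq]

theorem exists_K_of_psolvable (h : IsPSolvable p G) :
    ∃ K : Subgroup G, K.Normal ∧ pPrimeCore p G ≤ K ∧
      (∃ k : ℕ, (pPrimeCore p G).relIndex K = p ^ k) ∧
      ∀ Q : Subgroup G, Q ≤ K → IsPGroup p Q →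
        (∀ S : Subgroup G, S ≤ K → IsPGroup p S → Nat.card S ≤ Nat.card Q) →
        pPrimeCore p G ⊔ Q = K ∧ Subgroup.centralizer (Q : Set G) ≤ K := by
  have hNp : ¬ p ∣ Nat.card (pPrimeCore p G) :=
    (Nat.Prime.coprime_iff_not_dvd Fact.out).1 (Solv.pPrimeCore_card_coprime p).symm
  exact ⟨_, comap_props hNp (Solv.pCore_normal p) (Solv.pCore_isPGroup p)
    (H76.centralizer_pCore_le (H76.isPSolvable_quotient _ h) (Solv.pPrimeCore_quotient_pPrimeCore p))⟩

theorem not_dvd_pPrimeCore : ¬ p ∣ Nat.card (pPrimeCore p G) :=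
  (Nat.Prime.coprime_iff_not_dvd Fact.out).1 (Solv.pPrimeCore_card_coprime p).symm

end grp

end Cfsg.Agent.H79
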