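import Mathlib
import Cfsg.Prelude.Def_Local
import Cfsg.Agent.FStar.Layer
import Cfsg.Agent.FStar.AxB
import Cfsg.Agent.FStar.PComp
import Cfsg.Agent.H49.Core
import Cfsg.Agent.H62.Subnormal

/-!
# Subnormal subgroups of `F*(X)` containing their centralizers
-/

set_option autoImplicit false
set_option linter.style.haveILetI false
set_option linter.unusedSectionVars false

namespace Cfsg.Agent.H79.SubnCent

open Subgroup Cfsg.Agent.FStar

universe u

variable {X : Type u} [Group X] [Finite X] {p : ℕ} [hp : Fact p.Prime]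

/-- splitting an element into its `p`-part and `p'`-part -/
theorem split_pp (g : X) : ∃ x w : X, x ∈ zpowers g ∧ w ∈ zpowers g ∧ g = x * w ∧
    (∃ k : ℕ, x ^ p ^ k = 1) ∧ (orderOf w).Coprime p := by
  obtain ⟨e, m, hm, hem⟩ := Nat.exists_eq_pow_mul_and_not_dvd (orderOf_pos g).ne' p hp.out.ne_one
  have hcop : (p ^ e).Coprime m := Nat.Coprime.pow_left e ((Nat.Prime.coprime_iff_not_dvd hp.out).2 hm)
  obtain ⟨a, ha⟩ := Int.isCoprime_iff_gcd_eq_one.2 (show Int.gcd ((p ^ e : ℕ) : ℤ) (m : ℤ) = 1 by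
    simpa [Int.gcd] using hcop)
  obtain ⟨b, hab⟩ := ha
  have hord : (g ^ (orderOf g : ℤ)) = 1 := by rw [zpow_natCast, pow_orderOf_eq_one]
  refine ⟨g ^ (b * (m : ℤ)), g ^ (a * ((p ^ e : ℕ) : ℤ)), zpow_mem_zpowers _ _, zpow_mem_zpowers _ _, ?_, ⟨e, ?_⟩, ?_⟩
  · rw [← zpow_add, add_comm, hab, zpow_one]
  · rw [← zpow_natCast, ← zpow_mul]
    have : b * (m : ℤ) * ((p ^ e : ℕ) : ℤ) = (orderOf g : ℤ) * b := by rw [hem]; push_cast; ring
    rw [this, zpow_mul, hord, one_zpow]
  · apply Nat.Coprime.symm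
    rw [Nat.Prime.coprime_iff_not_dvd hp.out]
    intro hd
    apply hm
    refine hd.trans (orderOf_dvd_of_pow_eq_one ?_)
    rw [← zpow_natCast, ← zpow_mul]
    have : a * ((p ^ e : ℕ) : ℤ) * (m : ℤ) = (orderOf g : ℤ) * a := by rw [hem]; push_cast; ring
    rw [this, zpow_mul, hord, one_zpow]

/-- a `p'`-element is a power of its `p^k`-th power -/
theorem mem_of_pow_mem {Z : Subgroup X} {y : X} (hy : (orderOf y).Coprime p) {k : ℕ} (h : y ^ p ^ k ∈ Z) : y ∈ Z := by
  have h1 : (orderOf y).Coprime (p ^ k) := hy.pow_right k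
  have h2 : y ∈ zpowers (y ^ p ^ k) := by
    have h3 : zpowers (y ^ p ^ k) = zpowers y := by
      apply Subgroup.eq_of_le_of_card_ge
      · rw [zpowers_le]; exact pow_mem (mem_zpowers y) _
      · rw [Nat.card_zpowers, Nat.card_zpowers, orderOf_pow, h1.gcd_eq_one, Nat.div_one]
    rw [h3]; exact mem_zpowers y
  exact (zpowers_le.2 h) h2

/-- a `p`-group acting on a nilpotent `p'`-group and centralizing a self-centralizing subgroup is trivial -/
theorem cent_of_nilp {K W : Subgroup X} (hK : Group.IsNilpotent K) (hKp : (Nat.card K).Coprime p)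
    (hW : IsPGroup p W) (hWK : W ≤ normalizer (K : Set X)) :
    ∀ (n : ℕ) (C : Subgroup X), Nat.card K - Nat.card C ≤ n → C ≤ K → K ⊓ centralizer (C : Set X) ≤ C →
      W ≤ centralizer (C : Set X) → W ≤ centralizer (K : Set X) := by
  intro n
  induction n with
  | zero =>
    intro C hn hC _ hWC
    have h1 : C = K := Subgroup.eq_of_le_of_card_ge hC (by omega)
    rwa [h1] at hWC
  | succ n ih =>
    intro C hn hC hCC hWC
    by_cases hCK : C = K
    · rwa [hCK] at hWC
    · set N : Subgroup X := K ⊓ normalizer (C : Set X) with hN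
      have hCN : C ≤ N := le_inf hC le_normalizer
      have hlt : C < N := by
        refine lt_of_le_of_ne hCN ?_
        intro heq
        have h1 : C.subgroupOf K < ⊤ := by
          rw [lt_top_iff_ne_top]
          intro h
          rw [Subgroup.subgroupOf_eq_top] at h
          exact hCK (le_antisymm hC h)
        have h2 := Group.normalizerCondition_of_isNilpotent (G := K) _ h1
        obtain ⟨x, hx, hx'⟩ := SetLike.exists_of_lt h2
        apply hx'
        rw [mem_subgroupOf]
        rw [heq]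
        refine ⟨x.2, ?_⟩
        show (x : X) ∈ normalizer (C : Set X)
        rw [mem_normalizer_iff]
        intro g
        by_cases hg : g ∈ K
        · have := (mem_normalizer_iff.1 hx) ⟨g, hg⟩
          rw [mem_subgroupOf, mem_subgroupOf] at this
          exact this
        · constructor
          · intro h; exact absurd (hC h) hg
          · intro h
            exfalso
            apply hg
            have h3 := hC h
            have h4 := K.mul_mem (K.mul_mem (K.inv_mem x.2) h3) x.2
            have h5 : (x : X)⁻¹ * ((x : X) * g * (x : X)⁻¹) * x = g := by group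
            rwa [h5] at h4
      have hWN : W ≤ centralizer (N : Set X) := by
        intro w hw
        rw [mem_centralizer_iff]
        intro m hm
        obtain ⟨hmK, hmN⟩ := hm
        set c : X := m * w * m⁻¹ * w⁻¹ with hc
        have hcK : c ∈ K := by
          have h1 : w * m⁻¹ * w⁻¹ ∈ K := (mem_normalizer_iff.1 (hWK hw) _).1 (K.inv_mem hmK)
          have h2 := K.mul_mem hmK h1
          have h3 : m * (w * m⁻¹ * w⁻¹) = c := by rw [hc]; group
          rwa [h3] at h2
        have hcC : c ∈ centralizer (C : Set X) := by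
          refine Subgroup.mul_mem _ ?_ (inv_mem (hWC hw))
          rw [mem_centralizer_iff]
          intro x hx
          have h1 : m⁻¹ * x * m ∈ C := (mem_normalizer_iff''.1 hmN x).1 hx
          have h2 := mem_centralizer_iff.1 (hWC hw) _ h1
          calc x * (m * w * m⁻¹) = m * ((m⁻¹ * x * m) * w) * m⁻¹ := by group
            _ = m * (w * (m⁻¹ * x * m)) * m⁻¹ := by rw [h2]
            _ = m * w * m⁻¹ * x := by group
        have hcC' : c ∈ C := hCC ⟨hcK, hcC⟩
        have hcw : Commute c w := mem_centralizer_iff.1 (hWC hw) c hcC'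
        have e1 : m * w * m⁻¹ = c * w := by rw [hc]; group
        obtain ⟨k, hk⟩ := hW ⟨w, hw⟩
        have hk' : w ^ p ^ k = 1 := congrArg Subtype.val hk
        have e2 : c ^ p ^ k = 1 := by
          have h1 : (m * w * m⁻¹) ^ p ^ k = m * w ^ p ^ k * m⁻¹ := conj_pow
          rw [hk', mul_one, mul_inv_cancel, e1, hcw.mul_pow, hk', mul_one] at h1
          exact h1
        have e3 : orderOf c ∣ p ^ k := orderOf_dvd_of_pow_eq_one e2
        have e4 : (orderOf c).Coprime p := Nat.Coprime.coprime_dvd_left (K.orderOf_dvd_natCard hcK) hKp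
        have e5 : orderOf c = 1 := Nat.eq_one_of_dvd_coprimes (e4.pow_right k) dvd_rfl e3
        rw [orderOf_eq_one_iff] at e5
        rw [e5, one_mul, mul_inv_eq_iff_eq_mul] at e1
        exact e1
      refine ih N ?_ inf_le_left ?_ hWN
      · have h1 : Nat.card C < Nat.card N := by
          have h2 := Subgroup.card_le_of_le hCN
          rcases h2.lt_or_eq with h | h
          · exact h
          · exact absurd (Subgroup.eq_of_le_of_card_ge hCN (le_of_eq h.symm)) hlt.ne
        omega
      · exact (inf_le_inf_left _ (centralizer_le hCN)).trans (hCC.trans hCN)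

local notation "E" => Cfsg.layer X
local notation "K" => Cfsg.fittingSubgroup X
local notation "F" => Cfsg.generalizedFittingSubgroup X

instance : (F).Normal := by
  have h1 : (Cfsg.layer X).Normal := inferInstance
  have h2 : (Cfsg.fittingSubgroup X).Normal := inferInstance
  exact Subgroup.sup_normal _ _

theorem comm_EK {e f : X} (he : e ∈ E) (hf : f ∈ K) : e * f = f * e :=
  commutator_eq_bot_iff_forall.1 layer_commute_fitting e he f hf

theorem mem_F {y : X} (hy : y ∈ F) : ∃ e ∈ E, ∃ f ∈ K, e * f = y :=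
  mem_sup_of_le_normalizer (by rw [normalizer_eq_top]; exact le_top) hy

/-- `p`-subgroups of `F(X)` lie in `O_p(X)` -/
theorem le_pCore_of_le {W : Subgroup X} (hW : IsPGroup p W) (h : W ≤ K) : W ≤ Cfsg.pCore p X := by
  apply H49.le_pCore_of_isSubnormal _ hW
  exact H62.isSubnormal_of_le_nilpotent h (Normal.isSubnormal inferInstance) Solv.fitting_isNilpotent

theorem mem_pPrimeCore {f : X} (hf : f ∈ K) (hc : (orderOf f).Coprime p) : f ∈ Cfsg.pPrimeCore p X := by
  have h1 : (zpowers f).IsSubnormal :=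
    H62.isSubnormal_of_le_nilpotent (zpowers_le.2 hf) (Normal.isSubnormal inferInstance) Solv.fitting_isNilpotent
  exact le_pPrimeCore_of_isSubnormal h1 (by rwa [Nat.card_zpowers]) (mem_zpowers f)

theorem mem_pCore {f : X} (hf : f ∈ K) {k : ℕ} (hk : f ^ p ^ k = 1) : f ∈ Cfsg.pCore p X := by
  refine le_pCore_of_le (W := zpowers f) ?_ (zpowers_le.2 hf) (mem_zpowers f)
  rw [IsPGroup.iff_orderOf]
  rintro ⟨x, hx⟩
  obtain ⟨i, rfl⟩ := mem_zpowers_iff.1 hx
  have h1 : (f ^ i) ^ p ^ k = 1 := by
    rw [← zpow_natCast, ← zpow_mul, mul_comm, zpow_mul, zpow_natCast, hk, one_zpow]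
  obtain ⟨j, _, hj⟩ := (Nat.dvd_prime_pow hp.out).1 (orderOf_dvd_of_pow_eq_one h1)
  exact ⟨j, by rw [Subgroup.orderOf_mk]; exact hj⟩

theorem comm_cores {a b : X} (ha : a ∈ Cfsg.pPrimeCore p X) (hb : b ∈ Cfsg.pCore p X) : a * b = b * a :=
  commutator_eq_bot_iff_forall.1 pPrimeCore_commute_pCore a ha b hb

/-- a subgroup containing `E(X)` and the `p'`-elements of `F(X)` contains the `p'`-elements of `F*(X)` -/
theorem mem_of_res {Z : Subgroup X} (hE : E ≤ Z) (hK : ∀ f ∈ K, (orderOf f).Coprime p → f ∈ Z) {y : X} (hy : y ∈ F)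
    (hyp : (orderOf y).Coprime p) : y ∈ Z := by
  obtain ⟨e, he, f, hf, rfl⟩ := mem_F hy
  obtain ⟨x, w, hx, hw, hfx, ⟨k, hk⟩, hwp⟩ := split_pp (p := p) f
  have hxK : x ∈ K := (zpowers_le.2 hf) hx
  have hwK : w ∈ K := (zpowers_le.2 hf) hw
  refine mem_of_pow_mem hyp (k := k) ?_
  have h1 : Commute e f := comm_EK he hf
  rw [h1.mul_pow]
  refine Z.mul_mem (Z.pow_mem (hE he) _) ?_
  have h2 : Commute x w := by
    obtain ⟨i, rfl⟩ := mem_zpowers_iff.1 hx
    obtain ⟨j, rfl⟩ := mem_zpowers_iff.1 hw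
    exact (Commute.refl f).zpow_zpow i j
  rw [hfx, h2.mul_pow, hk, one_mul]
  exact Z.pow_mem (hK w hwK hwp) _

/-- the `p'`-elements of `F*(X)` centralize `O_p(X)` -/
theorem res_comm_pCore {y c : X} (hy : y ∈ F) (hyp : (orderOf y).Coprime p) (hc : c ∈ Cfsg.pCore p X) :
    y * c = c * y := by
  have h1 : y ∈ centralizer (Cfsg.pCore p X : Set X) := by
    refine mem_of_res ?_ ?_ hy hyp
    · intro e he
      rw [mem_centralizer_iff]
      intro c hc
      exact (comm_EK he (Solv.pCore_le_fitting p hc)).symm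
    · intro f hf hfp
      rw [mem_centralizer_iff]
      intro c hc
      exact (comm_cores (mem_pPrimeCore hf hfp) hc).symm
  exact (mem_centralizer_iff.1 h1 c hc).symm

/-- `p`-subgroups of `F*(X)` normalized by `E(X)` lie in `O_p(X)` -/
theorem le_pCore_of_normalized {W : Subgroup X} (hW : IsPGroup p W) (hWF : W ≤ F)
    (hEW : E ≤ normalizer (W : Set X)) : W ≤ Cfsg.pCore p X := by
  have hsol : Group.IsSolvable W := by
    haveI := hW.isNilpotent
    infer_instance
  have h1 := layer_commute_solvable hsol hEW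
  rw [commutator_eq_bot_iff_forall] at h1
  apply le_pCore_of_le hW
  intro w hw
  obtain ⟨e, he, f, hf, rfl⟩ := mem_F (hWF hw)
  have h2 : e ∈ E ⊓ centralizer (E : Set X) := by
    refine ⟨he, ?_⟩
    show e ∈ centralizer (E : Set X)
    rw [mem_centralizer_iff]
    intro x hx
    have h3 := h1 x hx _ hw
    have h4 := comm_EK hx hf
    have h5 : x * e * f = e * x * f := by
      calc x * e * f = x * (e * f) := mul_assoc _ _ _
        _ = (e * f) * x := h3
        _ = e * (f * x) := mul_assoc _ _ _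
        _ = e * (x * f) := by rw [h4]
        _ = e * x * f := (mul_assoc _ _ _).symm
    exact mul_right_cancel h5
  rw [← layer_inf_fitting] at h2
  exact (K).mul_mem h2.2 hf

section SC

variable {S : Subgroup X}

theorem layer_le (hS : S.IsSubnormal) (hSC : F ⊓ centralizer (S : Set X) ≤ S) : E ≤ S := by
  rw [layer_le_iff]
  intro L hL
  rcases component_le_or_commute hL hS with h | h
  · exact h
  · refine le_trans (le_inf ?_ ?_) hSC
    · exact (component_le_layer hL).trans layer_le_generalizedFitting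
    · exact commutator_eq_bot_iff_le_centralizer.1 h

theorem mem_of_comm (hS : S.IsSubnormal) (hSF : S ≤ F) (hSC : F ⊓ centralizer (S : Set X) ≤ S) {c : X} (hc : c ∈ K) (h : ∀ f ∈ S, f ∈ K → f * c = c * f) : c ∈ S := by
  apply hSC
  refine ⟨fitting_le_generalizedFitting hc, ?_⟩
  show c ∈ centralizer (S : Set X)
  rw [mem_centralizer_iff]
  intro s hs
  obtain ⟨e, he, f, hf, rfl⟩ := mem_F (hSF hs)
  have heS := layer_le hS hSC he
  have hfS : f ∈ S := by
    have := S.mul_mem (S.inv_mem heS) hs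
    rwa [inv_mul_cancel_left] at this
  rw [mul_assoc, h f hfS hf, ← mul_assoc, comm_EK he hc, mul_assoc]

theorem mem_of_comm' (hS : S.IsSubnormal) (hSF : S ≤ F) (hSC : F ⊓ centralizer (S : Set X) ≤ S) {c : X} (hc : c ∈ K) (hc' : c ∈ Cfsg.pPrimeCore p X)
    (h : ∀ f ∈ S, f ∈ K → (orderOf f).Coprime p → f * c = c * f) : c ∈ S := by
  apply mem_of_comm hS hSF hSC hc
  intro f hfS hf
  obtain ⟨x, w, hx, hw, hfx, ⟨k, hk⟩, hwp⟩ := split_pp (p := p) f
  have hxK : x ∈ K := (zpowers_le.2 hf) hx
  have hwK : w ∈ K := (zpowers_le.2 hf) hw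
  have hwS : w ∈ S := (zpowers_le.2 hfS) hw
  rw [hfx, mul_assoc, h w hwS hwK hwp, ← mul_assoc, ← comm_cores hc' (mem_pCore hxK hk), mul_assoc]

theorem mem_of_comm'' (hS : S.IsSubnormal) (hSF : S ≤ F) (hSC : F ⊓ centralizer (S : Set X) ≤ S) {c : X} (hc : c ∈ Cfsg.pCore p X)
    (h : ∀ f ∈ S, f ∈ Cfsg.pCore p X → f * c = c * f) : c ∈ S := by
  apply mem_of_comm hS hSF hSC (Solv.pCore_le_fitting p hc)
  intro f hfS hf
  obtain ⟨x, w, hx, hw, hfx, ⟨k, hk⟩, hwp⟩ := split_pp (p := p) f
  have hxK : x ∈ K := (zpowers_le.2 hf) hx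
  have hwK : w ∈ K := (zpowers_le.2 hf) hw
  have hxS : x ∈ S := (zpowers_le.2 hfS) hx
  rw [hfx, mul_assoc, comm_cores (mem_pPrimeCore hwK hwp) hc, ← mul_assoc, h x hxS (mem_pCore hxK hk), mul_assoc]

/-- a `p`-group normalized by `S` meeting `F*` in `1`, with `p ∤ #F(X)`, is trivial -/
theorem eq_bot_of_normalized (hS : S.IsSubnormal) (hSF : S ≤ F) (hSC : F ⊓ centralizer (S : Set X) ≤ S) (hpK : ¬ p ∣ Nat.card K) {W : Subgroup X} (hW : IsPGroup p W)
    (hSW : S ≤ normalizer (W : Set X)) : W = ⊥ := by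
  have hcopK : (Nat.card K).Coprime p := ((Nat.Prime.coprime_iff_not_dvd hp.out).2 hpK).symm
  have hES := layer_le hS hSC
  have hWF : W ⊓ F = ⊥ := by
    have h1 : W ⊓ F ≤ Cfsg.pCore p X := by
      apply le_pCore_of_normalized (hW.to_le inf_le_left) inf_le_right
      intro e he
      rw [mem_normalizer_iff]
      intro x
      have h2 := mem_normalizer_iff.1 (hSW (hES he)) x
      have h3 : x ∈ F ↔ e * x * e⁻¹ ∈ F := by
        constructor
        · intro h; exact Normal.conj_mem inferInstance x h e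
        · intro h
          have := Normal.conj_mem (inferInstance : (F).Normal) _ h e⁻¹
          have e1 : e⁻¹ * (e * x * e⁻¹) * e⁻¹⁻¹ = x := by group
          rwa [e1] at this
      rw [mem_inf, mem_inf, h2, h3]
    rw [eq_bot_iff]
    intro x hx
    have h2 := h1 hx
    have h3 : (orderOf x).Coprime p :=
      Nat.Coprime.coprime_dvd_left ((K).orderOf_dvd_natCard (Solv.pCore_le_fitting p h2)) hcopK
    obtain ⟨k, hk⟩ := (Solv.pCore_isPGroup (G := X) p) ⟨x, h2⟩
    have h4 : x ^ p ^ k = 1 := congrArg Subtype.val hk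
    have h5 : orderOf x = 1 := Nat.eq_one_of_dvd_coprimes (h3.pow_right k) dvd_rfl (orderOf_dvd_of_pow_eq_one h4)
    rw [mem_bot]
    exact orderOf_eq_one_iff.1 h5
  have hWS : W ≤ centralizer (S : Set X) := by
    intro w hw
    rw [mem_centralizer_iff]
    intro s hs
    have h1 : s * w * s⁻¹ * w⁻¹ ∈ W ⊓ F := by
      constructor
      · exact W.mul_mem ((mem_normalizer_iff.1 (hSW hs) w).1 hw) (W.inv_mem hw)
      · have h2 : w * s⁻¹ * w⁻¹ ∈ F := Normal.conj_mem inferInstance _ ((F).inv_mem (hSF hs)) w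
        have h3 := (F).mul_mem (hSF hs) h2
        have e1 : s * (w * s⁻¹ * w⁻¹) = s * w * s⁻¹ * w⁻¹ := by group
        rwa [e1] at h3
    rw [hWF, mem_bot, mul_inv_eq_one, mul_inv_eq_iff_eq_mul] at h1
    exact h1
  have hWK : W ≤ centralizer (K : Set X) := by
    refine cent_of_nilp Solv.fitting_isNilpotent hcopK hW (by rw [normalizer_eq_top]; exact le_top) _ (S ⊓ K) le_rfl
      inf_le_right ?_ (hWS.trans (centralizer_le inf_le_left))
    intro c hc
    refine ⟨?_, hc.1⟩
    apply mem_of_comm hS hSF hSC hc.1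
    intro f hfS hf
    exact mem_centralizer_iff.1 hc.2 f ⟨hfS, hf⟩
  have hWF' : W ≤ F := by
    refine le_trans ?_ centralizer_generalizedFitting_le
    intro w hw
    rw [mem_centralizer_iff]
    intro y hy
    obtain ⟨e, he, f, hf, rfl⟩ := mem_F hy
    have h1 := mem_centralizer_iff.1 (hWS hw) e (hES he)
    have h2 := mem_centralizer_iff.1 (hWK hw) f hf
    rw [mul_assoc, h2, ← mul_assoc, h1, mul_assoc]
  rw [← hWF, inf_eq_left.2 hWF']

end SC

end Cfsg.Agent.H79.SubnCent
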