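import Mathlib
import Cfsg.Agent.H79.SubnCent
import Cfsg.Agent.ZJ.SolvFact
import Cfsg.Agent.H36.PStabSec
import Cfsg.Agent.H36.NoSL2
import Cfsg.Agent.Solv.MinNormal

/-!
# Quadratic `p`-elements, `p ≥ 5`, of solvable groups lie in `O_p`
-/

set_option autoImplicit false
set_option linter.style.haveILetI false
set_option linter.unusedSectionVars false

namespace Cfsg.Agent.H79.QuadSolv

open Subgroup Cfsg Cfsg.Agent.H79.SubnCent

universe u

variable {T : Type u} [Group T] [Finite T] {p : ℕ} [hp : Fact p.Prime]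

theorem mem_pCore_of_quad [Group.IsSolvable T] (hp5 : 5 ≤ p) {x : T} {k : ℕ} (hxk : x ^ p ^ k = 1)
    {B : Subgroup T} (hBx : x ∈ centralizer (B : Set T))
    (hB : ∀ y ∈ fittingSubgroup T, ∀ z ∈ zpowers x, y * z * y⁻¹ * z⁻¹ ∈ B) : x ∈ pCore p T := by
  classical
  set C : Subgroup T := centralizer (pCore p T : Set T) with hC
  have hCn : C.Normal := inferInstance
  have hno : ¬ H36.QuadSL2.HasSL2Section p T :=
    H36.NoSL2.not_hasSL2Section_of_isPSolvable hp5 (ZJ.isPSolvable_of_isSolvable p inferInstance)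
  have hzB : zpowers x ≤ centralizer (B : Set T) := zpowers_le.2 hBx
  -- the quadratic action on `O_p`
  have h1 : (QuotientGroup.mk x : T ⧸ C) ∈ pCore p (T ⧸ C) := by
    refine H36.PStabSec.mem_pCore_of_quad (by omega) hno (pCore p T) (Solv.pCore_isPGroup p) (a := x) ?_
    have h2 : ⁅pCore p T, zpowers x⁆ ≤ B := by
      rw [commutator_le]
      intro y hy z hz
      exact hB y (Solv.pCore_le_fitting p hy) z hz
    have h3 : ⁅⁅pCore p T, zpowers x⁆, zpowers x⁆ = ⊥ := by
      rw [commutator_eq_bot_iff_le_centralizer]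
      exact h2.trans (le_centralizer_iff.1 hzB)
    rw [h3]; exact bot_le
  set K' : Subgroup T := fittingSubgroup T ⊓ pPrimeCore p T with hK'
  have hK'n : K'.Normal := inferInstance
  have hK'c : (Nat.card K').Coprime p :=
    Nat.Coprime.coprime_dvd_left (card_dvd_of_le inf_le_right) (Solv.pPrimeCore_card_coprime p)
  -- `x` centralizes the `p'`-part of the Fitting subgroup
  have h4 : x ∈ centralizer (K' : Set T) := by
    rw [mem_centralizer_iff]
    intro y hy
    set c : T := y * x * y⁻¹ * x⁻¹ with hc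
    have hcB : c ∈ B := hB y hy.1 x (mem_zpowers x)
    have hcK : c ∈ K' := by
      have e1 : y * (x * y⁻¹ * x⁻¹) = c := by rw [hc]; group
      rw [← e1]
      exact K'.mul_mem hy (hK'n.conj_mem _ (K'.inv_mem hy) x)
    have hcx : Commute c x := mem_centralizer_iff.1 hBx c hcB
    have e1 : y * x * y⁻¹ = c * x := by rw [hc]; group
    have e2 : c ^ p ^ k = 1 := by
      have h1 : (y * x * y⁻¹) ^ p ^ k = y * x ^ p ^ k * y⁻¹ := conj_pow
      rw [hxk, mul_one, mul_inv_cancel, e1, hcx.mul_pow, hxk, mul_one] at h1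
      exact h1
    have e4 : (orderOf c).Coprime p := Nat.Coprime.coprime_dvd_left (K'.orderOf_dvd_natCard hcK) hK'c
    have e5 : orderOf c = 1 :=
      Nat.eq_one_of_dvd_coprimes (e4.pow_right k) dvd_rfl (orderOf_dvd_of_pow_eq_one e2)
    rw [orderOf_eq_one_iff] at e5
    rw [e5, one_mul, mul_inv_eq_iff_eq_mul] at e1
    exact e1
  set Y : Subgroup T := (pCore p (T ⧸ C)).comap (QuotientGroup.mk' C) with hY
  set N : Subgroup T := Y ⊓ centralizer (K' : Set T) with hN
  have hYn : Y.Normal := inferInstance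
  have hNn : N.Normal := inferInstance
  have hNC : ∀ f ∈ N, f ∈ C → f ∈ fittingSubgroup T := by
    intro f hf hfC
    apply Solv.centralizer_fitting_le
    rw [mem_centralizer_iff]
    intro g hg
    obtain ⟨a, w, ha, hw, hgx, ⟨j, hj⟩, hwp⟩ := split_pp (p := p) g
    have haK : a ∈ fittingSubgroup T := (zpowers_le.2 hg) ha
    have hwK : w ∈ fittingSubgroup T := (zpowers_le.2 hg) hw
    have e1 := mem_centralizer_iff.1 hfC a (mem_pCore haK hj)
    have e2 := mem_centralizer_iff.1 hf.2 w ⟨hwK, mem_pPrimeCore hwK hwp⟩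
    rw [hgx, mul_assoc, e2, ← mul_assoc, e1, mul_assoc]
  have hNnil : Group.IsNilpotent N := by
    apply Group.of_quotient_center_nilpotent
    apply IsPGroup.isNilpotent (p := p)
    intro q
    obtain ⟨n, rfl⟩ := QuotientGroup.mk_surjective q
    obtain ⟨i, hi⟩ := (Solv.pCore_isPGroup (G := T ⧸ C) p) ⟨QuotientGroup.mk' C n, n.2.1⟩
    have hi' : ((n : T)) ^ p ^ i ∈ C := by
      rw [← QuotientGroup.eq_one_iff]
      exact congrArg Subtype.val hi
    have hf : (n : T) ^ p ^ i ∈ fittingSubgroup T := hNC _ (pow_mem n.2 _) hi'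
    obtain ⟨a, w, ha, hw, hgx, ⟨j, hj⟩, hwp⟩ := split_pp (p := p) ((n : T) ^ p ^ i)
    have hwK : w ∈ fittingSubgroup T := (zpowers_le.2 hf) hw
    have haw : Commute a w := by
      obtain ⟨s, rfl⟩ := mem_zpowers_iff.1 ha
      obtain ⟨t, rfl⟩ := mem_zpowers_iff.1 hw
      exact (Commute.refl _).zpow_zpow s t
    have e1 : (n : T) ^ p ^ (i + j) = w ^ p ^ j := by
      rw [pow_add, pow_mul, hgx, haw.mul_pow, hj, one_mul]
    refine ⟨i + j, ?_⟩
    rw [← QuotientGroup.mk_pow, QuotientGroup.eq_one_iff, mem_center_iff]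
    intro m
    apply Subtype.ext
    show (m : T) * (n : T) ^ p ^ (i + j) = (n : T) ^ p ^ (i + j) * (m : T)
    rw [e1]
    exact (mem_centralizer_iff.1 m.2.2 _ (K'.pow_mem ⟨hwK, mem_pPrimeCore hwK hwp⟩ _)).symm
  exact mem_pCore (Solv.le_fitting hNn hNnil ⟨h1, h4⟩) hxk

end Cfsg.Agent.H79.QuadSolv
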